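import Mathlib
import Groth.Prelude.Def_AlgSt
import Groth.Agent.Lib.Helper10.FibQuot

/-!
# The presheaf of isomorphism classes of a category fibred in groupoids

For `𝒳` fibred in groupoids over `C`, `clsPsh h𝒳 : Cᵒᵖ ⥤ Type _` sends `U` to the set of
isomorphism classes of the fibre over `U`; `toCls h𝒳 : 𝒳 ⥤ᵇ ofPsh (clsPsh h𝒳)` is the projection.
If `𝒳` is fibred in setoids, `toCls` is an equivalence over `C`.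
-/

set_option autoImplicit false

universe v₂ u₂ v u

open CategoryTheory Opposite

namespace Groth.Agent.Lib.Helper28.AlgSt.ClsPsh

open Groth.Agent.Lib.Helper10.Fib

variable {C : Type u} [Category.{v} C] {𝒳 : BasedCategory.{v₂, u₂} C}

/-- The class of an object lying over `U`. -/
def clsOf {U : C} (x : 𝒳.obj) (hx : 𝒳.p.obj x = U) : Quotient (fibSetoid 𝒳 U) :=
  Quotient.mk _ ⟨x, hx⟩

lemma clsOf_surj {U : C} (q : Quotient (fibSetoid 𝒳 U)) :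
    ∃ (x : 𝒳.obj) (hx : 𝒳.p.obj x = U), clsOf x hx = q := by
  obtain ⟨⟨x, hx⟩, rfl⟩ := Quotient.exists_rep q
  exact ⟨x, hx, rfl⟩

lemma clsOf_eq_iff (h𝒳 : FibCat.IsFibGrpd 𝒳.p) {U : C} {x y : 𝒳.obj} (hx : 𝒳.p.obj x = U)
    (hy : 𝒳.p.obj y = U) :
    clsOf x hx = clsOf y hy ↔ ∃ a : x ⟶ y, 𝒳.p.IsHomLift (𝟙 U) a := by
  constructor
  · intro h
    have h' : Nonempty ((Functor.Fiber.mk hx : 𝒳.p.Fiber U) ≅ (Functor.Fiber.mk hy : 𝒳.p.Fiber U)) :=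
      Quotient.exact h
    obtain ⟨e⟩ := h'
    exact ⟨e.hom.1, e.hom.2⟩
  · rintro ⟨a, ha⟩
    haveI := IsFibGrpd.isGroupoid_fiber h𝒳 U
    let a' : (Functor.Fiber.mk hx : 𝒳.p.Fiber U) ⟶ (Functor.Fiber.mk hy : 𝒳.p.Fiber U) := ⟨a, ha⟩
    exact Quotient.sound (s := fibSetoid 𝒳 U) (a := Functor.Fiber.mk hx) (b := Functor.Fiber.mk hy)
      ⟨asIso a'⟩

/-- `q` (over `V`) is the pullback of `q'` (over `U`) along `f`. -/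
def Rel {V U : C} (f : V ⟶ U) (q : Quotient (fibSetoid 𝒳 V)) (q' : Quotient (fibSetoid 𝒳 U)) :
    Prop :=
  ∃ (x y : 𝒳.obj) (φ : x ⟶ y) (hx : 𝒳.p.obj x = V) (hy : 𝒳.p.obj y = U),
    𝒳.p.IsHomLift f φ ∧ clsOf x hx = q ∧ clsOf y hy = q'

lemma rel_of_hom {V U : C} (f : V ⟶ U) {x y : 𝒳.obj} (φ : x ⟶ y) [𝒳.p.IsHomLift f φ] :
    Rel f (clsOf x (IsHomLift.domain_eq 𝒳.p f φ)) (clsOf y (IsHomLift.codomain_eq 𝒳.p f φ)) :=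
  ⟨x, y, φ, _, _, inferInstance, rfl, rfl⟩

lemma rel_exists (h𝒳 : FibCat.IsFibGrpd 𝒳.p) {V U : C} (f : V ⟶ U)
    (q' : Quotient (fibSetoid 𝒳 U)) : ∃ q, Rel f q q' := by
  obtain ⟨y, hy, rfl⟩ := clsOf_surj q'
  obtain ⟨x, φ, hφ⟩ := IsFibGrpd.exists_lift' h𝒳 hy f
  have hl : 𝒳.p.IsHomLift f φ := inferInstance
  exact ⟨clsOf x (IsHomLift.domain_eq 𝒳.p f φ), x, y, φ, _, hy, hl, rfl, rfl⟩

lemma rel_unique (h𝒳 : FibCat.IsFibGrpd 𝒳.p) {V U : C} (f : V ⟶ U)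
    {q₁ q₂ : Quotient (fibSetoid 𝒳 V)} {q' : Quotient (fibSetoid 𝒳 U)}
    (h₁ : Rel f q₁ q') (h₂ : Rel f q₂ q') : q₁ = q₂ := by
  obtain ⟨x₁, y₁, φ₁, hx₁, hy₁, hφ₁, rfl, rfl⟩ := h₁
  obtain ⟨x₂, y₂, φ₂, hx₂, hy₂, hφ₂, rfl, e⟩ := h₂
  obtain ⟨θ, hθ⟩ := (clsOf_eq_iff h𝒳 hy₁ hy₂).1 e.symm
  have hsc : 𝒳.p.IsStronglyCartesian f φ₂ := IsFibGrpd.sc h𝒳 f φ₂
  have hl : 𝒳.p.IsHomLift (𝟙 V ≫ f) (φ₁ ≫ θ) := by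
    have h0 : 𝒳.p.IsHomLift (f ≫ 𝟙 U) (φ₁ ≫ θ) := inferInstance
    rw [Category.comp_id] at h0
    rw [Category.id_comp]
    exact h0
  obtain ⟨χ, ⟨hχ1, -⟩, -⟩ := Functor.IsStronglyCartesian.universal_property 𝒳.p f φ₂ (𝟙 V)
    (𝟙 V ≫ f) rfl (φ₁ ≫ θ)
  exact (clsOf_eq_iff h𝒳 hx₁ hx₂).2 ⟨χ, hχ1⟩

lemma rel_id {U : C} (q : Quotient (fibSetoid 𝒳 U)) : Rel (𝟙 U) q q := by
  obtain ⟨x, hx, rfl⟩ := clsOf_surj q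
  exact ⟨x, x, 𝟙 x, hx, hx, IsHomLift.id hx, rfl, rfl⟩

lemma rel_comp (h𝒳 : FibCat.IsFibGrpd 𝒳.p) {W V U : C} (g : W ⟶ V) (f : V ⟶ U)
    {q₁ : Quotient (fibSetoid 𝒳 W)} {q₂ : Quotient (fibSetoid 𝒳 V)}
    {q₃ : Quotient (fibSetoid 𝒳 U)} (h₁ : Rel g q₁ q₂) (h₂ : Rel f q₂ q₃) :
    Rel (g ≫ f) q₁ q₃ := by
  obtain ⟨x₁, y₁, φ₁, hx₁, hy₁, hφ₁, rfl, rfl⟩ := h₁
  obtain ⟨x₂, y₂, φ₂, hx₂, hy₂, hφ₂, e, rfl⟩ := h₂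
  obtain ⟨θ, hθ⟩ := (clsOf_eq_iff h𝒳 hy₁ hx₂).1 e.symm
  have hl : 𝒳.p.IsHomLift (g ≫ f) (φ₁ ≫ θ ≫ φ₂) := by
    have h0 : 𝒳.p.IsHomLift (g ≫ 𝟙 V ≫ f) (φ₁ ≫ θ ≫ φ₂) := inferInstance
    rw [Category.id_comp] at h0
    exact h0
  exact ⟨x₁, y₂, φ₁ ≫ θ ≫ φ₂, hx₁, hy₂, hl, rfl, rfl⟩

/-- The presheaf of isomorphism classes of the fibres. -/
noncomputable def clsPsh (h𝒳 : FibCat.IsFibGrpd 𝒳.p) : Cᵒᵖ ⥤ Type u₂ where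
  obj U := Quotient (fibSetoid 𝒳 U.unop)
  map {U V} f := ↾fun q' => (rel_exists h𝒳 f.unop q').choose
  map_id U := by
    ext q
    exact rel_unique h𝒳 (𝟙 U.unop) (rel_exists h𝒳 (𝟙 U.unop) q).choose_spec (rel_id q)
  map_comp {U V W} f g := by
    ext q
    exact rel_unique h𝒳 (g.unop ≫ f.unop) (rel_exists h𝒳 (g.unop ≫ f.unop) q).choose_spec
      (rel_comp h𝒳 g.unop f.unop (rel_exists h𝒳 g.unop _).choose_spec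
        (rel_exists h𝒳 f.unop q).choose_spec)

lemma clsPsh_map_eq_iff (h𝒳 : FibCat.IsFibGrpd 𝒳.p) {V U : C} (f : V ⟶ U)
    (q : Quotient (fibSetoid 𝒳 V)) (q' : Quotient (fibSetoid 𝒳 U)) :
    (clsPsh h𝒳).map f.op q' = q ↔ Rel f q q' := by
  constructor
  · rintro rfl
    exact (rel_exists h𝒳 f q').choose_spec
  · intro h
    exact rel_unique h𝒳 f (rel_exists h𝒳 f q').choose_spec h

/-- The projection from `𝒳` to the category of its presheaf of isomorphism classes. -/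
noncomputable def toCls (h𝒳 : FibCat.IsFibGrpd 𝒳.p) : 𝒳 ⥤ᵇ Stk.ofPsh (clsPsh h𝒳) where
  toFunctor :=
    { obj := fun x => ⟨𝒳.p.obj x, clsOf x rfl⟩
      map := fun {x y} φ => ⟨𝒳.p.map φ,
        (clsPsh_map_eq_iff h𝒳 (𝒳.p.map φ) _ _).2 ⟨x, y, φ, rfl, rfl, inferInstance, rfl, rfl⟩⟩
      map_id := fun x => Stk.EltObj.hom_ext (𝒳.p.map_id x)
      map_comp := fun φ ψ => Stk.EltObj.hom_ext (𝒳.p.map_comp φ ψ) }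
  w := rfl

lemma toCls_full (h𝒳 : FibCat.IsFibGrpd 𝒳.p) : (toCls h𝒳).toFunctor.Full := by
  constructor
  intro x y m
  obtain ⟨f, hf⟩ : ∃ f : 𝒳.p.obj x ⟶ 𝒳.p.obj y, f = m.hom := ⟨_, rfl⟩
  have hm : (clsPsh h𝒳).map f.op (clsOf y rfl) = clsOf x rfl := by
    rw [hf]
    exact m.map_sec
  obtain ⟨x', y', φ', hx', hy', hφ', ex, ey⟩ := (clsPsh_map_eq_iff h𝒳 f _ _).1 hm
  obtain ⟨α, hα⟩ := (clsOf_eq_iff h𝒳 (U := 𝒳.p.obj x) rfl hx').1 ex.symm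
  obtain ⟨β, hβ⟩ := (clsOf_eq_iff h𝒳 (U := 𝒳.p.obj y) hy' rfl).1 ey
  have hl : 𝒳.p.IsHomLift f (α ≫ φ' ≫ β) := by
    have h0 : 𝒳.p.IsHomLift (𝟙 (𝒳.p.obj x) ≫ f ≫ 𝟙 (𝒳.p.obj y)) (α ≫ φ' ≫ β) := inferInstance
    rw [Category.id_comp, Category.comp_id] at h0
    exact h0
  refine ⟨α ≫ φ' ≫ β, ?_⟩
  apply Stk.EltObj.hom_ext
  exact (IsHomLift.eq_of_isHomLift 𝒳.p f (α ≫ φ' ≫ β)).symm.trans hf

lemma toCls_faithful (h𝒳 : FibCat.IsFibSetoid 𝒳.p) : (toCls h𝒳.1).toFunctor.Faithful := by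
  constructor
  intro x y φ ψ h
  have h0 : 𝒳.p.map φ = 𝒳.p.map ψ := congrArg (fun t => t.hom) h
  have hψ : 𝒳.p.IsStronglyCartesian (𝒳.p.map ψ) ψ := h𝒳.1.isStronglyCartesian ψ
  obtain ⟨χ, ⟨hχ1, hχ2⟩, -⟩ := (sc_map_iff 𝒳.p ψ).1 hψ (𝟙 _) φ (by rw [h0, Category.id_comp])
  have hl : 𝒳.p.IsHomLift (𝟙 (𝒳.p.obj x)) χ := isHomLift_of_eq 𝒳.p _ χ hχ1.symm
  let x' : 𝒳.p.Fiber (𝒳.p.obj x) := ⟨x, rfl⟩
  have hs := h𝒳.2 (𝒳.p.obj x) x' x'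
  have e : (⟨χ, hl⟩ : x' ⟶ x') = 𝟙 x' := Subsingleton.elim _ _
  have e' : χ = 𝟙 x := congrArg (fun t => Functor.Fiber.fiberInclusion.map t) e
  rw [← hχ2, e', Category.id_comp]

theorem toCls_isEquivOver (h𝒳 : FibCat.IsFibSetoid 𝒳.p) : FibCat.IsEquivOver (toCls h𝒳.1) := by
  have := toCls_full h𝒳.1
  have := toCls_faithful h𝒳
  apply isEquivOver_of_ff
  intro y
  obtain ⟨U, q⟩ := y
  change Quotient (fibSetoid 𝒳 U) at q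
  obtain ⟨x₀, h, rfl⟩ := clsOf_surj q
  subst h
  exact ⟨x₀, Iso.refl _,
    (IsHomLift.id rfl : (Stk.ofPsh (clsPsh h𝒳.1)).p.IsHomLift (𝟙 _) (𝟙 ((toCls h𝒳.1).obj x₀)))⟩

end Groth.Agent.Lib.Helper28.AlgSt.ClsPsh
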