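import Mathlib
import Groth.Prelude.Def_AlgSt
import Groth.Agent.Lib.Helper10.StkPsh
import Groth.Agent.Lib.Helper10.FibBC

/-!
# Functors over the base between categories of presheaves

A functor `G : ofPsh Q ⥤ᵇ ofPsh P` over `C` is 2-isomorphic to `ofPshMap (pshMapOf G)` for a unique
map of presheaves `pshMapOf G : Q ⟶ P`; `pshMapOf` is compatible with composition and sends
equivalences over `C` to isomorphisms.
-/

set_option autoImplicit false
set_option backward.isDefEq.respectTransparency false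
set_option backward.isDefEq.respectTransparency.types false

universe w v₂ u₂ v u

open CategoryTheory Opposite

namespace Groth.Agent.Lib.Helper28.AlgSt.PshFun

open Groth.Agent.Lib.Helper10.Fib Groth.Agent.Lib.Helper10.StkPsh

variable {C : Type u} [Category.{v} C] {P Q R : Cᵒᵖ ⥤ Type w}

/-- The map of presheaves underlying a functor over `C` between categories of presheaves. -/
def pshMapOf (G : Stk.ofPsh Q ⥤ᵇ Stk.ofPsh P) : Q ⟶ P where
  app T := ↾fun x => secOf G (⟨T.unop, x⟩ : Stk.EltObj Q)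
  naturality T T' g := by
    ext x
    exact (secOf_map G (⟨g.unop, rfl⟩ : (⟨T'.unop, Q.map g x⟩ : Stk.EltObj Q) ⟶ ⟨T.unop, x⟩)).symm

lemma pshMapOf_app (G : Stk.ofPsh Q ⥤ᵇ Stk.ofPsh P) (a : Stk.EltObj Q) :
    (pshMapOf G).app (op a.base) a.sec = secOf G a := rfl

lemma secOf_ofPshMap (φ : Q ⟶ P) (a : Stk.EltObj Q) :
    secOf (Stk.ofPshMap φ) a = φ.app (op a.base) a.sec := by
  show P.map (eqToHom (Eq.refl a.base)).op (φ.app (op a.base) a.sec) = φ.app (op a.base) a.sec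
  simp

lemma pshMapOf_ofPshMap (φ : Q ⟶ P) : pshMapOf (Stk.ofPshMap φ) = φ := by
  apply NatTrans.ext
  funext T
  ext x
  exact secOf_ofPshMap φ ⟨T.unop, x⟩

/-- A functor over `C` between categories of presheaves is 2-isomorphic to the functor of its
underlying map of presheaves. -/
def isoPshMapOf (G : Stk.ofPsh Q ⥤ᵇ Stk.ofPsh P) : G ≅ Stk.ofPshMap (pshMapOf G) :=
  isoOfSecEq G (Stk.ofPshMap (pshMapOf G)) (fun a => (secOf_ofPshMap (pshMapOf G) a).symm)

lemma pshMapOf_congr {G G' : Stk.ofPsh Q ⥤ᵇ Stk.ofPsh P} (α : G ⟶ G') :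
    pshMapOf G = pshMapOf G' := by
  apply NatTrans.ext
  funext T
  ext x
  exact secOf_eq_of_hom α ⟨T.unop, x⟩

lemma tr_congr {x y : Stk.EltObj P} (h : x = y) {V : C} (hx : x.base = V) (hy : y.base = V) :
    tr x hx = tr y hy := by
  subst h
  rfl

/-- Functors agreeing on objects have the same underlying map of presheaves. -/
lemma pshMapOf_congr_obj (G G' : Stk.ofPsh Q ⥤ᵇ Stk.ofPsh P) (h : ∀ v, G.obj v = G'.obj v) :
    pshMapOf G = pshMapOf G' := by
  apply NatTrans.ext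
  funext T
  ext x
  exact tr_congr (h ⟨T.unop, x⟩) (baseEq G ⟨T.unop, x⟩) (baseEq G' ⟨T.unop, x⟩)

section Comp

variable {𝒜 : BasedCategory.{v₂, u₂} C}

lemma tr_obj (G : Stk.ofPsh Q ⥤ᵇ Stk.ofPsh P) (y : Stk.EltObj Q) {V : C} (hy : y.base = V) :
    tr (G.obj y) ((baseEq G y).trans hy) = secOf G (⟨V, tr y hy⟩ : Stk.EltObj Q) := by
  obtain ⟨b, s⟩ := y
  dsimp only at hy
  subst hy
  have e : tr (⟨b, s⟩ : Stk.EltObj Q) rfl = s := by simp [tr]
  let f : Q.obj (op b) → P.obj (op b) := fun t => secOf G (⟨b, t⟩ : Stk.EltObj Q)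
  exact (congrArg f e).symm

lemma secOf_comp (H : 𝒜 ⥤ᵇ Stk.ofPsh Q) (G : Stk.ofPsh Q ⥤ᵇ Stk.ofPsh P) (a : 𝒜.obj) :
    secOf (BasedFunctor.comp H G) a = (pshMapOf G).app (op (𝒜.p.obj a)) (secOf H a) :=
  tr_obj G (H.obj a) (baseEq H a)

end Comp

lemma pshMapOf_comp (G : Stk.ofPsh R ⥤ᵇ Stk.ofPsh Q) (G' : Stk.ofPsh Q ⥤ᵇ Stk.ofPsh P) :
    pshMapOf (BasedFunctor.comp G G') = pshMapOf G ≫ pshMapOf G' := by
  apply NatTrans.ext
  funext T
  ext x
  exact secOf_comp G G' ⟨T.unop, x⟩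

lemma pshMapOf_id : pshMapOf (BasedFunctor.id (Stk.ofPsh P)) = 𝟙 P := by
  apply NatTrans.ext
  funext T
  ext x
  show P.map (eqToHom (Eq.refl T.unop)).op x = x
  simp

lemma isIso_pshMapOf (G : Stk.ofPsh Q ⥤ᵇ Stk.ofPsh P) (hG : FibCat.IsEquivOver G) :
    IsIso (pshMapOf G) := by
  obtain ⟨G', ⟨η⟩, ⟨ε⟩⟩ := hG
  refine ⟨pshMapOf G', ?_, ?_⟩
  · rw [← pshMapOf_comp, pshMapOf_congr η.hom, pshMapOf_id]
  · rw [← pshMapOf_comp, pshMapOf_congr ε.hom, pshMapOf_id]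

end Groth.Agent.Lib.Helper28.AlgSt.PshFun
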