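import Mathlib
import Groth.Prelude.Def_AlgSt
import Groth.Agent.Lib.Helper28.AlgSt.ClsPsh
import Groth.Agent.Lib.Helper28.AlgSt.PshFun

/-!
# Universal property of the presheaf of isomorphism classes

A functor `G : 𝒳 ⥤ᵇ ofPsh P` over `C` from a category fibred in groupoids factors through
`toCls : 𝒳 ⥤ᵇ ofPsh (clsPsh 𝒳)` via the map of presheaves `clsMap G : clsPsh 𝒳 ⟶ P`.
-/

set_option autoImplicit false
set_option backward.isDefEq.respectTransparency false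
set_option backward.isDefEq.respectTransparency.types false

universe w v₂ u₂ v u

open CategoryTheory Opposite

namespace Groth.Agent.Lib.Helper28.AlgSt.ClsPsh

open Groth.Agent.Lib.Helper10.Fib Groth.Agent.Lib.Helper10.StkPsh
open Groth.Agent.Lib.Helper28.AlgSt.PshFun

variable {C : Type u} [Category.{v} C] {𝒳 : BasedCategory.{v₂, u₂} C} {P : Cᵒᵖ ⥤ Type u₂}

/-- Pointwise criterion for two functors into the category of a presheaf to be 2-isomorphic. -/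
lemma secOf_eq_of_pointwise {P : Cᵒᵖ ⥤ Type w} (G G' : 𝒳 ⥤ᵇ Stk.ofPsh P) (a : 𝒳.obj)
    (k : G.obj a ⟶ G'.obj a) (hk : (Stk.ofPsh P).p.IsHomLift (𝟙 (𝒳.p.obj a)) k) :
    secOf G a = secOf G' a := by
  have h1 : k.hom = eqToHom (baseEq G a) ≫ 𝟙 (𝒳.p.obj a) ≫ eqToHom (baseEq G' a).symm :=
    IsHomLift.fac' (Stk.ofPsh P).p (𝟙 (𝒳.p.obj a)) k
  have h := tr_map k (baseEq G a) (baseEq G' a) (𝟙 (𝒳.p.obj a)) h1
  have h2 : P.map (𝟙 (𝒳.p.obj a)).op (tr (G'.obj a) (baseEq G' a)) =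
      tr (G'.obj a) (baseEq G' a) := by simp
  exact (h.symm.trans h2 : tr (G.obj a) (baseEq G a) = tr (G'.obj a) (baseEq G' a))

/-- Two functors into the category of a presheaf which are pointwise related by morphisms over
identities are 2-isomorphic. -/
def isoOfPointwise {P : Cᵒᵖ ⥤ Type w} (G G' : 𝒳 ⥤ᵇ Stk.ofPsh P)
    (h : ∀ a : 𝒳.obj, ∃ k : G.obj a ⟶ G'.obj a, (Stk.ofPsh P).p.IsHomLift (𝟙 (𝒳.p.obj a)) k) :
    G ≅ G' :=
  isoOfSecEq G G' (fun a => by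
    obtain ⟨k, hk⟩ := h a
    exact secOf_eq_of_pointwise G G' a k hk)

/-- The section of `G` at `x`, transported to the base object `U`. -/
def secAt {P : Cᵒᵖ ⥤ Type w} (G : 𝒳 ⥤ᵇ Stk.ofPsh P) {U : C} (x : 𝒳.obj) (hx : 𝒳.p.obj x = U) :
    P.obj (op U) :=
  P.map (eqToHom hx.symm).op (secOf G x)

lemma secAt_rfl {P : Cᵒᵖ ⥤ Type w} (G : 𝒳 ⥤ᵇ Stk.ofPsh P) (x : 𝒳.obj) :
    secAt G x rfl = secOf G x := by
  simp [secAt]

lemma secAt_of_hom {P : Cᵒᵖ ⥤ Type w} (G : 𝒳 ⥤ᵇ Stk.ofPsh P) {V U : C} (f : V ⟶ U)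
    {x y : 𝒳.obj} (φ : x ⟶ y) [𝒳.p.IsHomLift f φ] (hx : 𝒳.p.obj x = V) (hy : 𝒳.p.obj y = U) :
    P.map f.op (secAt G y hy) = secAt G x hx := by
  subst hx
  subst hy
  have hf : f = 𝒳.p.map φ := IsHomLift.eq_of_isHomLift 𝒳.p f φ
  subst hf
  rw [secAt_rfl, secAt_rfl]
  exact secOf_map G φ

variable (h𝒳 : FibCat.IsFibGrpd 𝒳.p)

/-- The map of presheaves induced on isomorphism classes by a functor to the category of a
presheaf. -/
noncomputable def clsMap (G : 𝒳 ⥤ᵇ Stk.ofPsh P) : clsPsh h𝒳 ⟶ P where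
  app U := ↾(Quotient.lift (fun X : 𝒳.p.Fiber U.unop => secAt G X.1 X.2) (by
    rintro X Y ⟨e⟩
    haveI := e.hom.2
    have h := secAt_of_hom G (𝟙 U.unop) e.hom.1 X.2 Y.2
    simpa using h.symm))
  naturality U V f := by
    ext q'
    obtain ⟨x, y, φ, hx, hy, hφ, e1, e2⟩ := (clsPsh_map_eq_iff h𝒳 f.unop _ q').1 rfl
    have := hφ
    have h := secAt_of_hom G f.unop φ hx hy
    show Quotient.lift (fun X : 𝒳.p.Fiber V.unop => secAt G X.1 X.2) _ ((clsPsh h𝒳).map f q') =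
      P.map f (Quotient.lift (fun X : 𝒳.p.Fiber U.unop => secAt G X.1 X.2) _ q')
    have e1' : (clsPsh h𝒳).map f q' = clsOf x hx := e1.symm
    rw [e1', ← e2]
    exact h.symm

lemma clsMap_clsOf (G : 𝒳 ⥤ᵇ Stk.ofPsh P) {U : C} (x : 𝒳.obj) (hx : 𝒳.p.obj x = U) :
    (clsMap h𝒳 G).app (op U) (clsOf x hx) = secAt G x hx := rfl

lemma secOf_toCls (x : 𝒳.obj) : secOf (toCls h𝒳) x = clsOf x rfl := by
  show (clsPsh h𝒳).map (eqToHom (Eq.refl (𝒳.p.obj x))).op (clsOf x rfl) = clsOf x rfl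
  simp

/-- The factorisation of `G` through `toCls`. -/
noncomputable def toClsCompIso (G : 𝒳 ⥤ᵇ Stk.ofPsh P) :
    BasedFunctor.comp (toCls h𝒳) (Stk.ofPshMap (clsMap h𝒳 G)) ≅ G :=
  isoOfSecEq _ _ (fun x => by
    rw [secOf_comp, pshMapOf_ofPshMap, secOf_toCls, clsMap_clsOf, secAt_rfl])

end Groth.Agent.Lib.Helper28.AlgSt.ClsPsh
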