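import Mathlib
import Groth.Prelude.Def_AlgSt
import Groth.Agent.Lib.Helper28.AlgSt.PshFun

/-!
# The category of a fibre product of presheaves is the 2-fibre product of the categories

For a pullback square of presheaves `F' = H ×_G F` the functor
`pullFun : ofPsh F' ⥤ᵇ fp (ofPshMap ξ) (ofPshMap a)` is an equivalence over `C`.
-/

set_option autoImplicit false
set_option backward.isDefEq.respectTransparency false
set_option backward.isDefEq.respectTransparency.types false

universe w v₂ u₂ v u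

open CategoryTheory CategoryTheory.Limits Opposite

namespace Groth.Agent.Lib.Helper28.AlgSt.PshPull

open Groth.Agent.Lib.Helper10.Fib Groth.Agent.Lib.Helper10.StkPsh
open Groth.Agent.Lib.Helper28.AlgSt.PshFun

variable {C : Type u} [Category.{v} C] {F' F G H : Cᵒᵖ ⥤ Type w}

lemma secOf_comp_ofPshMap {P Q R : Cᵒᵖ ⥤ Type w} (φ : R ⟶ Q) (ψ : Q ⟶ P) (x : Stk.EltObj R) :
    secOf (BasedFunctor.comp (Stk.ofPshMap φ) (Stk.ofPshMap ψ)) x =
      ψ.app (op x.base) (φ.app (op x.base) x.sec) := by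
  show P.map (eqToHom (Eq.refl x.base)).op (ψ.app (op x.base) (φ.app (op x.base) x.sec)) = _
  simp

variable {a : F ⟶ G} {ξ : H ⟶ G} {fst : F' ⟶ F} {snd : F' ⟶ H}

lemma app_isPullback (sq : IsPullback fst snd a ξ) (T : Cᵒᵖ) :
    IsPullback (fst.app T) (snd.app T) (a.app T) (ξ.app T) :=
  sq.map ((evaluation Cᵒᵖ (Type w)).obj T)

lemma w_app (sq : IsPullback fst snd a ξ) (T : Cᵒᵖ) (s : F'.obj T) :
    ξ.app T (snd.app T s) = a.app T (fst.app T s) := by
  have h := congrArg (fun t => t.app T) sq.w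
  exact (ConcreteCategory.congr_hom h s).symm

/-- The 2-isomorphism filling the square of categories of presheaves. -/
def sqIso (sq : IsPullback fst snd a ξ) :
    BasedFunctor.comp (Stk.ofPshMap snd) (Stk.ofPshMap ξ) ≅
      BasedFunctor.comp (Stk.ofPshMap fst) (Stk.ofPshMap a) :=
  isoOfSecEq _ _ (fun x => by
    rw [secOf_comp_ofPshMap, secOf_comp_ofPshMap]
    exact w_app sq _ _)

/-- The comparison functor from the category of the fibre product presheaf to the 2-fibre product. -/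
def pullFun (sq : IsPullback fst snd a ξ) :
    Stk.ofPsh F' ⥤ᵇ FibCat.fp (Stk.ofPshMap ξ) (Stk.ofPshMap a) :=
  FibCat.fpLift (Stk.ofPshMap snd) (Stk.ofPshMap fst) (sqIso sq)

lemma pullFun_faithful (sq : IsPullback fst snd a ξ) : (pullFun sq).toFunctor.Faithful := by
  constructor
  intro s s' m m' h
  have h1 : ((pullFun sq).map m).hom.fst = ((pullFun sq).map m').hom.fst :=
    congrArg (fun t => t.hom.fst) h
  apply Stk.EltObj.hom_ext
  exact congrArg (fun t => t.hom) h1

lemma pullFun_full (sq : IsPullback fst snd a ξ) : (pullFun sq).toFunctor.Full := by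
  constructor
  intro s s' n
  obtain ⟨g, hg⟩ : ∃ g : s.base ⟶ s'.base, g = n.hom.fst.hom := ⟨_, rfl⟩
  have h1 : H.map g.op (snd.app (op s'.base) s'.sec) = snd.app (op s.base) s.sec := by
    rw [hg]
    exact n.hom.fst.map_sec
  have hl : (Stk.ofPsh F).p.IsHomLift g n.hom.snd := by
    have h0 := FibCat.fp_isHomLift_snd _ _ n
    rw [hg]
    exact h0
  have hg2 : g = n.hom.snd.hom :=
    @IsHomLift.eq_of_isHomLift _ _ _ _ (Stk.ofPsh F).p ((pullFun sq).obj s).obj.snd
      ((pullFun sq).obj s').obj.snd g n.hom.snd hl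
  have h2 : F.map g.op (fst.app (op s'.base) s'.sec) = fst.app (op s.base) s.sec := by
    rw [hg2]
    exact n.hom.snd.map_sec
  have hsec : F'.map g.op s'.sec = s.sec := by
    apply Types.ext_of_isPullback (app_isPullback sq (op s.base))
    · rw [← h2]
      exact NatTrans.naturality_apply fst g.op s'.sec
    · rw [← h1]
      exact NatTrans.naturality_apply snd g.op s'.sec
  refine ⟨⟨g, hsec⟩, ?_⟩
  apply ObjectProperty.hom_ext
  apply CategoricalPullback.hom_ext
  · exact Stk.EltObj.hom_ext hg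
  · exact Stk.EltObj.hom_ext hg2

lemma pullFun_ess (sq : IsPullback fst snd a ξ)
    (y : (FibCat.fp (Stk.ofPshMap ξ) (Stk.ofPshMap a)).obj) :
    ∃ (s : (Stk.ofPsh F').obj) (e : (pullFun sq).obj s ≅ y),
      (FibCat.fp (Stk.ofPshMap ξ) (Stk.ofPshMap a)).p.IsHomLift
        (𝟙 ((FibCat.fp (Stk.ofPshMap ξ) (Stk.ofPshMap a)).p.obj y)) e.hom := by
  obtain ⟨⟨h, x, i⟩, hy⟩ := y
  obtain ⟨bh, sh⟩ := h
  obtain ⟨bx, sx⟩ := x
  have hy' : (Stk.ofPsh G).p.IsHomLift (𝟙 bh) i.hom := hy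
  have hb : bh = bx := (IsHomLift.codomain_eq (Stk.ofPsh G).p (𝟙 bh) i.hom).symm
  subst hb
  have hi : i.hom.hom = 𝟙 bh := by
    have h := IsHomLift.fac' (Stk.ofPsh G).p (𝟙 bh) i.hom
    change i.hom.hom = eqToHom (Eq.refl bh) ≫ 𝟙 bh ≫ eqToHom (Eq.refl bh) at h
    simpa using h
  have hsec : a.app (op bh) sx = ξ.app (op bh) sh := by
    have h0 := i.hom.map_sec
    rw [hi] at h0
    change G.map (𝟙 bh).op (a.app (op bh) sx) = ξ.app (op bh) sh at h0
    simpa using h0
  obtain ⟨s, hs1, hs2⟩ := Types.exists_of_isPullback (app_isPullback sq (op bh)) sx sh hsec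
  subst hs1
  subst hs2
  have hl : (Stk.ofPsh G).p.IsHomLift (𝟙 bh) ((pullFun sq).obj ⟨bh, s⟩).obj.iso.hom :=
    ((pullFun sq).obj ⟨bh, s⟩).property
  have hiso : ((pullFun sq).obj ⟨bh, s⟩).obj.iso = i :=
    Iso.ext (hom_eq_of_isHomLift (𝟙 bh) ((pullFun sq).obj ⟨bh, s⟩).obj.iso.hom i.hom)
  subst hiso
  exact ⟨⟨bh, s⟩, Iso.refl _,
    (IsHomLift.id rfl : (FibCat.fp (Stk.ofPshMap ξ) (Stk.ofPshMap a)).p.IsHomLift (𝟙 _)
      (𝟙 ((pullFun sq).obj ⟨bh, s⟩)))⟩

theorem pullFun_isEquivOver (sq : IsPullback fst snd a ξ) : FibCat.IsEquivOver (pullFun sq) := by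
  have := pullFun_faithful sq
  have := pullFun_full sq
  exact isEquivOver_of_ff _ (pullFun_ess sq)

end Groth.Agent.Lib.Helper28.AlgSt.PshPull
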