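import Mathlib
import Groth.Prelude.Def_AlgSt3
import Groth.Prelude.Def_AlgSpRep
import Groth.Agent.Lib.Helper10.AlgStEquiv
import Groth.Agent.Lib.Helper28.AlgSt.PshPull
import Groth.Agent.Lib.Helper28.AlgSt.ClsMap

/-!
# Bridge between maps of presheaves representable by algebraic spaces and 1-morphisms of the
# associated categories fibred in sets
-/

set_option autoImplicit false
set_option backward.isDefEq.respectTransparency false
set_option backward.isDefEq.respectTransparency.types false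

universe u

open CategoryTheory CategoryTheory.Limits AlgebraicGeometry Opposite

namespace Groth.Agent.Lib.Helper28.AlgSt.Bridge

open Groth.Agent.Lib.Helper10.Fib Groth.Agent.Lib.Helper10.StkPsh
open Groth.Agent.Lib.Helper10.AlgStRep
open Groth.Agent.Lib.Helper28.AlgSt.PshFun Groth.Agent.Lib.Helper28.AlgSt.PshPull
open Groth.Agent.Lib.Helper28.AlgSt.ClsPsh

variable {S : Scheme.{u}}

section OverCat

/-- `toOverCat` followed by `ofOverCat` is the identity. -/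
def toOfIso (U : Over S) :
    BasedFunctor.comp (AlgSt.toOverCat U) (AlgSt.ofOverCat U) ≅ BasedFunctor.id (AlgSt.ofSch U) :=
  BasedNatIso.mkNatIso
    (NatIso.ofComponents (fun a => Iso.refl a) (fun {a b} f => by
      apply Stk.EltObj.hom_ext
      exact (Category.comp_id _).trans (Category.id_comp _).symm))
    (fun a => IsHomLift.id rfl)

/-- `ofOverCat` followed by `toOverCat` is the identity. -/
def ofToIso (U : Over S) :
    BasedFunctor.comp (AlgSt.ofOverCat U) (AlgSt.toOverCat U) ≅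
      BasedFunctor.id (FibCat.overCat U) :=
  BasedNatIso.mkNatIso
    (NatIso.ofComponents (fun A => Iso.refl A) (fun {A B} f => by
      apply Over.OverMorphism.ext
      exact (Category.comp_id _).trans (Category.id_comp _).symm))
    (fun A => IsHomLift.id rfl)

theorem isEquivOver_toOverCat (U : Over S) : FibCat.IsEquivOver (AlgSt.toOverCat U) :=
  ⟨AlgSt.ofOverCat U, ⟨toOfIso U⟩, ⟨ofToIso U⟩⟩

theorem isEquivOver_ofOverCat (U : Over S) : FibCat.IsEquivOver (AlgSt.ofOverCat U) :=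
  ⟨AlgSt.toOverCat U, ⟨ofToIso U⟩, ⟨toOfIso U⟩⟩

end OverCat

section Yoneda

variable {U : Over S} {F G : AlgSp.PSp S}

/-- The map of presheaves `h_U ⟶ G` classified by a functor `(Sch/U) ⟶ ofPsh G` over the base. -/
def yMap (y : FibCat.overCat U ⥤ᵇ Stk.ofPsh G) : (AlgSp.pyon S).obj U ⟶ G :=
  pshMapOf (P := G) (Q := (AlgSp.pyon S).obj U) (BasedFunctor.comp (AlgSt.toOverCat U) y)

/-- `toOverCat ⋙ y` is the functor of the map of presheaves `yMap y`. -/
def yIso (y : FibCat.overCat U ⥤ᵇ Stk.ofPsh G) :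
    BasedFunctor.comp (AlgSt.toOverCat U) y ≅ Stk.ofPshMap (yMap y) :=
  isoPshMapOf (P := G) (Q := (AlgSp.pyon S).obj U) (BasedFunctor.comp (AlgSt.toOverCat U) y)

/-- Base change to `(Sch/U)` along `y` versus base change along the map of presheaves `yMap y`. -/
def fpN (a : F ⟶ G) (y : FibCat.overCat U ⥤ᵇ Stk.ofPsh G) :
    FibCat.fp (Stk.ofPshMap (yMap y)) (Stk.ofPshMap a) ⥤ᵇ FibCat.fp y (Stk.ofPshMap a) :=
  fpMap (γ := BasedFunctor.id (Stk.ofPsh G)) (α := AlgSt.toOverCat U)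
    (β := BasedFunctor.id (Stk.ofPsh F)) (G' := Stk.ofPshMap (yMap y)) (G := y)
    (f' := Stk.ofPshMap a) (f := Stk.ofPshMap a) (yIso y).symm (Iso.refl _)

theorem isEquivOver_fpN (a : F ⟶ G) (y : FibCat.overCat U ⥤ᵇ Stk.ofPsh G) :
    FibCat.IsEquivOver (fpN a y) := by
  have := id_full (Stk.ofPsh G)
  have := id_faithful (Stk.ofPsh G)
  exact isEquivOver_fpMap _ _ (isEquivOver_toOverCat U) (isEquivOver_id _)

/-- Base change along `ofOverCat ⋙ ofPshMap ξ` versus base change along `ξ`. -/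
def fpM (a : F ⟶ G) (ξ : (AlgSp.pyon S).obj U ⟶ G) :
    FibCat.fp (BasedFunctor.comp (AlgSt.ofOverCat U) (Stk.ofPshMap ξ)) (Stk.ofPshMap a) ⥤ᵇ
      FibCat.fp (Stk.ofPshMap ξ) (Stk.ofPshMap a) :=
  fpMap (γ := BasedFunctor.id (Stk.ofPsh G)) (α := AlgSt.ofOverCat U)
    (β := BasedFunctor.id (Stk.ofPsh F))
    (G' := BasedFunctor.comp (AlgSt.ofOverCat U) (Stk.ofPshMap ξ)) (G := Stk.ofPshMap ξ)
    (f' := Stk.ofPshMap a) (f := Stk.ofPshMap a) (Iso.refl _) (Iso.refl _)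

theorem isEquivOver_fpM (a : F ⟶ G) (ξ : (AlgSp.pyon S).obj U ⟶ G) :
    FibCat.IsEquivOver (fpM a ξ) := by
  have := id_full (Stk.ofPsh G)
  have := id_faithful (Stk.ofPsh G)
  exact isEquivOver_fpMap _ _ (isEquivOver_ofOverCat U) (isEquivOver_id _)

end Yoneda

section SpMap

variable {U : Over S}

lemma pshMapOf_congr' {P Q : (Over S)ᵒᵖ ⥤ Type (u + 1)} (G G' : Stk.ofPsh Q ⥤ᵇ Stk.ofPsh P)
    (h : ∀ v : Stk.EltObj Q, ∃ k : G.obj v ⟶ G'.obj v,
      (Stk.ofPsh P).p.IsHomLift (𝟙 v.base) k) : pshMapOf G = pshMapOf G' :=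
  pshMapOf_congr (isoOfPointwise G G' h).hom

/-- The map of sheaves attached to a functor to `(Sch/U)` is the map of presheaves underlying its
composite with `ofOverCat`. -/
lemma spMapOfOver_hom {F : AlgSp.Sp S} (Φ : AlgSt.ofSp F ⥤ᵇ FibCat.overCat U) :
    (AlgSt.spMapOfOver Φ).hom =
      pshMapOf (P := (AlgSp.pyon S).obj U) (Q := F.obj) (BasedFunctor.comp Φ (AlgSt.ofOverCat U)) := by
  apply NatTrans.ext
  funext T
  ext x
  obtain ⟨T⟩ := T
  refine (AlgSt.spMapOfOver_app Φ T x).trans ?_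
  apply ULift.ext
  rfl

end SpMap

section Main

variable {F G : AlgSp.PSp S}

/-- A map of presheaves representable by algebraic spaces induces a 1-morphism representable by
algebraic spaces. -/
theorem repByAlgSp1_of_repBySp (a : F ⟶ G) (ha : AlgSp.RepBySp a) :
    AlgSt.RepByAlgSp1 (Stk.ofPshMap a) := by
  intro U y
  have sq := IsPullback.of_hasPullback a (yMap y)
  obtain ⟨hsh, halg⟩ := ha (yMap y) (pullback.fst a (yMap y)) (pullback.snd a (yMap y)) sq
  let F'' : AlgSp.Space S := ⟨⟨pullback a (yMap y), hsh⟩, halg⟩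
  exact ⟨F'', BasedFunctor.comp (pullFun sq) (fpN a y),
    isEquivOver_comp _ _ (pullFun_isEquivOver sq) (isEquivOver_fpN a y)⟩

/-- Any space representing the base change of `ofPshMap a` along `ξ` is isomorphic to the fibre
product presheaf, compatibly with the projections to `h_U`. -/
theorem exists_iso_of_equiv {U : Over S} (a : F ⟶ G) (ξ : (AlgSp.pyon S).obj U ⟶ G)
    {F' : AlgSp.PSp S} {fst : F' ⟶ F} {snd : F' ⟶ (AlgSp.pyon S).obj U}
    (sq : IsPullback fst snd a ξ) (F'' : AlgSp.Sp S)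
    (e'' : AlgSt.ofSp F'' ⥤ᵇ
      FibCat.fp (BasedFunctor.comp (AlgSt.ofOverCat U) (Stk.ofPshMap ξ)) (Stk.ofPshMap a))
    (he'' : FibCat.IsEquivOver e'') :
    ∃ θ : F''.obj ≅ F', θ.hom ≫ snd =
      (AlgSt.spMapOfOver (BasedFunctor.comp e'' (FibCat.fpFst _ _))).hom := by
  obtain ⟨L', ⟨η⟩, ⟨ε⟩⟩ := pullFun_isEquivOver sq
  let E : Stk.ofPsh F''.obj ⥤ᵇ Stk.ofPsh F' :=
    BasedFunctor.comp (BasedFunctor.comp e'' (fpM a ξ)) L'
  have hE : FibCat.IsEquivOver E :=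
    isEquivOver_comp _ _ (isEquivOver_comp _ _ he'' (isEquivOver_fpM a ξ)) ⟨pullFun sq, ⟨ε⟩, ⟨η⟩⟩
  haveI := isIso_pshMapOf E hE
  refine ⟨asIso (pshMapOf E), ?_⟩
  rw [spMapOfOver_hom]
  have h1 : (asIso (pshMapOf E)).hom ≫ snd =
      pshMapOf (BasedFunctor.comp E (Stk.ofPshMap snd)) := by
    rw [pshMapOf_comp, pshMapOf_ofPshMap]
    rfl
  rw [h1]
  apply pshMapOf_congr'
  intro v
  have hε : (FibCat.fp (Stk.ofPshMap ξ) (Stk.ofPshMap a)).p.IsHomLift
      (𝟙 ((FibCat.fp (Stk.ofPshMap ξ) (Stk.ofPshMap a)).p.obj ((fpM a ξ).obj (e''.obj v))))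
      ((natIsoOfBased ε).hom.app ((fpM a ξ).obj (e''.obj v))) :=
    ε.hom.isHomLift' ((fpM a ξ).obj (e''.obj v))
  have hw : (FibCat.fp (Stk.ofPshMap ξ) (Stk.ofPshMap a)).p.obj ((fpM a ξ).obj (e''.obj v)) =
      v.base := ((fpM a ξ).w_obj (e''.obj v)).trans (e''.w_obj v)
  have h2 : (Stk.ofPsh ((AlgSp.pyon S).obj U)).p.IsHomLift
      (𝟙 ((FibCat.fp (Stk.ofPshMap ξ) (Stk.ofPshMap a)).p.obj ((fpM a ξ).obj (e''.obj v))))
      ((FibCat.fpFst (Stk.ofPshMap ξ) (Stk.ofPshMap a)).map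
        ((natIsoOfBased ε).hom.app ((fpM a ξ).obj (e''.obj v)))) :=
    @BasedFunctor.preserves_isHomLift _ _ _ _ (FibCat.fpFst (Stk.ofPshMap ξ) (Stk.ofPshMap a))
      _ _ _ _ _ _ hε
  exact ⟨(FibCat.fpFst (Stk.ofPshMap ξ) (Stk.ofPshMap a)).map
    ((natIsoOfBased ε).hom.app ((fpM a ξ).obj (e''.obj v))), isHomLift_id_of_eq _ hw _⟩

/-- A 1-morphism `ofPshMap a` representable by algebraic spaces comes from a map of presheaves
representable by algebraic spaces. -/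
theorem repBySp_of_repByAlgSp1 (a : F ⟶ G) (h : AlgSt.RepByAlgSp1 (Stk.ofPshMap a)) :
    AlgSp.RepBySp a := by
  intro U ξ F' fst snd sq
  obtain ⟨F'', e'', he''⟩ := h U (BasedFunctor.comp (AlgSt.ofOverCat U) (Stk.ofPshMap ξ))
  obtain ⟨θ, -⟩ := exists_iso_of_equiv a ξ sq F''.obj e'' he''
  exact ((AlgSp.isAlgSpaceP_obj_iff F''.obj).2 F''.property).of_iso θ

theorem repByAlgSpWith_of_repBySpWith (Q : MorphismProperty (AlgSp.Sp S)) (a : F ⟶ G)
    (h : AlgSp.RepBySpWith Q a) : AlgSt.RepByAlgSpWith Q (Stk.ofPshMap a) := by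
  intro U y
  have sq := IsPullback.of_hasPullback a (yMap y)
  obtain ⟨hsh, halg, hQ⟩ := h (yMap y) (pullback.fst a (yMap y)) (pullback.snd a (yMap y)) sq
  let F'' : AlgSp.Space S := ⟨⟨pullback a (yMap y), hsh⟩, halg⟩
  refine ⟨F'', BasedFunctor.comp (pullFun sq) (fpN a y),
    isEquivOver_comp _ _ (pullFun_isEquivOver sq) (isEquivOver_fpN a y), ?_⟩
  have key : AlgSt.spMapOfOver (BasedFunctor.comp (BasedFunctor.comp (pullFun sq) (fpN a y))
      (FibCat.fpFst y (Stk.ofPshMap a))) =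
      (ObjectProperty.homMk (pullback.snd a (yMap y)) : F''.obj ⟶ (AlgSp.yon S).obj U) := by
    apply ObjectProperty.hom_ext
    rw [spMapOfOver_hom]
    exact (pshMapOf_congr' _ (Stk.ofPshMap (pullback.snd a (yMap y)))
      (fun v => ⟨𝟙 _, IsHomLift.id rfl⟩)).trans (pshMapOf_ofPshMap _)
  rw [key]
  exact hQ

theorem repBySpWith_of_repByAlgSpWith (Q : MorphismProperty (AlgSp.Sp S)) [Q.RespectsIso]
    (a : F ⟶ G) (ha : AlgSp.RepBySp a) (h : AlgSt.RepByAlgSpWith Q (Stk.ofPshMap a)) :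
    AlgSp.RepBySpWith Q a := by
  intro U ξ F' fst snd sq
  obtain ⟨hsh, halg⟩ := ha ξ fst snd sq
  refine ⟨hsh, halg, ?_⟩
  obtain ⟨F'', e'', he'', hQ⟩ := h U (BasedFunctor.comp (AlgSt.ofOverCat U) (Stk.ofPshMap ξ))
  obtain ⟨θ, hθ⟩ := exists_iso_of_equiv a ξ sq F''.obj e'' he''
  let θ' : F''.obj ≅ (⟨F', hsh⟩ : AlgSp.Sp S) :=
    (fullyFaithfulSheafToPresheaf (AlgSp.J S) _).preimageIso
      (X := F''.obj) (Y := (⟨F', hsh⟩ : AlgSp.Sp S)) θ
  have key : AlgSt.spMapOfOver (BasedFunctor.comp e'' (FibCat.fpFst _ _)) =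
      θ'.hom ≫ (ObjectProperty.homMk snd : (⟨F', hsh⟩ : AlgSp.Sp S) ⟶ (AlgSp.yon S).obj U) := by
    apply ObjectProperty.hom_ext
    exact hθ.symm
  rw [key] at hQ
  exact (Q.cancel_left_of_respectsIso θ'.hom _).1 hQ

end Main

end Groth.Agent.Lib.Helper28.AlgSt.Bridge
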