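import Mathlib
import Groth.Agent.Lib.Helper28.AlgSt.Bridge
import Groth.Agent.Lib.Helper15.Bootstrap
import Groth.Agent.Lib.Helper16.FpqcCover
import Groth.Agent.Lib.Helper10.FibCart
import Groth.Agent.S12776
import Groth.Agent.S12779

/-!
# Base change of a 1-morphism representable by algebraic spaces to an algebraic space

For `f : 𝒳 ⟶ 𝒴` representable by algebraic spaces (categories fibred in groupoids, no stack
hypothesis), `Z` an algebraic space and `z : ofSp Z ⟶ 𝒴`, the 2-fibre product `fp z f` is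
equivalent over the base to `ofSp V` for an algebraic space `V`.
-/

set_option autoImplicit false
set_option backward.isDefEq.respectTransparency false
set_option backward.isDefEq.respectTransparency.types false

universe v₄ u₄ v₃ u₃ v₂ u₂ v₁ u₁ u

open CategoryTheory CategoryTheory.Limits AlgebraicGeometry Opposite

namespace Groth.Agent.Lib.Helper28.AlgSt.Key

open Groth.Agent.Lib.Helper10.Fib Groth.Agent.Lib.Helper10.StkPsh
open Groth.Agent.Lib.Helper10.AlgStRep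
open Groth.Agent.Lib.Helper28.AlgSt.PshFun Groth.Agent.Lib.Helper28.AlgSt.PshPull
open Groth.Agent.Lib.Helper28.AlgSt.ClsPsh Groth.Agent.Lib.Helper28.AlgSt.Bridge

section Setoid

variable {C : Type u₁} [Category.{v₁} C] {𝒵 : BasedCategory.{v₂, u₂} C}
  {𝒳 : BasedCategory.{v₃, u₃} C} {𝒴 : BasedCategory.{v₄, u₄} C}

/-- The 2-fibre product of a category fibred in setoids with a faithful functor is fibred in
setoids. -/
theorem isFibSetoid_fp_left (h𝒵 : FibCat.IsFibSetoid 𝒵.p) (h𝒳 : FibCat.IsFibGrpd 𝒳.p)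
    (h𝒴 : FibCat.IsFibGrpd 𝒴.p) (z : 𝒵 ⥤ᵇ 𝒴) (f : 𝒳 ⥤ᵇ 𝒴) [f.toFunctor.Faithful] :
    FibCat.IsFibSetoid (FibCat.fp z f).p := by
  refine ⟨isFibGrpd_fp z f h𝒵.1 h𝒳 h𝒴, fun U X Y => ⟨fun m m' => ?_⟩⟩
  have hm := m.2
  have hm' := m'.2
  have l1 : 𝒵.p.IsHomLift (𝟙 U) m.1.hom.fst := (fp_isHomLift_iff z f m.1 (𝟙 U)).1 hm
  have l2 : 𝒵.p.IsHomLift (𝟙 U) m'.1.hom.fst := (fp_isHomLift_iff z f m'.1 (𝟙 U)).1 hm'
  have hX : 𝒵.p.obj X.1.obj.fst = U := X.2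
  have hY : 𝒵.p.obj Y.1.obj.fst = U := Y.2
  have hthin := h𝒵.2 U (Functor.Fiber.mk hX) (Functor.Fiber.mk hY)
  have e0 : (⟨m.1.hom.fst, l1⟩ : (Functor.Fiber.mk hX : 𝒵.p.Fiber U) ⟶ Functor.Fiber.mk hY) =
      ⟨m'.1.hom.fst, l2⟩ := Subsingleton.elim _ _
  have e1 : m.1.hom.fst = m'.1.hom.fst := congrArg Subtype.val e0
  have w1 : z.map m.1.hom.fst ≫ Y.1.obj.iso.hom = X.1.obj.iso.hom ≫ f.map m.1.hom.snd := m.1.hom.w
  have w2 : z.map m'.1.hom.fst ≫ Y.1.obj.iso.hom = X.1.obj.iso.hom ≫ f.map m'.1.hom.snd :=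
    m'.1.hom.w
  have e2 : m.1.hom.snd = m'.1.hom.snd := by
    apply f.toFunctor.map_injective
    apply (cancel_epi X.1.obj.iso.hom).1
    exact w1.symm.trans ((congrArg (fun t => z.map t ≫ Y.1.obj.iso.hom) e1).trans w2)
  apply Subtype.ext
  apply ObjectProperty.hom_ext
  apply CategoricalPullback.hom_ext
  · exact e1
  · exact e2

end Setoid

section Top

variable {S : Scheme.{u}} {𝒳 : BasedCategory.{v₁, u₁} (Over S)} {𝒴 : BasedCategory.{v₂, u₂} (Over S)}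

lemma repByAlgSpWith_top (f : 𝒳 ⥤ᵇ 𝒴) (hf : AlgSt.RepByAlgSp1 f) :
    AlgSt.RepByAlgSpWith (⊤ : MorphismProperty (AlgSp.Sp S)) f := fun U y => by
  obtain ⟨F, e, he⟩ := hf U y
  exact ⟨F, e, he, trivial⟩

lemma repByAlgSp1_of_with (P : MorphismProperty (AlgSp.Sp S)) (f : 𝒳 ⥤ᵇ 𝒴)
    (hf : AlgSt.RepByAlgSpWith P f) : AlgSt.RepByAlgSp1 f := fun U y => by
  obtain ⟨F, e, he, -⟩ := hf U y
  exact ⟨F, e, he⟩

lemma repByAlgSpWith_mono {P Q : MorphismProperty (AlgSp.Sp S)} (f : 𝒳 ⥤ᵇ 𝒴)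
    (h : ∀ (F : AlgSp.Space S) (U : Over S) (g : F.obj ⟶ (AlgSp.yon S).obj U), P g → Q g)
    (hf : AlgSt.RepByAlgSpWith P f) : AlgSt.RepByAlgSpWith Q f := fun U y => by
  obtain ⟨F, e, he, hP⟩ := hf U y
  exact ⟨F, e, he, h F U _ hP⟩

end Top

section Existence

variable {S : Scheme.{u}} {𝒳 𝒴 : AlgSt.Cat S}

/-- **Key lemma, existence part.** -/
theorem exists_space_fp (h𝒳 : FibCat.IsFibGrpd 𝒳.p) (h𝒴 : FibCat.IsFibGrpd 𝒴.p) (f : 𝒳 ⥤ᵇ 𝒴)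
    (hf : AlgSt.RepByAlgSp1 f) (Z : AlgSp.Space S) (z : AlgSt.ofSp Z.obj ⥤ᵇ 𝒴) :
    ∃ (V : AlgSp.Space S) (a : V ⟶ Z) (e : AlgSt.ofSp V.obj ⥤ᵇ FibCat.fp z f),
      FibCat.IsEquivOver e ∧
        Nonempty (BasedFunctor.comp e (FibCat.fpFst z f) ≅ AlgSt.ofSpMap a.hom) := by
  have h𝒵 : FibCat.IsFibGrpd (AlgSt.ofSp Z.obj).p := Stk.isFibGrpd_ofPsh _
  haveI : f.toFunctor.Faithful := Groth.Agent.S12776.result h𝒳 h𝒴 f hf
  have h𝒲 : FibCat.IsFibSetoid (FibCat.fp z f).p :=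
    isFibSetoid_fp_left (isFibSetoid_ofPsh _) h𝒳 h𝒴 z f
  let V₀ : AlgSp.PSp S := clsPsh h𝒲.1
  let a₀ : V₀ ⟶ Z.obj.obj := clsMap h𝒲.1 (FibCat.fpFst z f)
  have e₀ : BasedFunctor.comp (toCls h𝒲.1) (Stk.ofPshMap a₀) ≅ FibCat.fpFst z f :=
    toClsCompIso h𝒲.1 (FibCat.fpFst z f)
  have hfst : AlgSt.RepByAlgSp1 (FibCat.fpFst z f) :=
    repByAlgSp1_of_with _ _
      (Groth.Agent.S12779.result h𝒳 h𝒴 h𝒵 ⊤ f z (repByAlgSpWith_top f hf))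
  have h1 : AlgSt.RepByAlgSp1 (Stk.ofPshMap a₀) :=
    repByAlgSp1_of_square (Stk.ofPshMap a₀) (FibCat.fpFst z f) (toCls h𝒲.1) (BasedFunctor.id _)
      (toCls_isEquivOver h𝒲) (isEquivOver_id _) e₀.symm hfst
  have h2 : AlgSp.RepBySp a₀ := repBySp_of_repByAlgSp1 a₀ h1
  have h3 : AlgSp.IsAlgSpaceP V₀ :=
    Groth.Agent.Lib.Helper15.isAlgSpaceP_of_repBySp a₀ h2
      ((AlgSp.isAlgSpaceP_obj_iff Z.obj).2 Z.property)
  obtain ⟨hsh, halg⟩ := h3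
  let V : AlgSp.Space S := ⟨⟨V₀, hsh⟩, halg⟩
  let a : V ⟶ Z := ObjectProperty.homMk (ObjectProperty.homMk a₀)
  obtain ⟨e, ⟨η⟩, ⟨ε⟩⟩ := toCls_isEquivOver h𝒲
  refine ⟨V, a, e, ⟨toCls h𝒲.1, ⟨ε⟩, ⟨η⟩⟩, ⟨?_⟩⟩
  refine isoOfPointwise _ _ (fun v => ?_)
  have l1 : (Stk.ofPsh Z.obj.obj).p.IsHomLift (𝟙 ((FibCat.fp z f).p.obj (e.obj v)))
      ((natIsoOfBased e₀).inv.app (e.obj v)) := e₀.inv.isHomLift' (e.obj v)
  have l1' : (Stk.ofPsh Z.obj.obj).p.IsHomLift (𝟙 v.base)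
      ((natIsoOfBased e₀).inv.app (e.obj v)) := isHomLift_id_of_eq _ (e.w_obj v) _
  have l2 : (Stk.ofPsh V₀).p.IsHomLift (𝟙 v.base) ((natIsoOfBased ε).hom.app v) :=
    ε.hom.isHomLift' v
  have l3 : (Stk.ofPsh Z.obj.obj).p.IsHomLift (𝟙 v.base)
      ((Stk.ofPshMap a₀).map ((natIsoOfBased ε).hom.app v)) :=
    @BasedFunctor.preserves_isHomLift _ _ _ _ (Stk.ofPshMap a₀) _ _ _ _ _ _ l2
  have l4 : (Stk.ofPsh Z.obj.obj).p.IsHomLift (𝟙 v.base ≫ 𝟙 v.base)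
      ((natIsoOfBased e₀).inv.app (e.obj v) ≫
        (Stk.ofPshMap a₀).map ((natIsoOfBased ε).hom.app v)) := inferInstance
  rw [Category.comp_id] at l4
  exact ⟨_, l4⟩

end Existence

section Property

variable {S : Scheme.{u}}

/-- The restriction of a property of morphisms of sheaves to morphisms between algebraic spaces. -/
def onSpaces (P : MorphismProperty (AlgSp.Sp S)) : MorphismProperty (AlgSp.Sp S) :=
  fun X Y g => AlgSp.IsAlgSpace X ∧ AlgSp.IsAlgSpace Y ∧ P g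

lemma onSpaces_respectsIso (P : MorphismProperty (AlgSp.Sp S))
    (hPb : ∀ ⦃X₁ Y₁ X₂ Y₂ : AlgSp.Sp S⦄, AlgSp.IsAlgSpace X₁ → AlgSp.IsAlgSpace Y₁ →
      AlgSp.IsAlgSpace X₂ → AlgSp.IsAlgSpace Y₂ → ∀ (a : X₁ ⟶ Y₁) (b : Y₂ ⟶ Y₁) (a' : X₂ ⟶ Y₂)
      (b' : X₂ ⟶ X₁), IsPullback b' a' a b → P a → P a') : (onSpaces P).RespectsIso := by
  apply MorphismProperty.RespectsIso.mk
  · rintro X Y Z e g ⟨hY, hZ, hg⟩
    have hX : AlgSp.IsAlgSpace X := hY.of_iso e.symm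
    refine ⟨hX, hZ, hPb hY hZ hX hZ g (𝟙 Z) (e.hom ≫ g) e.hom ?_ hg⟩
    exact IsPullback.of_horiz_isIso ⟨by simp⟩
  · rintro X Y Z e g ⟨hX, hY, hg⟩
    have hZ : AlgSp.IsAlgSpace Z := hY.of_iso e
    refine ⟨hX, hZ, hPb hX hY hX hZ g e.inv (g ≫ e.hom) (𝟙 X) ?_ hg⟩
    exact IsPullback.of_horiz_isIso ⟨by simp⟩

variable {𝒳 𝒴 : AlgSt.Cat S}

/-- **Key lemma, property part.** -/
theorem prop_of_repByAlgSpWith (h𝒳 : FibCat.IsFibGrpd 𝒳.p) (h𝒴 : FibCat.IsFibGrpd 𝒴.p)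
    (P : MorphismProperty (AlgSp.Sp S))
    (hPb : ∀ ⦃X₁ Y₁ X₂ Y₂ : AlgSp.Sp S⦄, AlgSp.IsAlgSpace X₁ → AlgSp.IsAlgSpace Y₁ →
      AlgSp.IsAlgSpace X₂ → AlgSp.IsAlgSpace Y₂ → ∀ (a : X₁ ⟶ Y₁) (b : Y₂ ⟶ Y₁) (a' : X₂ ⟶ Y₂)
      (b' : X₂ ⟶ X₁), IsPullback b' a' a b → P a → P a')
    (hP : AlgSp.IsLocalOnBase AlgSp.IsFppfCover P) (f : 𝒳 ⥤ᵇ 𝒴)
    (hPf : AlgSt.RepByAlgSpWith P f) (Z : AlgSp.Space S) (z : AlgSt.ofSp Z.obj ⥤ᵇ 𝒴)
    (V : AlgSp.Space S) (a : V ⟶ Z) (e : AlgSt.ofSp V.obj ⥤ᵇ FibCat.fp z f)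
    (he : FibCat.IsEquivOver e)
    (hiso : Nonempty (BasedFunctor.comp e (FibCat.fpFst z f) ≅ AlgSt.ofSpMap a.hom)) :
    P a.hom := by
  obtain ⟨iso⟩ := hiso
  obtain ⟨e', ⟨η⟩, ⟨ε⟩⟩ := he
  have h𝒵 : FibCat.IsFibGrpd (AlgSt.ofSp Z.obj).p := Stk.isFibGrpd_ofPsh _
  have hfstQ : AlgSt.RepByAlgSpWith (onSpaces P) (FibCat.fpFst z f) :=
    Groth.Agent.S12779.result h𝒳 h𝒴 h𝒵 (onSpaces P) f z
      (repByAlgSpWith_mono f (fun F U g hg => ⟨F.property, AlgSp.IsAlgSpace.yon_obj U, hg⟩) hPf)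
  have iso₂ : BasedFunctor.comp (FibCat.fpFst z f) (BasedFunctor.id _) ≅
      BasedFunctor.comp e' (AlgSt.ofSpMap a.hom) := by
    refine isoOfPointwise _ _ (fun w => ?_)
    have l1 : (FibCat.fp z f).p.IsHomLift (𝟙 ((FibCat.fp z f).p.obj w))
        ((natIsoOfBased ε).inv.app w) := ε.inv.isHomLift' w
    have l2 : (Stk.ofPsh Z.obj.obj).p.IsHomLift (𝟙 ((FibCat.fp z f).p.obj w))
        ((FibCat.fpFst z f).map ((natIsoOfBased ε).inv.app w)) :=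
      @BasedFunctor.preserves_isHomLift _ _ _ _ (FibCat.fpFst z f) _ _ _ _ _ _ l1
    have l3 : (Stk.ofPsh Z.obj.obj).p.IsHomLift (𝟙 ((AlgSt.ofSp V.obj).p.obj (e'.obj w)))
        ((natIsoOfBased iso).hom.app (e'.obj w)) := iso.hom.isHomLift' (e'.obj w)
    have l3' : (Stk.ofPsh Z.obj.obj).p.IsHomLift (𝟙 ((FibCat.fp z f).p.obj w))
        ((natIsoOfBased iso).hom.app (e'.obj w)) := isHomLift_id_of_eq _ (e'.w_obj w) _
    have l4 : (Stk.ofPsh Z.obj.obj).p.IsHomLift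
        (𝟙 ((FibCat.fp z f).p.obj w) ≫ 𝟙 ((FibCat.fp z f).p.obj w))
        ((FibCat.fpFst z f).map ((natIsoOfBased ε).inv.app w) ≫
          (natIsoOfBased iso).hom.app (e'.obj w)) := inferInstance
    rw [Category.comp_id] at l4
    exact ⟨_, l4⟩
  have hQ : AlgSt.RepByAlgSpWith (onSpaces P) (AlgSt.ofSpMap a.hom) :=
    repByAlgSpWith_of_square (onSpaces P) (AlgSt.ofSpMap a.hom) (FibCat.fpFst z f) e'
      (BasedFunctor.id _) ⟨e, ⟨ε⟩, ⟨η⟩⟩ (isEquivOver_id _) iso₂ hfstQ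
  haveI := onSpaces_respectsIso P hPb
  have hrep : AlgSp.RepBySp a.hom.hom :=
    repBySp_of_repByAlgSp1 a.hom.hom (repByAlgSp1_of_with _ _ hQ)
  have hQ' : AlgSp.RepBySpWith (onSpaces P) a.hom.hom :=
    repBySpWith_of_repByAlgSpWith (onSpaces P) a.hom.hom hrep hQ
  rw [AlgSp.repBySpWith_hom_iff] at hQ'
  obtain ⟨U, p, hpe, hps⟩ := Z.property.atlas
  have sq := IsPullback.of_hasPullback a.hom p
  obtain ⟨hX', -, -, hPsnd⟩ := hQ' p (pullback.fst a.hom p) (pullback.snd a.hom p) sq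
  have hcov : AlgSp.IsFppfCover (fun _ : PUnit.{u + 1} => (AlgSp.yon S).obj U) (fun _ => p) :=
    ⟨fun _ => ⟨Groth.Agent.Lib.Helper16.locP_of_repWith_etale
        Groth.Agent.Lib.Helper16.etLocalST_flat (AlgSp.IsAlgSpace.yon_obj U) Z.property p hpe,
      Groth.Agent.Lib.Helper16.locP_of_repWith_etale
        Groth.Agent.Lib.Helper16.etLocalST_locallyOfFinitePresentation
        (AlgSp.IsAlgSpace.yon_obj U) Z.property p hpe⟩,
      fun x => ⟨PUnit.unit, (Groth.Agent.Lib.Helper16.repWith_surjective_iff p hpe.rep).1 hps x⟩⟩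
  exact (hP (fun _ => (AlgSp.yon S).obj U) (fun _ => p) Z.property
    (fun _ => AlgSp.IsAlgSpace.yon_obj U) hcov a.hom V.property (fun _ => pullback a.hom p)
    (fun _ => pullback.snd a.hom p) (fun _ => pullback.fst a.hom p) (fun _ => hX')
    (fun _ => sq)).2 (fun _ => hPsnd)

end Property

section Converse

variable {S : Scheme.{u}} {𝒳 : BasedCategory.{v₁, u₁} (Over S)} {𝒴 : BasedCategory.{v₂, u₂} (Over S)}

/-- Base change along `toOverCat ⋙ y` versus base change along `y`. -/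
def fpT (f : 𝒳 ⥤ᵇ 𝒴) {U : Over S} (y : FibCat.overCat U ⥤ᵇ 𝒴) :
    FibCat.fp (BasedFunctor.comp (AlgSt.toOverCat U) y) f ⥤ᵇ FibCat.fp y f :=
  fpMap (γ := BasedFunctor.id 𝒴) (α := AlgSt.toOverCat U) (β := BasedFunctor.id 𝒳)
    (G' := BasedFunctor.comp (AlgSt.toOverCat U) y) (G := y) (f' := f) (f := f)
    (Iso.refl _) (Iso.refl _)

theorem isEquivOver_fpT (f : 𝒳 ⥤ᵇ 𝒴) {U : Over S} (y : FibCat.overCat U ⥤ᵇ 𝒴) :
    FibCat.IsEquivOver (fpT f y) := by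
  have := id_full 𝒴
  have := id_faithful 𝒴
  exact isEquivOver_fpMap _ _ (isEquivOver_toOverCat U) (isEquivOver_id _)

/-- If every base change of `f` to an algebraic space is an algebraic space whose projection has
`P`, then `f` is representable by algebraic spaces with `P`. -/
theorem repByAlgSpWith_of_forall_space (P : MorphismProperty (AlgSp.Sp S)) (f : 𝒳 ⥤ᵇ 𝒴)
    (H : ∀ (Z : AlgSp.Space S) (z : AlgSt.ofSp Z.obj ⥤ᵇ 𝒴),
      ∃ (V : AlgSp.Space S) (a : V ⟶ Z) (e : AlgSt.ofSp V.obj ⥤ᵇ FibCat.fp z f),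
        FibCat.IsEquivOver e ∧
          Nonempty (BasedFunctor.comp e (FibCat.fpFst z f) ≅ AlgSt.ofSpMap a.hom) ∧ P a.hom) :
    AlgSt.RepByAlgSpWith P f := by
  intro U y
  obtain ⟨V, a, e, he, ⟨iso⟩, hPa⟩ :=
    H ⟨(AlgSp.yon S).obj U, AlgSp.IsAlgSpace.yon_obj U⟩ (BasedFunctor.comp (AlgSt.toOverCat U) y)
  refine ⟨V, BasedFunctor.comp e (fpT f y), isEquivOver_comp _ _ he (isEquivOver_fpT f y), ?_⟩
  have key : AlgSt.spMapOfOver (BasedFunctor.comp (BasedFunctor.comp e (fpT f y))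
      (FibCat.fpFst y f)) = a.hom := by
    apply ObjectProperty.hom_ext
    rw [spMapOfOver_hom]
    have h1 : pshMapOf (P := (AlgSp.pyon S).obj U) (Q := V.obj.obj)
        (BasedFunctor.comp (BasedFunctor.comp (BasedFunctor.comp e (fpT f y))
          (FibCat.fpFst y f)) (AlgSt.ofOverCat U)) =
        pshMapOf (P := (AlgSp.pyon S).obj U) (Q := V.obj.obj)
          (BasedFunctor.comp e (FibCat.fpFst (BasedFunctor.comp (AlgSt.toOverCat U) y) f)) :=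
      pshMapOf_congr' _ _ (fun v => ⟨𝟙 _, IsHomLift.id (e.w_obj v)⟩)
    rw [h1]
    exact (pshMapOf_congr iso.hom).trans (pshMapOf_ofPshMap _)
  rw [key]
  exact hPa

end Converse

end Groth.Agent.Lib.Helper28.AlgSt.Key
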