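import Mathlib
import Groth.Agent.Lib.Helper28.AlgSt.Key

/-!
# Composition of 1-morphisms representable by algebraic spaces with a property
-/

set_option autoImplicit false
set_option backward.isDefEq.respectTransparency false
set_option backward.isDefEq.respectTransparency.types false

universe v₅ u₅ v₄ u₄ v₃ u₃ v₂ u₂ v₁ u₁ u

open CategoryTheory CategoryTheory.Limits AlgebraicGeometry Opposite

namespace Groth.Agent.Lib.Helper28.AlgSt.Comp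

open Groth.Agent.Lib.Helper10.Fib Groth.Agent.Lib.Helper10.StkPsh
open Groth.Agent.Lib.Helper10.AlgStRep
open Groth.Agent.Lib.Helper28.AlgSt.PshFun Groth.Agent.Lib.Helper28.AlgSt.PshPull
open Groth.Agent.Lib.Helper28.AlgSt.ClsPsh Groth.Agent.Lib.Helper28.AlgSt.Bridge
open Groth.Agent.Lib.Helper28.AlgSt.Key

section Pre

variable {C : Type u₁} [Category.{v₁} C] {𝒲' : BasedCategory.{v₂, u₂} C}
  {𝒲 : BasedCategory.{v₃, u₃} C} {𝒳 : BasedCategory.{v₄, u₄} C} {𝒮 : BasedCategory.{v₅, u₅} C}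

/-- Base change along `α ⋙ G` versus base change along `G`. -/
def fpPre (α : 𝒲' ⥤ᵇ 𝒲) (G : 𝒲 ⥤ᵇ 𝒮) (f : 𝒳 ⥤ᵇ 𝒮) :
    FibCat.fp (BasedFunctor.comp α G) f ⥤ᵇ FibCat.fp G f :=
  fpMap (γ := BasedFunctor.id 𝒮) (α := α) (β := BasedFunctor.id 𝒳)
    (G' := BasedFunctor.comp α G) (G := G) (f' := f) (f := f) (Iso.refl _) (Iso.refl _)

theorem isEquivOver_fpPre (α : 𝒲' ⥤ᵇ 𝒲) (hα : FibCat.IsEquivOver α) (G : 𝒲 ⥤ᵇ 𝒮)
    (f : 𝒳 ⥤ᵇ 𝒮) : FibCat.IsEquivOver (fpPre α G f) := by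
  have := id_full 𝒮
  have := id_faithful 𝒮
  exact isEquivOver_fpMap _ _ hα (isEquivOver_id _)

end Pre

section SpMap

variable {S : Scheme.{u}} {U : Over S}

lemma spMapOfOver_comp {F V : AlgSp.Sp S} (Ψ : AlgSt.ofSp V ⥤ᵇ AlgSt.ofSp F)
    (Φ : AlgSt.ofSp F ⥤ᵇ FibCat.overCat U) :
    (AlgSt.spMapOfOver (BasedFunctor.comp Ψ Φ)).hom =
      pshMapOf (P := F.obj) (Q := V.obj) Ψ ≫ (AlgSt.spMapOfOver Φ).hom := by
  rw [spMapOfOver_hom, spMapOfOver_hom, ← pshMapOf_comp]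
  rfl

end SpMap

section Comp

variable {S : Scheme.{u}} {𝒳 𝒴 𝒵 : AlgSt.Cat S}

/-- Composition of 1-morphisms representable by algebraic spaces with a property `P` that is
stable under base change and composition and fppf local on the base. -/
theorem repByAlgSpWith_comp (h𝒳 : FibCat.IsFibGrpd 𝒳.p) (h𝒴 : FibCat.IsFibGrpd 𝒴.p)
    (P : MorphismProperty (AlgSp.Sp S))
    (hPb : ∀ ⦃X₁ Y₁ X₂ Y₂ : AlgSp.Sp S⦄, AlgSp.IsAlgSpace X₁ → AlgSp.IsAlgSpace Y₁ →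
      AlgSp.IsAlgSpace X₂ → AlgSp.IsAlgSpace Y₂ → ∀ (a : X₁ ⟶ Y₁) (b : Y₂ ⟶ Y₁) (a' : X₂ ⟶ Y₂)
      (b' : X₂ ⟶ X₁), IsPullback b' a' a b → P a → P a')
    (hPc : ∀ ⦃X Y Z : AlgSp.Sp S⦄, AlgSp.IsAlgSpace X → AlgSp.IsAlgSpace Y → AlgSp.IsAlgSpace Z →
      ∀ (a : X ⟶ Y) (b : Y ⟶ Z), P a → P b → P (a ≫ b))
    (hP : AlgSp.IsLocalOnBase AlgSp.IsFppfCover P)
    (f : 𝒳 ⥤ᵇ 𝒴) (g : 𝒴 ⥤ᵇ 𝒵) (hf : AlgSt.RepByAlgSpWith P f)
    (hg : AlgSt.RepByAlgSpWith P g) : AlgSt.RepByAlgSpWith P (BasedFunctor.comp f g) := by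
  intro U y
  obtain ⟨Fg, eg, heg, hPg⟩ := hg U y
  obtain ⟨V, a, e, he, hiso⟩ := exists_space_fp h𝒳 h𝒴 f (repByAlgSp1_of_with P f hf) Fg
    (BasedFunctor.comp eg (FibCat.fpSnd y g))
  have hPa : P a.hom := prop_of_repByAlgSpWith h𝒳 h𝒴 P hPb hP f hf Fg _ V a e he hiso
  obtain ⟨iso⟩ := hiso
  refine ⟨V, BasedFunctor.comp e (BasedFunctor.comp (fpPre eg (FibCat.fpSnd y g) f)
    (paste2 y g f)), isEquivOver_comp _ _ he (isEquivOver_comp _ _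
      (isEquivOver_fpPre eg heg _ f) (isEquivOver_paste2 y g f)), ?_⟩
  have key : AlgSt.spMapOfOver (BasedFunctor.comp (BasedFunctor.comp e (BasedFunctor.comp
      (fpPre eg (FibCat.fpSnd y g) f) (paste2 y g f))) (FibCat.fpFst y (BasedFunctor.comp f g))) =
      a.hom ≫ AlgSt.spMapOfOver (BasedFunctor.comp eg (FibCat.fpFst y g)) := by
    apply ObjectProperty.hom_ext
    have h1 : (AlgSt.spMapOfOver (BasedFunctor.comp (BasedFunctor.comp e (BasedFunctor.comp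
        (fpPre eg (FibCat.fpSnd y g) f) (paste2 y g f)))
          (FibCat.fpFst y (BasedFunctor.comp f g)))).hom =
        (AlgSt.spMapOfOver (BasedFunctor.comp (BasedFunctor.comp e
          (FibCat.fpFst (BasedFunctor.comp eg (FibCat.fpSnd y g)) f))
          (BasedFunctor.comp eg (FibCat.fpFst y g)))).hom := by
      rw [spMapOfOver_hom, spMapOfOver_hom]
      exact pshMapOf_congr_obj _ _ (fun v => rfl)
    rw [h1, spMapOfOver_comp, pshMapOf_congr iso.hom, pshMapOf_ofPshMap]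
    rfl
  rw [key]
  exact hPc V.property Fg.property (AlgSp.IsAlgSpace.yon_obj U) _ _ hPa hPg

end Comp

end Groth.Agent.Lib.Helper28.AlgSt.Comp
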