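import Mathlib
import Groth.Prelude.Def_FibCat2
import Groth.Agent.Lib.Helper10.FibBC

/-!
# Whiskering of 2-isomorphisms of functors over the base
-/

set_option autoImplicit false

universe v₅ u₅ v₄ u₄ v₃ u₃ v₂ u₂ v u

open CategoryTheory

namespace Groth.Agent.Lib.Helper28.AlgSt.Whisker

open Groth.Agent.Lib.Helper10.Fib

variable {C : Type u} [Category.{v} C] {𝒳 : BasedCategory.{v₂, u₂} C}
  {𝒴 : BasedCategory.{v₃, u₃} C} {𝒵 : BasedCategory.{v₄, u₄} C}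

/-- Right whiskering of a 2-isomorphism. -/
def wr {F G : 𝒳 ⥤ᵇ 𝒴} (α : F ≅ G) (H : 𝒴 ⥤ᵇ 𝒵) :
    BasedFunctor.comp F H ≅ BasedFunctor.comp G H :=
  BasedNatIso.mkNatIso (Functor.isoWhiskerRight (natIsoOfBased α) H.toFunctor) (fun a => by
    have h := α.hom.isHomLift' a
    show 𝒵.p.IsHomLift (𝟙 (𝒳.p.obj a)) (H.map ((natIsoOfBased α).hom.app a))
    exact @BasedFunctor.preserves_isHomLift _ _ _ _ H _ _ _ _ _ _ h)

/-- Left whiskering of a 2-isomorphism. -/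
def wl (F : 𝒳 ⥤ᵇ 𝒴) {G H : 𝒴 ⥤ᵇ 𝒵} (α : G ≅ H) :
    BasedFunctor.comp F G ≅ BasedFunctor.comp F H :=
  BasedNatIso.mkNatIso (Functor.isoWhiskerLeft F.toFunctor (natIsoOfBased α))
    (fun a => BasedNatTrans.isHomLift α.hom (F.w_obj a))

end Groth.Agent.Lib.Helper28.AlgSt.Whisker
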