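import Mathlib
import Groth.Agent.Lib.Helper28.AlgSt.Comp
import Groth.Agent.Lib.Helper28.AlgSt.Whisker
import Groth.Agent.Lib.Helper16.FibreProduct

/-!
# Basic consequences of the key lemma
-/

set_option autoImplicit false
set_option backward.isDefEq.respectTransparency false
set_option backward.isDefEq.respectTransparency.types false

universe u

open CategoryTheory CategoryTheory.Limits AlgebraicGeometry Opposite

namespace Groth.Agent.Lib.Helper28.AlgSt.Basic

open Groth.Agent.Lib.Helper10.Fib Groth.Agent.Lib.Helper10.StkPsh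
open Groth.Agent.Lib.Helper10.AlgStRep
open Groth.Agent.Lib.Helper28.AlgSt.PshFun Groth.Agent.Lib.Helper28.AlgSt.Bridge
open Groth.Agent.Lib.Helper28.AlgSt.Key Groth.Agent.Lib.Helper28.AlgSt.Comp
open Groth.Agent.Lib.Helper28.AlgSt.Whisker

variable {S : Scheme.{u}}

/-- Every morphism between algebraic spaces is representable by algebraic spaces. -/
theorem repBySp_of_isAlgSpace {X Y : AlgSp.Sp S} (hX : AlgSp.IsAlgSpace X) (hY : AlgSp.IsAlgSpace Y)
    (a : X ⟶ Y) : AlgSp.RepBySp a.hom :=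
  (AlgSp.repBySp_hom_iff a).2 (fun U _ _ _ _ sq =>
    Groth.Agent.Lib.Helper16.isAlgSpace_of_isPullback hX hY.diag (AlgSp.IsAlgSpace.yon_obj U) sq)

theorem repByAlgSp1_ofSpMap {X Y : AlgSp.Sp S} (hX : AlgSp.IsAlgSpace X) (hY : AlgSp.IsAlgSpace Y)
    (a : X ⟶ Y) : AlgSt.RepByAlgSp1 (AlgSt.ofSpMap a) :=
  repByAlgSp1_of_repBySp a.hom (repBySp_of_isAlgSpace hX hY a)

/-- Every functor over the base between categories of algebraic spaces is representable by
algebraic spaces. -/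
theorem repByAlgSp1_of_ofSp {X Y : AlgSp.Sp S} (hX : AlgSp.IsAlgSpace X) (hY : AlgSp.IsAlgSpace Y)
    (G : AlgSt.ofSp X ⥤ᵇ AlgSt.ofSp Y) : AlgSt.RepByAlgSp1 G := by
  have h := repByAlgSp1_ofSpMap hX hY (ObjectProperty.homMk (pshMapOf (P := Y.obj) (Q := X.obj) G))
  exact repByAlgSp1_of_square G
    (AlgSt.ofSpMap (ObjectProperty.homMk (pshMapOf (P := Y.obj) (Q := X.obj) G) : X ⟶ Y))
    (BasedFunctor.id _) (BasedFunctor.id _) (isEquivOver_id _)
    (isEquivOver_id _) (isoPshMapOf (P := Y.obj) (Q := X.obj) G).symm h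

variable {𝒳 𝒴 : AlgSt.Cat S}

/-- A 1-morphism between categories representable by algebraic spaces is representable by
algebraic spaces. -/
theorem repByAlgSp1_of_repByAlgSp (hX : AlgSt.RepByAlgSp 𝒳) (hY : AlgSt.RepByAlgSp 𝒴)
    (f : 𝒳 ⥤ᵇ 𝒴) : AlgSt.RepByAlgSp1 f := by
  obtain ⟨X, eX, heX⟩ := hX
  obtain ⟨Y, eY, heY⟩ := hY
  obtain ⟨eY', ⟨ηY⟩, ⟨εY⟩⟩ := heY
  have hG : AlgSt.RepByAlgSp1 (BasedFunctor.comp (BasedFunctor.comp eX f) eY') :=
    repByAlgSp1_of_ofSp X.property Y.property _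
  have iso : BasedFunctor.comp (BasedFunctor.comp (BasedFunctor.comp eX f) eY') eY ≅
      BasedFunctor.comp eX f := wl (BasedFunctor.comp eX f) εY
  exact repByAlgSp1_of_square f (BasedFunctor.comp (BasedFunctor.comp eX f) eY') eX eY heX
    ⟨eY', ⟨ηY⟩, ⟨εY⟩⟩ iso hG

end Groth.Agent.Lib.Helper28.AlgSt.Basic
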