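import Mathlib
import Groth.Prelude.Def_FibCat2
import Groth.Agent.Lib.Helper10.FibBC
import Groth.Agent.Lib.Helper10.FibSwap

/-!
# Base change of an equivalence over the base is an equivalence

* `isEquivOver_fpSnd G f hG`: if `G : 𝒵 ⟶ 𝒮` is an equivalence over the base, then the second
  projection `𝒵 ×_𝒮 𝒳 ⟶ 𝒳` is an equivalence over the base.
* `isEquivOver_fpFst`: the symmetric statement.
-/

set_option autoImplicit false

universe v₄ u₄ v₃ u₃ v₂ u₂ v u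

open CategoryTheory Functor CategoryTheory.Limits

namespace Groth.Agent.Lib.Helper28.AlgSt.FpEquiv

open Groth.Agent.Lib.Helper10.Fib

variable {C : Type u} [Category.{v} C] {𝒵 : BasedCategory.{v₂, u₂} C}
  {𝒳 : BasedCategory.{v₃, u₃} C} {𝒮 : BasedCategory.{v₄, u₄} C}
  (G : 𝒵 ⥤ᵇ 𝒮) (f : 𝒳 ⥤ᵇ 𝒮)

theorem fpSnd_faithful [G.toFunctor.Faithful] : (FibCat.fpSnd G f).toFunctor.Faithful :=
  ⟨fun {P P'} m m' hm => by
    have h2 : m.hom.snd = m'.hom.snd := hm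
    have w1 : G.map m.hom.fst ≫ P'.obj.iso.hom = P.obj.iso.hom ≫ f.map m.hom.snd := m.hom.w
    have w2 : G.map m'.hom.fst ≫ P'.obj.iso.hom = P.obj.iso.hom ≫ f.map m'.hom.snd := m'.hom.w
    have h1 : m.hom.fst = m'.hom.fst := by
      apply G.toFunctor.map_injective
      have : G.map m.hom.fst ≫ P'.obj.iso.hom = G.map m'.hom.fst ≫ P'.obj.iso.hom := by
        rw [w1, w2, h2]
      exact (cancel_mono _).1 this
    apply ObjectProperty.hom_ext
    apply CategoricalPullback.hom_ext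
    · exact h1
    · exact h2⟩

theorem fpSnd_full [G.toFunctor.Full] : (FibCat.fpSnd G f).toFunctor.Full :=
  ⟨fun {P P'} k => by
    change P.obj.snd ⟶ P'.obj.snd at k
    obtain ⟨n, hn⟩ := G.toFunctor.map_surjective (P.obj.iso.hom ≫ f.map k ≫ P'.obj.iso.inv)
    have w : G.map n ≫ P'.obj.iso.hom = P.obj.iso.hom ≫ f.map k := by
      change G.toFunctor.map n ≫ _ = _
      rw [hn]
      simp
    exact ⟨ObjectProperty.homMk ⟨n, k, w⟩, rfl⟩⟩

theorem fpSnd_ess (hG : FibCat.IsEquivOver G) (x : 𝒳.obj) :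
    ∃ (P : (FibCat.fp G f).obj) (e : (FibCat.fpSnd G f).obj P ≅ x),
      𝒳.p.IsHomLift (𝟙 (𝒳.p.obj x)) e.hom := by
  obtain ⟨z, e, he⟩ := IsEquivOver.exists_iso hG (f.obj x)
  have := he
  have hz : 𝒮.p.obj (f.obj x) = 𝒵.p.obj z :=
    ((G.w_obj z).symm.trans (IsHomLift.domain_eq 𝒮.p (𝟙 (𝒮.p.obj (f.obj x))) e.hom)).symm
  have hl : 𝒮.p.IsHomLift (𝟙 (𝒵.p.obj z)) e.hom := isHomLift_id_of_eq 𝒮.p hz _
  exact ⟨⟨⟨z, x, e⟩, hl⟩, Iso.refl _, IsHomLift.id rfl⟩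

theorem isEquivOver_fpSnd (hG : FibCat.IsEquivOver G) : FibCat.IsEquivOver (FibCat.fpSnd G f) := by
  have := IsEquivOver.isEquivalence hG
  have := fpSnd_faithful G f
  have := fpSnd_full G f
  exact isEquivOver_of_ff _ (fpSnd_ess G f hG)

/-- The first projection `𝒳 ×_𝒮 𝒵 ⟶ 𝒳` is an equivalence when `G : 𝒵 ⟶ 𝒮` is. -/
theorem isEquivOver_fpFst (hG : FibCat.IsEquivOver G) : FibCat.IsEquivOver (FibCat.fpFst f G) := by
  have h1 : FibCat.IsEquivOver (BasedFunctor.comp (fpSwap f G) (FibCat.fpSnd G f)) :=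
    isEquivOver_comp _ _ (isEquivOver_fpSwap f G) (isEquivOver_fpSnd G f hG)
  exact h1

end Groth.Agent.Lib.Helper28.AlgSt.FpEquiv
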