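import Mathlib
import Groth.Agent.Lib.Helper28.AlgSt.Basic
import Groth.Agent.Lib.Helper28.AlgSt.Comp
import Groth.Agent.Lib.Helper28.AlgSt.FpEquiv
import Groth.Agent.Lib.Helper10.AlgStMagic
import Groth.Agent.Lib.Helper10.FibCart
import Groth.Agent.Lib.Helper10.FibRep
import Groth.Agent.Lib.Helper10.StkPost

/-!
# Representability of the diagonal versus representability of all charts
-/

set_option autoImplicit false
set_option backward.isDefEq.respectTransparency false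
set_option backward.isDefEq.respectTransparency.types false

universe v₄ u₄ v₃ u₃ v₂ u₂ v₁ u₁ u

open CategoryTheory CategoryTheory.Limits AlgebraicGeometry Opposite

namespace Groth.Agent.Lib.Helper28.AlgSt.DiagRep

open Groth.Agent.Lib.Helper10.Fib Groth.Agent.Lib.Helper10.StkPsh
open Groth.Agent.Lib.Helper10.AlgStRep Groth.Agent.Lib.Helper10.StkPost
open Groth.Agent.Lib.Helper28.AlgSt.Bridge Groth.Agent.Lib.Helper28.AlgSt.Key
open Groth.Agent.Lib.Helper28.AlgSt.Basic Groth.Agent.Lib.Helper28.AlgSt.Comp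
open Groth.Agent.Lib.Helper28.AlgSt.FpEquiv

section SelfIso

variable {C : Type u₁} [Category.{v₁} C] {𝒳 : BasedCategory.{v₂, u₂} C}
  {𝒴 : BasedCategory.{v₃, u₃} C} {𝒲 : BasedCategory.{v₄, u₄} C}

/-- Morphisms of a 2-fibre product over the base itself: pairs of morphisms over the same
morphism of the base. -/
def fpSelfHom' {F : 𝒳 ⥤ᵇ FibCat.selfOver C} {G : 𝒴 ⥤ᵇ FibCat.selfOver C}
    {Z X : (FibCat.fp F G).obj} {R S : C} (f : R ⟶ S)
    (ψ₁ : Z.obj.fst ⟶ X.obj.fst) (ψ₂ : Z.obj.snd ⟶ X.obj.snd)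
    (h₁ : 𝒳.p.IsHomLift f ψ₁) (h₂ : 𝒴.p.IsHomLift f ψ₂) : Z ⟶ X :=
  ObjectProperty.homMk ⟨ψ₁, ψ₂, by
    have hX : (𝟭 C).IsHomLift (𝟙 (𝒳.p.obj X.obj.fst)) X.obj.iso.hom := X.property
    have hZ : (𝟭 C).IsHomLift (𝟙 (𝒳.p.obj Z.obj.fst)) Z.obj.iso.hom := Z.property
    have h1 : (𝟭 C).IsHomLift f (F.map ψ₁) := BasedFunctor.preserves_isHomLift F f ψ₁
    have h2 : (𝟭 C).IsHomLift f (G.map ψ₂) := BasedFunctor.preserves_isHomLift G f ψ₂
    have h3 : (𝟭 C).IsHomLift f (F.map ψ₁ ≫ X.obj.iso.hom) :=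
      IsHomLift.comp_lift_id_right' (𝟭 C) f (F.map ψ₁) (𝒳.p.obj X.obj.fst) X.obj.iso.hom
    have h4 : (𝟭 C).IsHomLift f (Z.obj.iso.hom ≫ G.map ψ₂) :=
      IsHomLift.comp_lift_id_left' (𝟭 C) (𝒳.p.obj Z.obj.fst) Z.obj.iso.hom f (G.map ψ₂)
    exact @selfLift_unique C _ R S _ _ f _ _ h3 h4⟩

/-- Two functors over the base into a 2-fibre product over the base itself with isomorphic
components are isomorphic. -/
def fpSelfIso {F : 𝒳 ⥤ᵇ FibCat.selfOver C} {G : 𝒴 ⥤ᵇ FibCat.selfOver C}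
    {H H' : 𝒲 ⥤ᵇ FibCat.fp F G}
    (α₁ : BasedFunctor.comp H (FibCat.fpFst _ _) ≅ BasedFunctor.comp H' (FibCat.fpFst _ _))
    (α₂ : BasedFunctor.comp H (FibCat.fpSnd _ _) ≅ BasedFunctor.comp H' (FibCat.fpSnd _ _)) :
    H ≅ H' :=
  BasedNatIso.mkNatIso
    (NatIso.ofComponents (fun w =>
      { hom := fpSelfHom' (Z := H.obj w) (X := H'.obj w) (𝟙 (𝒲.p.obj w))
          ((natIsoOfBased α₁).hom.app w) ((natIsoOfBased α₂).hom.app w)
          (α₁.hom.isHomLift' w) (α₂.hom.isHomLift' w)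
        inv := fpSelfHom' (Z := H'.obj w) (X := H.obj w) (𝟙 (𝒲.p.obj w))
          ((natIsoOfBased α₁).inv.app w) ((natIsoOfBased α₂).inv.app w)
          (α₁.inv.isHomLift' w) (α₂.inv.isHomLift' w)
        hom_inv_id := by
          apply ObjectProperty.hom_ext
          apply CategoricalPullback.hom_ext
          · exact (natIsoOfBased α₁).hom_inv_id_app w
          · exact (natIsoOfBased α₂).hom_inv_id_app w
        inv_hom_id := by
          apply ObjectProperty.hom_ext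
          apply CategoricalPullback.hom_ext
          · exact (natIsoOfBased α₁).inv_hom_id_app w
          · exact (natIsoOfBased α₂).inv_hom_id_app w })
      (fun {w w'} k => by
        apply ObjectProperty.hom_ext
        apply CategoricalPullback.hom_ext
        · exact (natIsoOfBased α₁).hom.naturality k
        · exact (natIsoOfBased α₂).hom.naturality k))
    (fun w => by
      rw [fp_isHomLift_iff]
      exact α₁.hom.isHomLift' w)

end SelfIso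

variable {S : Scheme.{u}}

theorem repByAlgSp_overCat (U : Over S) : AlgSt.RepByAlgSp (FibCat.overCat U) :=
  ⟨⟨(AlgSp.yon S).obj U, AlgSp.IsAlgSpace.yon_obj U⟩, AlgSt.toOverCat U, isEquivOver_toOverCat U⟩

end Groth.Agent.Lib.Helper28.AlgSt.DiagRep

namespace Groth.Agent.Lib.Helper28.AlgSt.DiagRep

open Groth.Agent.Lib.Helper10.Fib Groth.Agent.Lib.Helper10.StkPsh
open Groth.Agent.Lib.Helper10.AlgStRep Groth.Agent.Lib.Helper10.StkPost
open Groth.Agent.Lib.Helper28.AlgSt.Bridge Groth.Agent.Lib.Helper28.AlgSt.Key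
open Groth.Agent.Lib.Helper28.AlgSt.Basic Groth.Agent.Lib.Helper28.AlgSt.Comp
open Groth.Agent.Lib.Helper28.AlgSt.FpEquiv

variable {S : Scheme.{u}}

section SelfOver

lemma sec_terminal_ext {X : Over S} (a b : ((AlgSp.yon S).obj (Over.mk (𝟙 S))).obj.obj (op X)) :
    a = b := by
  apply ULift.ext
  exact Over.mkIdTerminal.hom_ext _ _

theorem toSelf_ofSch_terminal_faithful :
    (FibCat.toSelf (AlgSt.ofSch (Over.mk (𝟙 S)))).toFunctor.Faithful :=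
  ⟨fun {a b} m m' h => Stk.EltObj.hom_ext h⟩

theorem toSelf_ofSch_terminal_full :
    (FibCat.toSelf (AlgSt.ofSch (Over.mk (𝟙 S)))).toFunctor.Full :=
  ⟨fun {a b} k => ⟨⟨k, sec_terminal_ext _ _⟩, rfl⟩⟩

theorem isEquivOver_toSelf_ofSch_terminal :
    FibCat.IsEquivOver (FibCat.toSelf (AlgSt.ofSch (Over.mk (𝟙 S)))) := by
  have := toSelf_ofSch_terminal_faithful (S := S)
  have := toSelf_ofSch_terminal_full (S := S)
  refine isEquivOver_of_ff _ (fun X => ?_)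
  change Over S at X
  exact ⟨⟨X, ⟨Over.mkIdTerminal.from X⟩⟩, Iso.refl _, IsHomLift.id rfl⟩

theorem repByAlgSp_selfOver : AlgSt.RepByAlgSp (FibCat.selfOver (Over S)) :=
  ⟨⟨(AlgSp.yon S).obj (Over.mk (𝟙 S)), AlgSp.IsAlgSpace.yon_obj _⟩, _,
    isEquivOver_toSelf_ofSch_terminal⟩

end SelfOver

section Rep

variable {𝒳 𝒴 𝒵 : AlgSt.Cat S}

theorem isFibGrpd_of_repByAlgSp (h : AlgSt.RepByAlgSp 𝒳) : FibCat.IsFibGrpd 𝒳.p := by
  obtain ⟨F, e, he⟩ := h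
  exact isFibGrpd_of_isEquivOver e he (Stk.isFibGrpd_ofPsh _)

/-- The source of a 1-morphism representable by algebraic spaces to a category representable by an
algebraic space is representable by an algebraic space. -/
theorem repByAlgSp_of_repByAlgSp1 (h𝒳 : FibCat.IsFibGrpd 𝒳.p) (h𝒴 : AlgSt.RepByAlgSp 𝒴)
    (f : 𝒳 ⥤ᵇ 𝒴) (hf : AlgSt.RepByAlgSp1 f) : AlgSt.RepByAlgSp 𝒳 := by
  have h𝒴' := isFibGrpd_of_repByAlgSp h𝒴
  obtain ⟨F, e, he⟩ := h𝒴
  obtain ⟨V, a, eV, heV, -⟩ := exists_space_fp h𝒳 h𝒴' f hf F e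
  exact ⟨V, BasedFunctor.comp eV (FibCat.fpSnd e f),
    isEquivOver_comp _ _ heV (isEquivOver_fpSnd e f he)⟩

/-- The 2-fibre product of categories representable by algebraic spaces is representable by an
algebraic space. -/
theorem repByAlgSp_fp (h𝒳 : AlgSt.RepByAlgSp 𝒳) (h𝒴 : AlgSt.RepByAlgSp 𝒴)
    (h𝒵 : AlgSt.RepByAlgSp 𝒵) (f : 𝒳 ⥤ᵇ 𝒵) (g : 𝒴 ⥤ᵇ 𝒵) : AlgSt.RepByAlgSp (FibCat.fp f g) := by
  have hg : AlgSt.RepByAlgSp1 g := repByAlgSp1_of_repByAlgSp h𝒴 h𝒵 g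
  have f𝒳 := isFibGrpd_of_repByAlgSp h𝒳
  have f𝒴 := isFibGrpd_of_repByAlgSp h𝒴
  have f𝒵 := isFibGrpd_of_repByAlgSp h𝒵
  obtain ⟨F, e, he⟩ := h𝒳
  obtain ⟨V, a, eV, heV, -⟩ := exists_space_fp f𝒴 f𝒵 g hg F (BasedFunctor.comp e f)
  exact ⟨V, BasedFunctor.comp eV (fpPre e f g),
    isEquivOver_comp _ _ heV (isEquivOver_fpPre e he f g)⟩

end Rep

end Groth.Agent.Lib.Helper28.AlgSt.DiagRep

namespace Groth.Agent.Lib.Helper28.AlgSt.DiagRep

open Groth.Agent.Lib.Helper10.Fib Groth.Agent.Lib.Helper10.StkPsh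
open Groth.Agent.Lib.Helper10.AlgStRep Groth.Agent.Lib.Helper10.StkPost
open Groth.Agent.Lib.Helper28.AlgSt.Bridge Groth.Agent.Lib.Helper28.AlgSt.Key
open Groth.Agent.Lib.Helper28.AlgSt.Basic Groth.Agent.Lib.Helper28.AlgSt.Comp
open Groth.Agent.Lib.Helper28.AlgSt.FpEquiv

section MagicSelf

variable {C : Type u₁} [Category.{v₁} C] {𝒳 : BasedCategory.{v₂, u₂} C}
  {𝒴 : BasedCategory.{v₃, u₃} C} {𝒵 : BasedCategory.{v₄, u₄} C}
  (f : 𝒳 ⥤ᵇ 𝒵) (g : 𝒴 ⥤ᵇ 𝒵)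

/-- The 2-isomorphism of the magic square over the base itself. -/
def magE : BasedFunctor.comp (FibCat.fpFst f g) (BasedFunctor.comp f (FibCat.toSelf 𝒵)) ≅
    BasedFunctor.comp (FibCat.fpSnd f g) (BasedFunctor.comp g (FibCat.toSelf 𝒵)) :=
  selfIso _ _

lemma magE_app (w : (FibCat.fp f g).obj) :
    (magE f g).hom.toNatTrans.app w = (FibCat.toSelf 𝒵).map w.obj.iso.hom := by
  have hw : 𝒵.p.IsHomLift (𝟙 (𝒳.p.obj w.obj.fst)) w.obj.iso.hom := w.property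
  have h1 : (𝟭 C).IsHomLift (𝟙 (𝒳.p.obj w.obj.fst)) ((FibCat.toSelf 𝒵).map w.obj.iso.hom) :=
    BasedFunctor.preserves_isHomLift (FibCat.toSelf 𝒵) _ _
  have h2 : (𝟭 C).IsHomLift (𝟙 (𝒳.p.obj w.obj.fst)) ((magE f g).hom.toNatTrans.app w) :=
    (magE f g).hom.isHomLift' w
  exact @selfLift_unique C _ _ _ _ _ (𝟙 (𝒳.p.obj w.obj.fst)) _ _ h2 h1

end MagicSelf

variable {S : Scheme.{u}}

section Forward

variable {𝒳 : AlgSt.Cat S}

/-- (1) ⇒ (3): if the diagonal of `𝒳` is representable by algebraic spaces then so is every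
1-morphism from a scheme. -/
theorem repByAlgSp1_of_diag (h𝒳 : FibCat.IsFibGrpd 𝒳.p)
    (hΔ : AlgSt.RepByAlgSp1 (FibCat.diag (FibCat.toSelf 𝒳))) (U : Over S)
    (x : FibCat.overCat U ⥤ᵇ 𝒳) : AlgSt.RepByAlgSp1 x := by
  intro V y
  have hm := repByAlgSpWith_magic ⊤ (isFibGrpd_overForget V) (isFibGrpd_overForget U) h𝒳
    (isFibGrpd_selfOver _) y x (FibCat.toSelf 𝒳) (magE y x) (magE_app y x)
    (repByAlgSpWith_top _ hΔ)
  have hm1 := repByAlgSp1_of_with _ _ hm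
  have hT : AlgSt.RepByAlgSp (FibCat.fp (BasedFunctor.comp y (FibCat.toSelf 𝒳))
      (BasedFunctor.comp x (FibCat.toSelf 𝒳))) :=
    repByAlgSp_fp (repByAlgSp_overCat V) (repByAlgSp_overCat U) repByAlgSp_selfOver _ _
  exact repByAlgSp_of_repByAlgSp1
    (isFibGrpd_fp y x (isFibGrpd_overForget V) (isFibGrpd_overForget U) h𝒳) hT _ hm1

end Forward

end Groth.Agent.Lib.Helper28.AlgSt.DiagRep

namespace Groth.Agent.Lib.Helper28.AlgSt.DiagRep

open Groth.Agent.Lib.Helper10.Fib Groth.Agent.Lib.Helper10.StkPsh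
open Groth.Agent.Lib.Helper10.AlgStRep Groth.Agent.Lib.Helper10.StkPost
open Groth.Agent.Lib.Helper28.AlgSt.Bridge Groth.Agent.Lib.Helper28.AlgSt.Key
open Groth.Agent.Lib.Helper28.AlgSt.Basic Groth.Agent.Lib.Helper28.AlgSt.Comp
open Groth.Agent.Lib.Helper28.AlgSt.FpEquiv

variable {S : Scheme.{u}}

section Backward

theorem repByAlgSp_of_isEquivOver {𝒳 : BasedCategory.{v₁, u₁} (Over S)}
    {𝒴 : BasedCategory.{v₂, u₂} (Over S)} (e : 𝒳 ⥤ᵇ 𝒴) (he : FibCat.IsEquivOver e)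
    (h : AlgSt.RepByAlgSp 𝒳) : AlgSt.RepByAlgSp 𝒴 := by
  obtain ⟨F, e₀, he₀⟩ := h
  exact ⟨F, BasedFunctor.comp e₀ e, isEquivOver_comp _ _ he₀ he⟩

variable {𝒳 : AlgSt.Cat S}

/-- (3) ⇒ (1): if every 1-morphism from a scheme to `𝒳` is representable by algebraic spaces
then so is the diagonal of `𝒳`. -/
theorem repByAlgSp1_diag_of_forall (h𝒳 : FibCat.IsFibGrpd 𝒳.p)
    (hyp : ∀ (U : Over S) (x : FibCat.overCat U ⥤ᵇ 𝒳), AlgSt.RepByAlgSp1 x) :
    AlgSt.RepByAlgSp1 (FibCat.diag (FibCat.toSelf 𝒳)) := by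
  intro W H
  let t := FibCat.toSelf 𝒳
  let H₁ : FibCat.overCat W ⥤ᵇ 𝒳 := BasedFunctor.comp H (FibCat.fpFst t t)
  let H₂ : FibCat.overCat W ⥤ᵇ 𝒳 := BasedFunctor.comp H (FibCat.fpSnd t t)
  let Δ' : FibCat.overCat W ⥤ᵇ FibCat.fp (BasedFunctor.comp H₁ t) (BasedFunctor.comp H₂ t) :=
    FibCat.fpLift (BasedFunctor.id _) (BasedFunctor.id _) (selfIso _ _)
  let N := magN H₁ H₂ t
  let α : H ≅ BasedFunctor.comp Δ' N := fpSelfIso (Iso.refl _) (Iso.refl _)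
  have hO := isFibGrpd_overForget W
  -- `fp N diag` is an algebraic space
  have h1 : AlgSt.RepByAlgSp (FibCat.fp H₁ H₂) := hyp W H₂ W H₁
  have h2 : AlgSt.RepByAlgSp (FibCat.fp N (FibCat.diag t)) :=
    repByAlgSp_of_isEquivOver (magLam H₁ H₂ t (magE H₁ H₂) (magE_app H₁ H₂))
      (isEquivOver_magLam H₁ H₂ t (magE H₁ H₂) (magE_app H₁ H₂) hO hO h𝒳 (isFibGrpd_selfOver _)) h1
  have h3 : AlgSt.RepByAlgSp (FibCat.fp (BasedFunctor.comp H₁ t) (BasedFunctor.comp H₂ t)) :=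
    repByAlgSp_fp (repByAlgSp_overCat W) (repByAlgSp_overCat W) repByAlgSp_selfOver _ _
  have h4 : AlgSt.RepByAlgSp (FibCat.fp Δ' (FibCat.fpFst N (FibCat.diag t))) :=
    repByAlgSp_fp (repByAlgSp_overCat W) h2 h3 _ _
  have h5 : AlgSt.RepByAlgSp (FibCat.fp (BasedFunctor.comp Δ' N) (FibCat.diag t)) :=
    repByAlgSp_of_isEquivOver (paste1 Δ' N (FibCat.diag t)) (isEquivOver_paste1 _ _ _) h4
  have := id_full (FibCat.fp t t)
  have := id_faithful (FibCat.fp t t)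
  exact repByAlgSp_of_isEquivOver
    (fpMap (γ := BasedFunctor.id (FibCat.fp t t)) (α := BasedFunctor.id (FibCat.overCat W))
      (β := BasedFunctor.id 𝒳) (G' := BasedFunctor.comp Δ' N) (G := H)
      (f' := FibCat.diag t) (f := FibCat.diag t) α.symm (Iso.refl _))
    (isEquivOver_fpMap _ _ (isEquivOver_id _) (isEquivOver_id _)) h5

end Backward

end Groth.Agent.Lib.Helper28.AlgSt.DiagRep
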