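import Mathlib
import Groth.Agent.Lib.Helper28.AlgSt.Comp

/-!
# Composition: convenient forms
-/

set_option autoImplicit false

universe u

open CategoryTheory CategoryTheory.Limits AlgebraicGeometry Opposite

namespace Groth.Agent.Lib.Helper28.AlgSt.Comp

variable {S : Scheme.{u}}

/-- Locality on the base for fpqc coverings implies locality for fppf coverings. -/
theorem isLocalOnBase_fppf_of_fpqc {P : MorphismProperty (AlgSp.Sp S)}
    (h : AlgSp.IsLocalOnBase AlgSp.IsFpqcCover P) : AlgSp.IsLocalOnBase AlgSp.IsFppfCover P :=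
  fun _ _ Yi g hY hYi hcov _ f hX Xi p q hXi hsq =>
    h Yi g hY hYi (Groth.Agent.Lib.Helper16.isFpqcCover_of_isFppfCover hY Yi hYi g hcov) f hX Xi p q
      hXi hsq

variable {𝒳 𝒴 𝒵 : AlgSt.Cat S}

theorem repByAlgSpWith_comp_of_stable (h𝒳 : FibCat.IsFibGrpd 𝒳.p) (h𝒴 : FibCat.IsFibGrpd 𝒴.p)
    (P : MorphismProperty (AlgSp.Sp S)) [P.IsStableUnderBaseChange] [P.IsStableUnderComposition]
    (hP : AlgSp.IsLocalOnBase AlgSp.IsFppfCover P)
    (f : 𝒳 ⥤ᵇ 𝒴) (g : 𝒴 ⥤ᵇ 𝒵) (hf : AlgSt.RepByAlgSpWith P f)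
    (hg : AlgSt.RepByAlgSpWith P g) : AlgSt.RepByAlgSpWith P (BasedFunctor.comp f g) :=
  repByAlgSpWith_comp h𝒳 h𝒴 P (fun _ _ _ _ _ _ _ _ _ _ _ _ sq ha => P.of_isPullback sq ha)
    (fun _ _ _ _ _ _ _ _ ha hb => P.comp_mem _ _ ha hb) hP f g hf hg

end Groth.Agent.Lib.Helper28.AlgSt.Comp
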