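import Mathlib
import Groth.Agent.Lib.Helper28.AlgSt.CompInst
import Groth.Agent.Lib.Helper16.SmoothEt
import Groth.Agent.Lib.Helper16.LocPGen
import Groth.Agent.Lib.Helper16.LocPFpqc
import Groth.Agent.Lib.Helper16.Points

/-!
# Stability properties of smooth and surjective morphisms of algebraic spaces, in the form needed
for `repByAlgSpWith_comp`
-/

set_option autoImplicit false

universe u

open CategoryTheory CategoryTheory.Limits AlgebraicGeometry Opposite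

namespace Groth.Agent.Lib.Helper28.AlgSt.PropInst

open Groth.Agent.Lib.Helper16 Groth.Agent.Lib.Helper28.AlgSt.Comp

variable {S : Scheme.{u}}

/-- Hypothesis shape: stability under base change between algebraic spaces. -/
def BC (P : MorphismProperty (AlgSp.Sp S)) : Prop :=
  ∀ ⦃X₁ Y₁ X₂ Y₂ : AlgSp.Sp S⦄, AlgSp.IsAlgSpace X₁ → AlgSp.IsAlgSpace Y₁ →
      AlgSp.IsAlgSpace X₂ → AlgSp.IsAlgSpace Y₂ → ∀ (a : X₁ ⟶ Y₁) (b : Y₂ ⟶ Y₁) (a' : X₂ ⟶ Y₂)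
      (b' : X₂ ⟶ X₁), IsPullback b' a' a b → P a → P a'

/-- Hypothesis shape: stability under composition of morphisms of algebraic spaces. -/
def CO (P : MorphismProperty (AlgSp.Sp S)) : Prop :=
  ∀ ⦃X Y Z : AlgSp.Sp S⦄, AlgSp.IsAlgSpace X → AlgSp.IsAlgSpace Y → AlgSp.IsAlgSpace Z →
      ∀ (a : X ⟶ Y) (b : Y ⟶ Z), P a → P b → P (a ≫ b)

theorem bc_locP {P : MorphismProperty Scheme.{u}} (hP : EtLocalST P) : BC (S := S) (AlgSp.LocP P) :=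
  fun _ _ _ _ hX₁ hY₁ _ _ _ _ _ _ sq ha => locP_of_isPullback hP hX₁ hY₁ sq ha

theorem co_locP {P : MorphismProperty Scheme.{u}} (hP : EtLocalST P) : CO (S := S) (AlgSp.LocP P) :=
  fun _ _ _ hX hY hZ a b ha hb => locP_comp hP hX hY hZ a b ha hb

theorem bc_surjective : BC (S := S) AlgSp.IsSurjectiveMor :=
  fun _ _ _ _ _ _ _ _ a b a' b' sq ha y' => by
    obtain ⟨x, hx⟩ := ha (AlgSp.Points.map b y')
    obtain ⟨z, -, hz⟩ := exists_point_of_isPullback sq x y' hx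
    exact ⟨z, hz⟩

theorem co_surjective : CO (S := S) AlgSp.IsSurjectiveMor :=
  fun _ _ _ _ _ _ a b ha hb z => by
    obtain ⟨y, hy⟩ := hb z
    obtain ⟨x, hx⟩ := ha y
    exact ⟨x, by rw [AlgSp.Points.map_comp, hx, hy]⟩

theorem local_surjective : AlgSp.IsLocalOnBase AlgSp.IsFppfCover (AlgSp.IsSurjectiveMor (S := S)) := by
  intro ι Y Yi g hY hYi hcov X f hX Xi p q hXi sq
  constructor
  · intro hf i y'
    obtain ⟨x, hx⟩ := hf (AlgSp.Points.map (g i) y')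
    obtain ⟨z, -, hz⟩ := exists_point_of_isPullback (sq i) x y' hx
    exact ⟨z, hz⟩
  · intro hp y
    obtain ⟨i, yi, hyi⟩ := hcov.2 y
    obtain ⟨xi, hxi⟩ := hp i yi
    refine ⟨AlgSp.Points.map (q i) xi, ?_⟩
    rw [← AlgSp.Points.map_comp, (sq i).w, AlgSp.Points.map_comp, hxi, hyi]

theorem local_smooth : AlgSp.IsLocalOnBase AlgSp.IsFppfCover (AlgSp.LocP (S := S) @Smooth) :=
  isLocalOnBase_fppf_of_fpqc (isLocalOnBase_fpqc_locP etLocalST_smooth)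

variable {𝒳 𝒴 𝒵 : AlgSt.Cat S}

theorem repByAlgSpWith_comp_smooth (h𝒳 : FibCat.IsFibGrpd 𝒳.p) (h𝒴 : FibCat.IsFibGrpd 𝒴.p)
    (f : 𝒳 ⥤ᵇ 𝒴) (g : 𝒴 ⥤ᵇ 𝒵) (hf : AlgSt.RepByAlgSpWith (AlgSp.LocP @Smooth) f)
    (hg : AlgSt.RepByAlgSpWith (AlgSp.LocP @Smooth) g) :
    AlgSt.RepByAlgSpWith (AlgSp.LocP @Smooth) (BasedFunctor.comp f g) :=
  repByAlgSpWith_comp h𝒳 h𝒴 _ (bc_locP etLocalST_smooth) (co_locP etLocalST_smooth) local_smooth
    f g hf hg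

theorem repByAlgSpWith_comp_surjective (h𝒳 : FibCat.IsFibGrpd 𝒳.p) (h𝒴 : FibCat.IsFibGrpd 𝒴.p)
    (f : 𝒳 ⥤ᵇ 𝒴) (g : 𝒴 ⥤ᵇ 𝒵) (hf : AlgSt.RepByAlgSpWith AlgSp.IsSurjectiveMor f)
    (hg : AlgSt.RepByAlgSpWith AlgSp.IsSurjectiveMor g) :
    AlgSt.RepByAlgSpWith AlgSp.IsSurjectiveMor (BasedFunctor.comp f g) :=
  repByAlgSpWith_comp h𝒳 h𝒴 _ bc_surjective co_surjective local_surjective f g hf hg

end Groth.Agent.Lib.Helper28.AlgSt.PropInst
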