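import Mathlib
import Groth.Agent.Lib.Helper28.AlgSt.PropInst
import Groth.Agent.Lib.Helper28.AlgSt.DiagRep
import Groth.Agent.Lib.Helper10.AlgStSwap
import Groth.Agent.Lib.Helper16.FpqcCover
import Groth.Agent.Lib.Helper16.Rep

/-!
# Atlases of algebraic spaces, viewed as atlases of the associated categories
-/

set_option autoImplicit false
set_option backward.isDefEq.respectTransparency false
set_option backward.isDefEq.respectTransparency.types false

universe v₁ u₁ u

open CategoryTheory CategoryTheory.Limits AlgebraicGeometry Opposite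

namespace Groth.Agent.Lib.Helper28.AlgSt.Chart

open Groth.Agent.Lib.Helper10.Fib Groth.Agent.Lib.Helper10.StkPsh
open Groth.Agent.Lib.Helper10.AlgStRep
open Groth.Agent.Lib.Helper28.AlgSt.PshFun Groth.Agent.Lib.Helper28.AlgSt.PshPull
open Groth.Agent.Lib.Helper28.AlgSt.ClsPsh Groth.Agent.Lib.Helper28.AlgSt.Bridge
open Groth.Agent.Lib.Helper28.AlgSt.Key Groth.Agent.Lib.Helper28.AlgSt.PropInst
open Groth.Agent.Lib.Helper16

variable {S : Scheme.{u}}

section General

variable {F G : AlgSp.PSp S}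

/-- Variant of `repByAlgSpWith_of_repBySpWith` asking only for one pullback square for each
`ξ : h_U ⟶ G`. -/
theorem repByAlgSpWith_of_exists_pullback (Q : MorphismProperty (AlgSp.Sp S)) (a : F ⟶ G)
    (h : ∀ ⦃U : Over S⦄ (ξ : (AlgSp.pyon S).obj U ⟶ G),
      ∃ (F' : AlgSp.Space S) (fst : F'.obj.obj ⟶ F) (snd : F'.obj ⟶ (AlgSp.yon S).obj U),
        IsPullback fst snd.hom a ξ ∧ Q snd) :
    AlgSt.RepByAlgSpWith Q (Stk.ofPshMap a) := by
  intro U y
  obtain ⟨F', fst, snd, sq, hQ⟩ := h (yMap y)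
  refine ⟨F', BasedFunctor.comp (pullFun sq) (fpN a y),
    isEquivOver_comp _ _ (pullFun_isEquivOver sq) (isEquivOver_fpN a y), ?_⟩
  have key : AlgSt.spMapOfOver (BasedFunctor.comp (BasedFunctor.comp (pullFun sq) (fpN a y))
      (FibCat.fpFst y (Stk.ofPshMap a))) = snd := by
    apply ObjectProperty.hom_ext
    rw [spMapOfOver_hom]
    exact (pshMapOf_congr' _ (Stk.ofPshMap snd.hom)
      (fun v => ⟨𝟙 _, IsHomLift.id rfl⟩)).trans (pshMapOf_ofPshMap _)
  rw [key]
  exact hQ

end General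

section Rep

variable {F G : AlgSp.Sp S}

/-- A morphism of sheaves representable by schemes, all of whose scheme base changes have `Q`,
induces a 1-morphism representable by algebraic spaces with `Q`. -/
theorem repByAlgSpWith_ofSpMap_of_representable (Q : MorphismProperty (AlgSp.Sp S)) (c : F ⟶ G)
    (hc : AlgSp.Representable c)
    (hQ : ∀ ⦃U V : Over S⦄ (g : (AlgSp.yon S).obj U ⟶ G) (fst : (AlgSp.yon S).obj V ⟶ F)
      (snd : V ⟶ U), IsPullback fst ((AlgSp.yon S).map snd) c g → Q ((AlgSp.yon S).map snd)) :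
    AlgSt.RepByAlgSpWith Q (AlgSt.ofSpMap c) := by
  apply repByAlgSpWith_of_exists_pullback
  intro U ξ
  let ξ' : (AlgSp.yon S).obj U ⟶ G := ObjectProperty.homMk ξ
  have sq := hc.isPullback ξ'
  refine ⟨⟨(AlgSp.yon S).obj (hc.pullback ξ'), AlgSp.IsAlgSpace.yon_obj _⟩, (hc.fst ξ').hom,
    (AlgSp.yon S).map (hc.snd ξ'), ?_, hQ _ _ _ sq⟩
  exact sq.map (sheafToPresheaf (AlgSp.J S) (Type (u + 1)))

end Rep

section Atlas

/-- Precomposition with an equivalence preserves `RepByAlgSpWith`. -/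
theorem repByAlgSpWith_equiv_comp (Q : MorphismProperty (AlgSp.Sp S))
    {𝒲' 𝒲 𝒳 : BasedCategory.{v₁, u₁} (Over S)} (a : 𝒲' ⥤ᵇ 𝒲) (ha : FibCat.IsEquivOver a)
    (f : 𝒲 ⥤ᵇ 𝒳) (hf : AlgSt.RepByAlgSpWith Q f) :
    AlgSt.RepByAlgSpWith Q (BasedFunctor.comp a f) :=
  repByAlgSpWith_of_square' Q f (BasedFunctor.comp a f) a (BasedFunctor.id _) ha
    (isEquivOver_id _) (Iso.refl _) hf

/-- The etale surjective atlas of an algebraic space, as a 1-morphism from a scheme. -/
theorem exists_chart (F : AlgSp.Space S) :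
    ∃ (W : Over S) (c : FibCat.overCat W ⥤ᵇ AlgSt.ofSp F.obj),
      AlgSt.RepByAlgSpWith (AlgSp.LocP @Smooth) c ∧
      AlgSt.RepByAlgSpWith AlgSp.IsSurjectiveMor c ∧
      AlgSt.RepByAlgSpWith AlgSp.IsEtaleMor c := by
  obtain ⟨W, p, hpe, hps⟩ := F.property.atlas
  refine ⟨W, BasedFunctor.comp (AlgSt.ofOverCat W) (AlgSt.ofSpMap p), ?_, ?_, ?_⟩
  · apply repByAlgSpWith_equiv_comp _ _ (isEquivOver_ofOverCat W)
    apply repByAlgSpWith_ofSpMap_of_representable _ p hpe.rep
    intro U V g fst snd sq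
    have h1 : Etale snd.left := hpe.property _ _ _ sq
    exact locP_of_repWith_etale etLocalST_smooth (AlgSp.IsAlgSpace.yon_obj V)
      (AlgSp.IsAlgSpace.yon_obj U) _ ((AlgSp.repWith_yon_map_iff _ _).2 h1)
  · apply repByAlgSpWith_equiv_comp _ _ (isEquivOver_ofOverCat W)
    apply repByAlgSpWith_ofSpMap_of_representable _ p hps.rep
    intro U V g fst snd sq
    have h1 : Surjective snd.left := hps.property _ _ _ sq
    have h2 : AlgSp.RepWith @Surjective ((AlgSp.yon S).map snd) :=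
      (AlgSp.repWith_yon_map_iff _ _).2 h1
    exact (repWith_surjective_iff _ h2.rep).1 h2
  · apply repByAlgSpWith_equiv_comp _ _ (isEquivOver_ofOverCat W)
    apply repByAlgSpWith_ofSpMap_of_representable _ p hpe.rep
    intro U V g fst snd sq
    have h1 : Etale snd.left := hpe.property _ _ _ sq
    exact (AlgSp.isEtaleMor_yon_map_iff snd).2 h1

end Atlas

end Groth.Agent.Lib.Helper28.AlgSt.Chart
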