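import Mathlib
import Groth.Agent.Lib.Helper28.AlgSt.Basic
import Groth.Agent.Lib.Helper10.StkPsh
import Groth.Agent.Lib.Helper10.StkPost
import Groth.Agent.S12809
import Groth.Agent.S12804
import Groth.Agent.S12801

/-!
# Stack conditions and representability by algebraic spaces
-/

set_option autoImplicit false
set_option backward.isDefEq.respectTransparency false
set_option backward.isDefEq.respectTransparency.types false

universe v₁ u₁ u

open CategoryTheory CategoryTheory.Limits AlgebraicGeometry Opposite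

namespace Groth.Agent.Lib.Helper28.AlgSt.StackDesc

open Groth.Agent.Lib.Helper10.Fib Groth.Agent.Lib.Helper10.StkPsh
open Groth.Agent.Lib.Helper10.AlgStRep Groth.Agent.Lib.Helper10.StkPost
open Groth.Agent.Lib.Helper28.AlgSt.Bridge

variable {S : Scheme.{u}}

/-- The category of an fppf sheaf is a stack. -/
theorem isStack_ofSp (F : AlgSp.Sp S) : Stk.IsStack (AlgSp.J S) (AlgSt.ofSp F) :=
  (isStack_ofPsh_iff (AlgSp.J S) F.obj).2 ((isSheaf_iff_isSheaf_of_type _ _).1 F.property)

theorem isStack_overCat (U : Over S) : Stk.IsStack (AlgSp.J S) (FibCat.overCat U) :=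
  (isStack_iff_of_isEquivOver _ (AlgSt.toOverCat U) (isEquivOver_toOverCat U)).1 (isStack_ofSp _)

theorem isStack_of_repByAlgSp {𝒳 : BasedCategory.{v₁, u₁} (Over S)} (h : AlgSt.RepByAlgSp 𝒳) :
    Stk.IsStack (AlgSp.J S) 𝒳 := by
  obtain ⟨F, e, he⟩ := h
  exact (isStack_iff_of_isEquivOver _ e he).1 (isStack_ofSp _)

lemma restrictedTopology_forget_eq {C : Type u₁} [Category.{v₁} C] (J : GrothendieckTopology C)
    (U : C) : (Over.forget U).restrictedTopology J = J.over U := by
  ext A R
  rw [Groth.Agent.S12801.result (Over.forget U) (isFibGrpd_overForget U) J R,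
    GrothendieckTopology.mem_over_iff]
  rfl

variable {𝒳 𝒴 : AlgSt.Cat S}

/-- A category fibred in groupoids with a 1-morphism representable by algebraic spaces to a stack
is a stack. -/
theorem isStack_of_repByAlgSp1 (h𝒳 : FibCat.IsFibGrpd 𝒳.p) (h𝒴 : Stk.IsStack (AlgSp.J S) 𝒴)
    (j : 𝒳 ⥤ᵇ 𝒴) (hj : AlgSt.RepByAlgSp1 j) : Stk.IsStack (AlgSp.J S) 𝒳 := by
  haveI : j.toFunctor.Faithful := Groth.Agent.S12776.result h𝒳 h𝒴.1 j hj
  refine Groth.Agent.S12809.result (AlgSp.J S) h𝒳 h𝒴 j (fun U y => ?_)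
  have hst : Stk.IsStack (AlgSp.J S) (FibCat.fp y j) := isStack_of_repByAlgSp (hj U y)
  have h4 := Groth.Agent.S12804.result (AlgSp.J S) hst (isStack_overCat U) (FibCat.fpFst y j)
    (isFibGrpd_fpFst_overCat h𝒳 h𝒴.1 j U y)
  have e := restrictedTopology_forget_eq (AlgSp.J S) U
  change Stk.IsStack ((Over.forget U).restrictedTopology (AlgSp.J S)) _ at h4
  rw [e] at h4
  exact h4

end Groth.Agent.Lib.Helper28.AlgSt.StackDesc
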