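import Mathlib
import Groth.Agent.Lib.Helper28.AlgSt.Chart
import Groth.Agent.Lib.Helper28.AlgSt.StackDesc
import Groth.Agent.Lib.Helper28.AlgSt.Whisker
import Groth.Agent.Lib.Helper10.AlgStDiagConv

/-!
# Algebraic stacks: permanence under 1-morphisms representable by algebraic spaces
-/

set_option autoImplicit false
set_option backward.isDefEq.respectTransparency false
set_option backward.isDefEq.respectTransparency.types false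

universe v₁ u₁ u

open CategoryTheory CategoryTheory.Limits AlgebraicGeometry Opposite

namespace Groth.Agent.Lib.Helper28.AlgSt.AlgStack

open Groth.Agent.Lib.Helper10.Fib Groth.Agent.Lib.Helper10.StkPsh
open Groth.Agent.Lib.Helper10.AlgStRep
open Groth.Agent.Lib.Helper28.AlgSt.Bridge
open Groth.Agent.Lib.Helper28.AlgSt.Key Groth.Agent.Lib.Helper28.AlgSt.PropInst
open Groth.Agent.Lib.Helper28.AlgSt.Basic Groth.Agent.Lib.Helper28.AlgSt.DiagRep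
open Groth.Agent.Lib.Helper28.AlgSt.Chart Groth.Agent.Lib.Helper28.AlgSt.Whisker

variable {S : Scheme.{u}} {𝒳 𝒴 : AlgSt.Cat S}

/-- The diagonal of a 1-morphism representable by algebraic spaces is representable by algebraic
spaces. -/
theorem repByAlgSp1_diag_of_repByAlgSp1 (h𝒳 : FibCat.IsFibGrpd 𝒳.p) (h𝒴 : FibCat.IsFibGrpd 𝒴.p)
    (j : 𝒳 ⥤ᵇ 𝒴) (hj : AlgSt.RepByAlgSp1 j) : AlgSt.RepByAlgSp1 (FibCat.diag j) := by
  apply repByAlgSp1_of_with ⊤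
  rw [repByAlgSpWith_diag_iff_baseChange ⊤ h𝒳 h𝒴 j]
  intro T y
  apply repByAlgSpWith_top
  exact repByAlgSp1_of_repByAlgSp (hj T y)
    (repByAlgSp_fp (hj T y) (hj T y) (repByAlgSp_overCat T) _ _) _

/-- The 2-isomorphism of the magic square for `t = j`. -/
def magW {𝒜 ℬ : AlgSt.Cat S} (y : 𝒜 ⥤ᵇ 𝒳) (x : ℬ ⥤ᵇ 𝒳) (j : 𝒳 ⥤ᵇ 𝒴) :
    BasedFunctor.comp (FibCat.fpFst y x) (BasedFunctor.comp y j) ≅
      BasedFunctor.comp (FibCat.fpSnd y x) (BasedFunctor.comp x j) :=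
  wr (FibCat.fpIso y x) j

/-- If `j : 𝒳 ⟶ 𝒴` is representable by algebraic spaces and the diagonal of `𝒴` is representable
by algebraic spaces, then every 1-morphism from a scheme to `𝒳` is representable by algebraic
spaces. -/
theorem repByAlgSp1_chart_of_repByAlgSp1 (h𝒳 : FibCat.IsFibGrpd 𝒳.p) (h𝒴 : FibCat.IsFibGrpd 𝒴.p)
    (hΔ : AlgSt.RepByAlgSp1 (FibCat.diag (FibCat.toSelf 𝒴)))
    (j : 𝒳 ⥤ᵇ 𝒴) (hj : AlgSt.RepByAlgSp1 j) (U : Over S) (x : FibCat.overCat U ⥤ᵇ 𝒳) :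
    AlgSt.RepByAlgSp1 x := by
  intro V y
  have hm := repByAlgSpWith_magic ⊤ (isFibGrpd_overForget V) (isFibGrpd_overForget U) h𝒳 h𝒴
    y x j (magW y x j) (fun w => rfl)
    (repByAlgSpWith_top _ (repByAlgSp1_diag_of_repByAlgSp1 h𝒳 h𝒴 j hj))
  have hm1 := repByAlgSp1_of_with _ _ hm
  have hT : AlgSt.RepByAlgSp (FibCat.fp (BasedFunctor.comp y j) (BasedFunctor.comp x j)) :=
    repByAlgSp1_of_diag h𝒴 hΔ U (BasedFunctor.comp x j) V (BasedFunctor.comp y j)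
  exact repByAlgSp_of_repByAlgSp1
    (isFibGrpd_fp y x (isFibGrpd_overForget V) (isFibGrpd_overForget U) h𝒳) hT _ hm1

/-- If `j : 𝒳 ⟶ 𝒴` is representable by algebraic spaces and the diagonal of `𝒴` is representable
by algebraic spaces, then so is the diagonal of `𝒳`. -/
theorem repByAlgSp1_diag_toSelf_of_repByAlgSp1 (h𝒳 : FibCat.IsFibGrpd 𝒳.p)
    (h𝒴 : FibCat.IsFibGrpd 𝒴.p) (hΔ : AlgSt.RepByAlgSp1 (FibCat.diag (FibCat.toSelf 𝒴)))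
    (j : 𝒳 ⥤ᵇ 𝒴) (hj : AlgSt.RepByAlgSp1 j) :
    AlgSt.RepByAlgSp1 (FibCat.diag (FibCat.toSelf 𝒳)) :=
  repByAlgSp1_diag_of_forall h𝒳 (repByAlgSp1_chart_of_repByAlgSp1 h𝒳 h𝒴 hΔ j hj)

/-- Pull back an atlas along a 1-morphism representable by algebraic spaces. -/
theorem hasAtlas_of_repByAlgSp1 (h𝒳 : FibCat.IsFibGrpd 𝒳.p) (h𝒴 : FibCat.IsFibGrpd 𝒴.p)
    (j : 𝒳 ⥤ᵇ 𝒴) (hj : AlgSt.RepByAlgSp1 j) (h : AlgSt.HasAtlas (AlgSp.LocP @Smooth) 𝒴) :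
    AlgSt.HasAtlas (AlgSp.LocP @Smooth) 𝒳 := by
  obtain ⟨U, u, hsm, hsu⟩ := h
  obtain ⟨F, e, he⟩ := hj U u
  obtain ⟨W, c, hc1, hc2, -⟩ := exists_chart F
  have hF : FibCat.IsFibGrpd (AlgSt.ofSp F.obj).p := Stk.isFibGrpd_ofPsh _
  have hO := isFibGrpd_overForget W
  have hfp := isFibGrpd_fp u j (isFibGrpd_overForget U) h𝒳 h𝒴
  refine ⟨W, BasedFunctor.comp c (BasedFunctor.comp e (FibCat.fpSnd u j)), ?_, ?_⟩
  · exact repByAlgSpWith_comp_smooth hO hF c _ hc1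
      (repByAlgSpWith_equiv_comp _ e he _ (repByAlgSpWith_fpSnd _ u j hsm))
  · exact repByAlgSpWith_comp_surjective hO hF c _ hc2
      (repByAlgSpWith_equiv_comp _ e he _ (repByAlgSpWith_fpSnd _ u j hsu))

theorem isAlgStack_of_repByAlgSp1 (h𝒳 : FibCat.IsFibGrpd 𝒳.p)
    (h𝒴 : AlgSt.IsAlgStack Scheme.fppfPrecoverage 𝒴) (j : 𝒳 ⥤ᵇ 𝒴) (hj : AlgSt.RepByAlgSp1 j) :
    AlgSt.IsAlgStack Scheme.fppfPrecoverage 𝒳 where
  isStack := StackDesc.isStack_of_repByAlgSp1 h𝒳 h𝒴.isStack j hj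
  diag := repByAlgSp1_diag_toSelf_of_repByAlgSp1 h𝒳 h𝒴.isStack.1 h𝒴.diag j hj
  atlas := hasAtlas_of_repByAlgSp1 h𝒳 h𝒴.isStack.1 j hj h𝒴.atlas

end Groth.Agent.Lib.Helper28.AlgSt.AlgStack
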