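import Mathlib
import Groth.Agent.Lib.Helper28.AlgSt.AlgStack
import Groth.Agent.Lib.Helper10.AlgStGraph
import Groth.Agent.Lib.Helper10.StkFp

/-!
# 2-fibre products of algebraic stacks
-/

set_option autoImplicit false
set_option backward.isDefEq.respectTransparency false
set_option backward.isDefEq.respectTransparency.types false

universe v₁ u₁ u

open CategoryTheory CategoryTheory.Limits AlgebraicGeometry Opposite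

namespace Groth.Agent.Lib.Helper28.AlgSt.FpStack

open Groth.Agent.Lib.Helper10.Fib Groth.Agent.Lib.Helper10.StkPsh
open Groth.Agent.Lib.Helper10.AlgStRep
open Groth.Agent.Lib.Helper28.AlgSt.Bridge
open Groth.Agent.Lib.Helper28.AlgSt.Key Groth.Agent.Lib.Helper28.AlgSt.PropInst
open Groth.Agent.Lib.Helper28.AlgSt.Basic Groth.Agent.Lib.Helper28.AlgSt.DiagRep
open Groth.Agent.Lib.Helper28.AlgSt.Chart Groth.Agent.Lib.Helper28.AlgSt.Whisker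
open Groth.Agent.Lib.Helper28.AlgSt.AlgStack Groth.Agent.Lib.Helper28.AlgSt.Comp

variable {S : Scheme.{u}}

section Top

theorem local_top : AlgSp.IsLocalOnBase AlgSp.IsFppfCover (⊤ : MorphismProperty (AlgSp.Sp S)) :=
  fun _ _ _ _ _ _ _ _ _ _ _ _ _ _ _ => ⟨fun _ _ => trivial, fun _ => trivial⟩

variable {𝒳 𝒴 𝒵 : AlgSt.Cat S}

/-- Composition of 1-morphisms representable by algebraic spaces. -/
theorem repByAlgSp1_comp (h𝒳 : FibCat.IsFibGrpd 𝒳.p) (h𝒴 : FibCat.IsFibGrpd 𝒴.p)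
    (f : 𝒳 ⥤ᵇ 𝒴) (g : 𝒴 ⥤ᵇ 𝒵) (hf : AlgSt.RepByAlgSp1 f) (hg : AlgSt.RepByAlgSp1 g) :
    AlgSt.RepByAlgSp1 (BasedFunctor.comp f g) :=
  repByAlgSp1_of_with ⊤ _ (repByAlgSpWith_comp h𝒳 h𝒴 ⊤ (fun _ _ _ _ _ _ _ _ _ _ _ _ _ _ => trivial)
    (fun _ _ _ _ _ _ _ _ _ _ => trivial) local_top f g (repByAlgSpWith_top f hf)
    (repByAlgSpWith_top g hg))

/-- Cancellation: if `p ≅ g ⋙ q` with `p` and the diagonal of `q` representable by algebraic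
spaces, then `g` is representable by algebraic spaces. -/
theorem repByAlgSp1_of_comp (h𝒳 : FibCat.IsFibGrpd 𝒳.p) (h𝒴 : FibCat.IsFibGrpd 𝒴.p)
    (h𝒵 : FibCat.IsFibGrpd 𝒵.p) (p : 𝒳 ⥤ᵇ 𝒵) (q : 𝒴 ⥤ᵇ 𝒵) (g : 𝒳 ⥤ᵇ 𝒴)
    (e : BasedFunctor.comp (BasedFunctor.id 𝒳) p ≅ BasedFunctor.comp g q)
    (hp : AlgSt.RepByAlgSp1 p) (hq : AlgSt.RepByAlgSp1 (FibCat.diag q)) :
    AlgSt.RepByAlgSp1 g := by
  have h1 : AlgSt.RepByAlgSp1 (FibCat.fpLift (BasedFunctor.id 𝒳) g e) :=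
    repByAlgSp1_of_with ⊤ _
      (repByAlgSpWith_graph ⊤ h𝒳 h𝒴 h𝒵 p q g e (repByAlgSpWith_top _ hq))
  have h2 : AlgSt.RepByAlgSp1 (FibCat.fpSnd p q) :=
    repByAlgSp1_of_with ⊤ _ (repByAlgSpWith_fpSnd ⊤ p q (repByAlgSpWith_top _ hp))
  exact repByAlgSp1_comp h𝒳 (isFibGrpd_fp p q h𝒳 h𝒴 h𝒵) _ _ h1 h2

end Top

section Diag

variable {𝒳 𝒴 𝒵 : AlgSt.Cat S}

/-- If the diagonals of `j : 𝒳 ⟶ 𝒴` and of `𝒴` are representable by algebraic spaces, then every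
1-morphism from a scheme to `𝒳` is representable by algebraic spaces. -/
theorem repByAlgSp1_chart_of_diag (h𝒳 : FibCat.IsFibGrpd 𝒳.p) (h𝒴 : FibCat.IsFibGrpd 𝒴.p)
    (hΔ : AlgSt.RepByAlgSp1 (FibCat.diag (FibCat.toSelf 𝒴)))
    (j : 𝒳 ⥤ᵇ 𝒴) (hj : AlgSt.RepByAlgSp1 (FibCat.diag j)) (U : Over S)
    (x : FibCat.overCat U ⥤ᵇ 𝒳) : AlgSt.RepByAlgSp1 x := by
  intro V y
  have hm := repByAlgSpWith_magic ⊤ (isFibGrpd_overForget V) (isFibGrpd_overForget U) h𝒳 h𝒴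
    y x j (magW y x j) (fun w => rfl) (repByAlgSpWith_top _ hj)
  have hm1 := repByAlgSp1_of_with _ _ hm
  have hT : AlgSt.RepByAlgSp (FibCat.fp (BasedFunctor.comp y j) (BasedFunctor.comp x j)) :=
    repByAlgSp1_of_diag h𝒴 hΔ U (BasedFunctor.comp x j) V (BasedFunctor.comp y j)
  exact repByAlgSp_of_repByAlgSp1
    (isFibGrpd_fp y x (isFibGrpd_overForget V) (isFibGrpd_overForget U) h𝒳) hT _ hm1

theorem repByAlgSp1_diag_toSelf_of_diag (h𝒳 : FibCat.IsFibGrpd 𝒳.p)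
    (h𝒴 : FibCat.IsFibGrpd 𝒴.p) (hΔ : AlgSt.RepByAlgSp1 (FibCat.diag (FibCat.toSelf 𝒴)))
    (j : 𝒳 ⥤ᵇ 𝒴) (hj : AlgSt.RepByAlgSp1 (FibCat.diag j)) :
    AlgSt.RepByAlgSp1 (FibCat.diag (FibCat.toSelf 𝒳)) :=
  repByAlgSp1_diag_of_forall h𝒳 (repByAlgSp1_chart_of_diag h𝒳 h𝒴 hΔ j hj)

/-- The canonical 1-morphism `𝒴 ×_𝒵 𝒴 ⟶ 𝒴 × 𝒴`. -/
def toProd (g : 𝒴 ⥤ᵇ 𝒵) :
    FibCat.fp g g ⥤ᵇ FibCat.fp (BasedFunctor.comp g (FibCat.toSelf 𝒵))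
      (BasedFunctor.comp g (FibCat.toSelf 𝒵)) :=
  FibCat.fpLift (FibCat.fpFst g g) (FibCat.fpSnd g g) (magE g g)

/-- If the diagonals of `𝒴` and `𝒵` are representable by algebraic spaces then so is the diagonal
of every 1-morphism `g : 𝒴 ⟶ 𝒵`. -/
theorem repByAlgSp1_diag_of_diag_toSelf (h𝒴 : FibCat.IsFibGrpd 𝒴.p) (h𝒵 : FibCat.IsFibGrpd 𝒵.p)
    (hΔ𝒴 : AlgSt.RepByAlgSp1 (FibCat.diag (FibCat.toSelf 𝒴)))
    (hΔ𝒵 : AlgSt.RepByAlgSp1 (FibCat.diag (FibCat.toSelf 𝒵))) (g : 𝒴 ⥤ᵇ 𝒵) :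
    AlgSt.RepByAlgSp1 (FibCat.diag g) := by
  have hS := isFibGrpd_selfOver (Over S)
  have hN : AlgSt.RepByAlgSp1 (toProd g) :=
    repByAlgSp1_of_with ⊤ _ (repByAlgSpWith_magic ⊤ h𝒴 h𝒴 h𝒵 hS g g (FibCat.toSelf 𝒵)
      (magE g g) (magE_app g g) (repByAlgSpWith_top _ hΔ𝒵))
  have hgg := isFibGrpd_fp g g h𝒴 h𝒴 h𝒵
  have hpp := isFibGrpd_fp (BasedFunctor.comp g (FibCat.toSelf 𝒵))
    (BasedFunctor.comp g (FibCat.toSelf 𝒵)) h𝒴 h𝒴 hS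
  have hΔN : AlgSt.RepByAlgSp1 (FibCat.diag (toProd g)) :=
    repByAlgSp1_diag_of_repByAlgSp1 hgg hpp _ hN
  -- the diagonal of `𝒴`, with values in `fp (g ⋙ toSelf) (g ⋙ toSelf)`
  let p : 𝒴 ⥤ᵇ FibCat.fp (BasedFunctor.comp g (FibCat.toSelf 𝒵))
      (BasedFunctor.comp g (FibCat.toSelf 𝒵)) :=
    BasedFunctor.comp (FibCat.diag g) (toProd g)
  let E : FibCat.fp (FibCat.toSelf 𝒴) (FibCat.toSelf 𝒴) ⥤ᵇ
      FibCat.fp (BasedFunctor.comp g (FibCat.toSelf 𝒵)) (BasedFunctor.comp g (FibCat.toSelf 𝒵)) :=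
    fpMap (γ := BasedFunctor.id (FibCat.selfOver (Over S))) (α := BasedFunctor.id 𝒴)
      (β := BasedFunctor.id 𝒴) (G' := FibCat.toSelf 𝒴) (f' := FibCat.toSelf 𝒴)
      (G := BasedFunctor.comp g (FibCat.toSelf 𝒵)) (f := BasedFunctor.comp g (FibCat.toSelf 𝒵))
      (selfIso _ _) (selfIso _ _)
  have hE : FibCat.IsEquivOver E := by
    have := id_full (FibCat.selfOver (Over S))
    have := id_faithful (FibCat.selfOver (Over S))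
    exact isEquivOver_fpMap _ _ (isEquivOver_id _) (isEquivOver_id _)
  let iso : BasedFunctor.comp (FibCat.diag (FibCat.toSelf 𝒴)) E ≅
      BasedFunctor.comp (BasedFunctor.id 𝒴) p := fpSelfIso (Iso.refl _) (Iso.refl _)
  have hp : AlgSt.RepByAlgSp1 p :=
    repByAlgSp1_of_square p (FibCat.diag (FibCat.toSelf 𝒴)) (BasedFunctor.id 𝒴) E
      (isEquivOver_id _) hE iso hΔ𝒴
  exact repByAlgSp1_of_comp h𝒴 hgg hpp p (toProd g) (FibCat.diag g) (Iso.refl _) hp hΔN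

end Diag

section Fp

variable {𝒳 𝒴 𝒵 : AlgSt.Cat S}

theorem isPrestack_of_isStack {C : Type u₁} [Category.{v₁} C] {J : GrothendieckTopology C}
    {𝒮 : BasedCategory.{v₁, max u₁ v₁} C} (h : Stk.IsStack J 𝒮) : Stk.IsPrestack J 𝒮 :=
  ⟨h.1, fun _ R hR => by
    have : (Stk.resSieve R 𝒮).IsEquivalence := h.2 R hR
    exact ⟨inferInstance, inferInstance⟩⟩

theorem isEquivOver_symm {𝒜 ℬ : AlgSt.Cat S} {F : 𝒜 ⥤ᵇ ℬ} (hF : FibCat.IsEquivOver F) :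
    ∃ G : ℬ ⥤ᵇ 𝒜, FibCat.IsEquivOver G := by
  obtain ⟨G, h1, h2⟩ := hF
  exact ⟨G, F, h2, h1⟩

/-- A smooth surjective cover by a category representable by an algebraic space yields a smooth
surjective atlas by a scheme. -/
theorem hasAtlas_of_cover {𝒜 : AlgSt.Cat S} (h𝒜 : AlgSt.RepByAlgSp 𝒜) (a : 𝒜 ⥤ᵇ 𝒳)
    (hsm : AlgSt.RepByAlgSpWith (AlgSp.LocP @Smooth) a)
    (hsu : AlgSt.RepByAlgSpWith AlgSp.IsSurjectiveMor a) :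
    AlgSt.HasAtlas (AlgSp.LocP @Smooth) 𝒳 := by
  obtain ⟨F, e, he⟩ := h𝒜
  obtain ⟨W, c, hc1, hc2, -⟩ := exists_chart F
  have hF : FibCat.IsFibGrpd (AlgSt.ofSp F.obj).p := Stk.isFibGrpd_ofPsh _
  have hO := isFibGrpd_overForget W
  exact ⟨W, BasedFunctor.comp c (BasedFunctor.comp e a),
    repByAlgSpWith_comp_smooth hO hF c _ hc1 (repByAlgSpWith_equiv_comp _ e he _ hsm),
    repByAlgSpWith_comp_surjective hO hF c _ hc2 (repByAlgSpWith_equiv_comp _ e he _ hsu)⟩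

/-- The product of two covers `x : 𝒰 ⟶ 𝒳`, `y : 𝒱 ⟶ 𝒴` over `𝒵`, as a 1-morphism
`𝒰 ×_𝒵 𝒱 ⟶ 𝒳 ×_𝒵 𝒴` representable with `P`, for `P` smooth or surjective. -/
theorem exists_cover_fp {𝒰 𝒱 : AlgSt.Cat S} (h𝒰 : FibCat.IsFibGrpd 𝒰.p)
    (h𝒱 : FibCat.IsFibGrpd 𝒱.p) (h𝒳 : FibCat.IsFibGrpd 𝒳.p) (h𝒴 : FibCat.IsFibGrpd 𝒴.p)
    (h𝒵 : FibCat.IsFibGrpd 𝒵.p) (f : 𝒳 ⥤ᵇ 𝒵) (g : 𝒴 ⥤ᵇ 𝒵) (x : 𝒰 ⥤ᵇ 𝒳) (y : 𝒱 ⥤ᵇ 𝒴)
    (hx1 : AlgSt.RepByAlgSpWith (AlgSp.LocP @Smooth) x)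
    (hx2 : AlgSt.RepByAlgSpWith AlgSp.IsSurjectiveMor x)
    (hy1 : AlgSt.RepByAlgSpWith (AlgSp.LocP @Smooth) y)
    (hy2 : AlgSt.RepByAlgSpWith AlgSp.IsSurjectiveMor y) :
    ∃ a : FibCat.fp (BasedFunctor.comp x f) (BasedFunctor.comp y g) ⥤ᵇ FibCat.fp f g,
      AlgSt.RepByAlgSpWith (AlgSp.LocP @Smooth) a ∧
        AlgSt.RepByAlgSpWith AlgSp.IsSurjectiveMor a := by
  obtain ⟨i₁, hi₁⟩ := isEquivOver_symm (isEquivOver_paste1 x f (BasedFunctor.comp y g))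
  obtain ⟨i₂, hi₂⟩ := isEquivOver_symm (isEquivOver_paste2 f g y)
  have hA := isFibGrpd_fp x (FibCat.fpFst f (BasedFunctor.comp y g)) h𝒰
    (isFibGrpd_fp f (BasedFunctor.comp y g) h𝒳 h𝒱 h𝒵) h𝒳
  have hB := isFibGrpd_fp f (BasedFunctor.comp y g) h𝒳 h𝒱 h𝒵
  refine ⟨BasedFunctor.comp i₁ (BasedFunctor.comp (FibCat.fpSnd x (FibCat.fpFst f
    (BasedFunctor.comp y g))) (BasedFunctor.comp i₂ (FibCat.fpFst (FibCat.fpSnd f g) y))), ?_, ?_⟩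
  · exact repByAlgSpWith_equiv_comp _ i₁ hi₁ _ (repByAlgSpWith_comp_smooth hA hB _ _
      (repByAlgSpWith_fpSnd _ x _ hx1)
      (repByAlgSpWith_equiv_comp _ i₂ hi₂ _ (repByAlgSpWith_fpFst _ y _ hy1)))
  · exact repByAlgSpWith_equiv_comp _ i₁ hi₁ _ (repByAlgSpWith_comp_surjective hA hB _ _
      (repByAlgSpWith_fpSnd _ x _ hx2)
      (repByAlgSpWith_equiv_comp _ i₂ hi₂ _ (repByAlgSpWith_fpFst _ y _ hy2)))

/-- The 2-fibre product of algebraic stacks over a stack whose diagonal is representable by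
algebraic spaces is an algebraic stack. -/
theorem isAlgStack_fp (h𝒵 : Stk.IsStack (AlgSp.J S) 𝒵)
    (hΔ : AlgSt.RepByAlgSp1 (FibCat.diag (FibCat.toSelf 𝒵)))
    (h𝒳 : AlgSt.IsAlgStack Scheme.fppfPrecoverage 𝒳)
    (h𝒴 : AlgSt.IsAlgStack Scheme.fppfPrecoverage 𝒴) (f : 𝒳 ⥤ᵇ 𝒵) (g : 𝒴 ⥤ᵇ 𝒵) :
    AlgSt.IsAlgStack Scheme.fppfPrecoverage (FibCat.fp f g) where
  isStack := Groth.Agent.Lib.Helper10.StkFp.isStack_fp f g _ h𝒳.isStack h𝒴.isStack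
    (isPrestack_of_isStack h𝒵)
  diag := by
    have f𝒳 := h𝒳.isStack.1
    have f𝒴 := h𝒴.isStack.1
    have h1 : AlgSt.RepByAlgSp1 (FibCat.diag g) :=
      repByAlgSp1_diag_of_diag_toSelf f𝒴 h𝒵.1 h𝒴.diag hΔ g
    have h2 : AlgSt.RepByAlgSp1 (FibCat.diag (FibCat.fpFst f g)) :=
      repByAlgSp1_of_with ⊤ _ (repByAlgSpWith_diag_fpFst ⊤ f𝒴 h𝒵.1 f𝒳 g f
        (repByAlgSpWith_top _ h1))
    exact repByAlgSp1_diag_toSelf_of_diag (isFibGrpd_fp f g f𝒳 f𝒴 h𝒵.1) f𝒳 h𝒳.diag _ h2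
  atlas := by
    obtain ⟨U, x, hx1, hx2⟩ := h𝒳.atlas
    obtain ⟨V, y, hy1, hy2⟩ := h𝒴.atlas
    obtain ⟨a, ha1, ha2⟩ := exists_cover_fp (isFibGrpd_overForget U) (isFibGrpd_overForget V)
      h𝒳.isStack.1 h𝒴.isStack.1 h𝒵.1 f g x y hx1 hx2 hy1 hy2
    exact hasAtlas_of_cover (repByAlgSp1_of_diag h𝒵.1 hΔ V (BasedFunctor.comp y g) U
      (BasedFunctor.comp x f)) a ha1 ha2

end Fp

end Groth.Agent.Lib.Helper28.AlgSt.FpStack
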