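import Mathlib
import Groth.Agent.Lib.Helper28.AlgSt.FpStack

/-!
# Algebraic spaces are Deligne-Mumford stacks
-/

set_option autoImplicit false
set_option backward.isDefEq.respectTransparency false
set_option backward.isDefEq.respectTransparency.types false

universe u

open CategoryTheory CategoryTheory.Limits AlgebraicGeometry Opposite

namespace Groth.Agent.Lib.Helper28.AlgSt.SpaceStack

open Groth.Agent.Lib.Helper10.Fib Groth.Agent.Lib.Helper10.AlgStRep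
open Groth.Agent.Lib.Helper28.AlgSt.Basic Groth.Agent.Lib.Helper28.AlgSt.DiagRep
open Groth.Agent.Lib.Helper28.AlgSt.Chart

variable {S : Scheme.{u}} {𝒳 : AlgSt.Cat S}

theorem repByAlgSp1_diag_of_repByAlgSp (hr : AlgSt.RepByAlgSp 𝒳) :
    AlgSt.RepByAlgSp1 (FibCat.diag (FibCat.toSelf 𝒳)) :=
  repByAlgSp1_of_repByAlgSp hr (repByAlgSp_fp hr hr repByAlgSp_selfOver _ _) _

theorem exists_atlas_of_repByAlgSp (hr : AlgSt.RepByAlgSp 𝒳) :
    ∃ (W : Over S) (x : FibCat.overCat W ⥤ᵇ 𝒳),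
      AlgSt.RepByAlgSpWith (AlgSp.LocP @Smooth) x ∧
      AlgSt.RepByAlgSpWith AlgSp.IsSurjectiveMor x ∧
      AlgSt.RepByAlgSpWith AlgSp.IsEtaleMor x := by
  obtain ⟨F, e, he⟩ := hr
  obtain ⟨W, c, h1, h2, h3⟩ := exists_chart F
  exact ⟨W, BasedFunctor.comp c e, repByAlgSpWith_comp_equiv _ c e he h1,
    repByAlgSpWith_comp_equiv _ c e he h2, repByAlgSpWith_comp_equiv _ c e he h3⟩

theorem isAlgStack_of_repByAlgSp (hr : AlgSt.RepByAlgSp 𝒳) :
    AlgSt.IsAlgStack Scheme.fppfPrecoverage 𝒳 where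
  isStack := StackDesc.isStack_of_repByAlgSp hr
  diag := repByAlgSp1_diag_of_repByAlgSp hr
  atlas := by
    obtain ⟨W, x, h1, h2, -⟩ := exists_atlas_of_repByAlgSp hr
    exact ⟨W, x, h1, h2⟩

theorem isDM_of_repByAlgSp (hr : AlgSt.RepByAlgSp 𝒳) : AlgSt.IsDM Scheme.fppfPrecoverage 𝒳 := by
  refine ⟨isAlgStack_of_repByAlgSp hr, ?_⟩
  obtain ⟨W, x, -, h2, h3⟩ := exists_atlas_of_repByAlgSp hr
  exact ⟨W, x, h3, h2⟩

end Groth.Agent.Lib.Helper28.AlgSt.SpaceStack
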