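import Mathlib
import Groth.Agent.Lib.Helper28.AlgSt.SpaceStack
import Groth.Agent.Lib.Helper10.FibOver

/-!
# Smooth surjective charts over a given chart of the target
-/

set_option autoImplicit false
set_option backward.isDefEq.respectTransparency false
set_option backward.isDefEq.respectTransparency.types false

universe v₁ u₁ u

open CategoryTheory CategoryTheory.Limits AlgebraicGeometry Opposite

namespace Groth.Agent.Lib.Helper28.AlgSt.ChartOver

open Groth.Agent.Lib.Helper10.Fib Groth.Agent.Lib.Helper10.AlgStRep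
open Groth.Agent.Lib.Helper28.AlgSt.Basic Groth.Agent.Lib.Helper28.AlgSt.DiagRep
open Groth.Agent.Lib.Helper28.AlgSt.Chart Groth.Agent.Lib.Helper28.AlgSt.PropInst
open Groth.Agent.Lib.Helper28.AlgSt.FpStack Groth.Agent.Lib.Helper28.AlgSt.SpaceStack
open Groth.Agent.Lib.Helper28.AlgSt.Whisker

section Over

variable {C : Type u₁} [Category.{v₁} C] {U V : C}

/-- The morphism `U ⟶ V` underlying a functor `C/U ⟶ C/V` over `C`. -/
def homOfOver (G : FibCat.overCat U ⥤ᵇ FibCat.overCat V) : U ⟶ V :=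
  eqToHom (G.w_obj (Over.mk (𝟙 U))).symm ≫ (G.obj (Over.mk (𝟙 U))).hom

/-- The functor `C/U ⟶ C/V` over `C` of a morphism `U ⟶ V`. -/
def overMap' (a : U ⟶ V) : FibCat.overCat U ⥤ᵇ FibCat.overCat V where
  toFunctor := Over.map a
  w := rfl

lemma hom_eq (G : FibCat.overCat U ⥤ᵇ FibCat.overCat V) (w : Over U) :
    (G.obj w).hom = eqToHom (G.w_obj w) ≫ w.hom ≫ homOfOver G := by
  let t : w ⟶ Over.mk (𝟙 U) := Over.homMk w.hom
  have h1 : (G.map t).left ≫ (G.obj (Over.mk (𝟙 U))).hom = (G.obj w).hom := Over.w (G.map t)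
  have h2 : (G.map t).left =
      eqToHom (G.w_obj w) ≫ w.hom ≫ eqToHom (G.w_obj (Over.mk (𝟙 U))).symm :=
    Functor.congr_hom G.w t
  rw [← h1, h2]
  simp only [homOfOver, Category.assoc]

/-- Every functor `C/U ⟶ C/V` over `C` is 2-isomorphic to composition with a morphism. -/
def isoOverMap (G : FibCat.overCat U ⥤ᵇ FibCat.overCat V) : G ≅ overMap' (homOfOver G) :=
  overIso G (overMap' (homOfOver G)) (fun w => hom_eq G w)

end Over

section Main

variable {S : Scheme.{u}} {𝒳 𝒴 : AlgSt.Cat S}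

theorem exists_smooth_surjective_chart_over
    (h𝒳 : AlgSt.IsAlgStack Scheme.fppfPrecoverage 𝒳) (h𝒴 : AlgSt.IsAlgStack Scheme.fppfPrecoverage 𝒴)
    (f : 𝒳 ⥤ᵇ 𝒴) (V : Over S) (y : FibCat.overCat V ⥤ᵇ 𝒴)
    (hy : AlgSt.RepByAlgSpWith (AlgSp.LocP @Smooth) y)
    (hy' : AlgSt.RepByAlgSpWith AlgSp.IsSurjectiveMor y) :
    ∃ (U : Over S) (a : U ⟶ V) (x : FibCat.overCat U ⥤ᵇ 𝒳),
      AlgSt.RepByAlgSpWith (AlgSp.LocP @Smooth) x ∧ AlgSt.RepByAlgSpWith AlgSp.IsSurjectiveMor x ∧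
        Nonempty (BasedFunctor.comp x f ≅ BasedFunctor.comp (AlgSt.overMap a) y) := by
  have hP : AlgSt.IsAlgStack Scheme.fppfPrecoverage (FibCat.fp y f) :=
    isAlgStack_fp h𝒴.isStack h𝒴.diag (isAlgStack_of_repByAlgSp (repByAlgSp_overCat V)) h𝒳 y f
  obtain ⟨U, x', h1, h2⟩ := hP.atlas
  have hO := isFibGrpd_overForget U
  have hfp := hP.isStack.1
  let G : FibCat.overCat U ⥤ᵇ FibCat.overCat V := BasedFunctor.comp x' (FibCat.fpFst y f)
  refine ⟨U, homOfOver G, BasedFunctor.comp x' (FibCat.fpSnd y f),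
    repByAlgSpWith_comp_smooth hO hfp x' _ h1 (repByAlgSpWith_fpSnd _ y f hy),
    repByAlgSpWith_comp_surjective hO hfp x' _ h2 (repByAlgSpWith_fpSnd _ y f hy'), ⟨?_⟩⟩
  have e1 : BasedFunctor.comp (BasedFunctor.comp x' (FibCat.fpSnd y f)) f ≅
      BasedFunctor.comp G y := wl x' (FibCat.fpIso y f).symm
  exact e1 ≪≫ wr (isoOverMap G) y

end Main

end Groth.Agent.Lib.Helper28.AlgSt.ChartOver
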