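import Mathlib
import Groth.Agent.Lib.Helper28.AlgSt.PropInst
import Groth.Agent.Lib.Helper16.LocPInst
import Groth.Agent.Lib.Helper16.QuasiFiniteDescent
import Groth.Agent.Lib.Helper16.FpqcCore
import Groth.Agent.Lib.Helper16.Diagonal
import Groth.Agent.Lib.Helper17.AlgSpComp
import Groth.Agent.S10275
import Groth.Agent.S10276
import Groth.Agent.S10536
import Groth.Agent.S10519
import Groth.Agent.S10520

/-!
# "Good" properties of morphisms of algebraic spaces: stable under base change and composition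
and fppf local on the base
-/

set_option autoImplicit false

universe u

open CategoryTheory CategoryTheory.Limits AlgebraicGeometry Opposite

namespace Groth.Agent.Lib.Helper28.AlgSt.PropInst

open Groth.Agent.Lib.Helper16 Groth.Agent.Lib.Helper17 Groth.Agent.Lib.Helper28.AlgSt.Comp

variable {S : Scheme.{u}}

/-- A property of morphisms of algebraic spaces which is stable under base change and
composition and fppf local on the base. -/
structure Good (P : MorphismProperty (AlgSp.Sp S)) : Prop where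
  bc : BC P
  co : CO P
  loc : AlgSp.IsLocalOnBase AlgSp.IsFppfCover P

theorem Good.inf {P Q : MorphismProperty (AlgSp.Sp S)} (hP : Good P) (hQ : Good Q) :
    Good (P ⊓ Q) where
  bc := fun _ _ _ _ h1 h2 h3 h4 a b a' b' sq h =>
    ⟨hP.bc h1 h2 h3 h4 a b a' b' sq h.1, hQ.bc h1 h2 h3 h4 a b a' b' sq h.2⟩
  co := fun _ _ _ h1 h2 h3 a b ha hb => ⟨hP.co h1 h2 h3 a b ha.1 hb.1, hQ.co h1 h2 h3 a b ha.2 hb.2⟩
  loc := fun _ _ Yi g hY hYi hcov _ f hX Xi p q hXi sq => by
    have h1 := hP.loc Yi g hY hYi hcov f hX Xi p q hXi sq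
    have h2 := hQ.loc Yi g hY hYi hcov f hX Xi p q hXi sq
    constructor
    · intro h i
      exact ⟨h1.1 h.1 i, h2.1 h.2 i⟩
    · intro h
      exact ⟨h1.2 (fun i => (h i).1), h2.2 (fun i => (h i).2)⟩

theorem good_locP {P : MorphismProperty Scheme.{u}} (hP : EtLocalST P) [IsZariskiLocalAtTarget P]
    [P.DescendsAlong (@Surjective ⊓ @Flat ⊓ @QuasiCompact)] : Good (S := S) (AlgSp.LocP P) where
  bc := bc_locP hP
  co := co_locP hP
  loc := isLocalOnBase_fppf_of_fpqc (isLocalOnBase_fpqc_locP hP)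

theorem good_smooth : Good (S := S) (AlgSp.LocP @Smooth) := good_locP etLocalST_smooth

theorem good_unramified :
    Good (S := S) (AlgSp.LocP (@LocallyOfFiniteType ⊓ @FormallyUnramified)) :=
  good_locP etLocalST_unramified

theorem good_locallyQuasiFinite :
    Good (S := S) (AlgSp.LocP (@LocallyQuasiFinite ⊓ @LocallyOfFiniteType)) :=
  good_locP etLocalST_locallyQuasiFinite

theorem good_surjective : Good (S := S) AlgSp.IsSurjectiveMor where
  bc := bc_surjective
  co := co_surjective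
  loc := local_surjective

theorem good_proper : Good (S := S) AlgSp.IsProperMor where
  bc := fun X₁ Y₁ X₂ Y₂ h1 h2 h3 h4 a b a' b' sq h =>
    Groth.Agent.S10275.result (X := ⟨X₁, h1⟩) (Y := ⟨Y₁, h2⟩) (Y' := ⟨Y₂, h4⟩) (X' := ⟨X₂, h3⟩)
      (ObjectProperty.homMk a) (ObjectProperty.homMk b) (ObjectProperty.homMk b')
      (ObjectProperty.homMk a') sq h
  co := fun X Y Z h1 h2 h3 a b ha hb =>
    Groth.Agent.S10276.result (X := ⟨X, h1⟩) (Y := ⟨Y, h2⟩) (Z := ⟨Z, h3⟩)
      (ObjectProperty.homMk a) (ObjectProperty.homMk b) ha hb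
  loc := isLocalOnBase_fppf_of_fpqc (Groth.Agent.S10536.result S)

theorem good_quasiCompact : Good (S := S) AlgSp.IsQuasiCompactMor where
  bc := fun _ _ _ _ _ _ _ _ _ _ _ _ sq h => isQuasiCompactMor_of_isPullback sq h
  co := fun _ _ _ _ h2 h3 a b ha hb => isQuasiCompactMor_comp h2 h3.diag a b ha hb
  loc := isLocalOnBase_fppf_of_fpqc (Groth.Agent.S10519.result S)

theorem good_quasiSeparated : Good (S := S) AlgSp.IsQuasiSeparatedMor where
  bc := fun _ _ _ _ _ _ _ _ _ _ _ _ sq h =>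
    (AlgSp.RepWith (S := S) @QuasiCompact).diagonal.of_isPullback sq h
  co := fun _ _ _ _ _ _ a b ha hb =>
    (AlgSp.RepWith (S := S) @QuasiCompact).diagonal.comp_mem a b ha hb
  loc := isLocalOnBase_fppf_of_fpqc (Groth.Agent.S10520.result S)

variable {𝒳 𝒴 𝒵 : AlgSt.Cat S}

theorem repByAlgSpWith_comp_good {P : MorphismProperty (AlgSp.Sp S)} (hP : Good P)
    (h𝒳 : FibCat.IsFibGrpd 𝒳.p) (h𝒴 : FibCat.IsFibGrpd 𝒴.p)
    (f : 𝒳 ⥤ᵇ 𝒴) (g : 𝒴 ⥤ᵇ 𝒵) (hf : AlgSt.RepByAlgSpWith P f)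
    (hg : AlgSt.RepByAlgSpWith P g) : AlgSt.RepByAlgSpWith P (BasedFunctor.comp f g) :=
  repByAlgSpWith_comp h𝒳 h𝒴 P hP.bc hP.co hP.loc f g hf hg

end Groth.Agent.Lib.Helper28.AlgSt.PropInst
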