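import Mathlib
import Groth.Agent.Lib.Helper28.AlgSt.Good
import Groth.Agent.Lib.Helper28.AlgSt.FpStack

/-!
# The diagonal of a composition
-/

set_option autoImplicit false
set_option backward.isDefEq.respectTransparency false
set_option backward.isDefEq.respectTransparency.types false

universe v₄ u₄ v₃ u₃ v₂ u₂ v₁ u₁ u

open CategoryTheory CategoryTheory.Limits AlgebraicGeometry Opposite

namespace Groth.Agent.Lib.Helper28.AlgSt.DiagComp

open Groth.Agent.Lib.Helper10.Fib Groth.Agent.Lib.Helper10.AlgStRep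
open Groth.Agent.Lib.Helper28.AlgSt.PropInst Groth.Agent.Lib.Helper28.AlgSt.Whisker
open Groth.Agent.Lib.Helper28.AlgSt.AlgStack

section Cat

variable {C : Type u₁} [Category.{v₁} C] {𝒳 : BasedCategory.{v₂, u₂} C}
  {𝒴 : BasedCategory.{v₃, u₃} C} {𝒵 : BasedCategory.{v₄, u₄} C}
  (f : 𝒳 ⥤ᵇ 𝒴) (g : 𝒴 ⥤ᵇ 𝒵)

/-- The 2-isomorphism of the magic square for `𝒳 ×_𝒴 𝒳` over `g`. -/
def compE : BasedFunctor.comp (FibCat.fpFst f f) (BasedFunctor.comp f g) ≅
    BasedFunctor.comp (FibCat.fpSnd f f) (BasedFunctor.comp f g) :=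
  wr (FibCat.fpIso f f) g

/-- The comparison functor `𝒳 ×_𝒴 𝒳 ⟶ 𝒳 ×_𝒵 𝒳`. -/
def fpComp : FibCat.fp f f ⥤ᵇ FibCat.fp (BasedFunctor.comp f g) (BasedFunctor.comp f g) :=
  FibCat.fpLift (FibCat.fpFst f f) (FibCat.fpSnd f f) (compE f g)

/-- The diagonal of `f ⋙ g` is the diagonal of `f` followed by the comparison functor. -/
def diagCompIso : FibCat.diag (BasedFunctor.comp f g) ≅
    BasedFunctor.comp (FibCat.diag f) (fpComp f g) :=
  BasedNatIso.mkNatIso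
    (NatIso.ofComponents (fun x =>
      (FibCat.fpProp (BasedFunctor.comp f g) (BasedFunctor.comp f g)).isoMk
        (X := (FibCat.diag (BasedFunctor.comp f g)).obj x)
        (Y := (BasedFunctor.comp (FibCat.diag f) (fpComp f g)).obj x)
        (CategoricalPullback.mkIso (Iso.refl _) (Iso.refl _) (by
          show g.map (f.map (𝟙 x)) ≫ g.map (𝟙 (f.obj x)) = 𝟙 _ ≫ g.map (f.map (𝟙 x))
          simp)))
      (fun {x x'} k => by
        apply ObjectProperty.hom_ext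
        apply CategoricalPullback.hom_ext
        · exact (Category.comp_id _).trans (Category.id_comp _).symm
        · exact (Category.comp_id _).trans (Category.id_comp _).symm))
    (fun x => by
      rw [fp_isHomLift_iff]
      exact IsHomLift.id rfl)

end Cat

section Main

variable {S : Scheme.{u}} {𝒳 𝒴 𝒵 : AlgSt.Cat S}

theorem repByAlgSpWith_iso (P : MorphismProperty (AlgSp.Sp S)) {f f' : 𝒳 ⥤ᵇ 𝒴} (e : f' ≅ f)
    (hf : AlgSt.RepByAlgSpWith P f) : AlgSt.RepByAlgSpWith P f' :=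
  repByAlgSpWith_of_square' P f f' (BasedFunctor.id _) (BasedFunctor.id _) (isEquivOver_id _)
    (isEquivOver_id _) e hf

/-- The comparison functor is a base change of the diagonal of `g`. -/
theorem repByAlgSpWith_fpComp (P : MorphismProperty (AlgSp.Sp S)) (h𝒳 : FibCat.IsFibGrpd 𝒳.p)
    (h𝒴 : FibCat.IsFibGrpd 𝒴.p) (h𝒵 : FibCat.IsFibGrpd 𝒵.p) (f : 𝒳 ⥤ᵇ 𝒴) (g : 𝒴 ⥤ᵇ 𝒵)
    (hg : AlgSt.RepByAlgSpWith P (FibCat.diag g)) : AlgSt.RepByAlgSpWith P (fpComp f g) :=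
  repByAlgSpWith_magic P h𝒳 h𝒳 h𝒴 h𝒵 f f g (compE f g) (fun _ => rfl) hg

/-- The diagonal of a composition has `P` if the diagonals of the two factors do. -/
theorem repByAlgSpWith_diag_comp {P : MorphismProperty (AlgSp.Sp S)} (hP : Good P)
    (h𝒳 : FibCat.IsFibGrpd 𝒳.p) (h𝒴 : FibCat.IsFibGrpd 𝒴.p) (h𝒵 : FibCat.IsFibGrpd 𝒵.p)
    (f : 𝒳 ⥤ᵇ 𝒴) (g : 𝒴 ⥤ᵇ 𝒵) (hf : AlgSt.RepByAlgSpWith P (FibCat.diag f))
    (hg : AlgSt.RepByAlgSpWith P (FibCat.diag g)) :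
    AlgSt.RepByAlgSpWith P (FibCat.diag (BasedFunctor.comp f g)) :=
  repByAlgSpWith_iso P (diagCompIso f g)
    (repByAlgSpWith_comp_good hP h𝒳 (isFibGrpd_fp f f h𝒳 h𝒳 h𝒴) _ _ hf
      (repByAlgSpWith_fpComp P h𝒳 h𝒴 h𝒵 f g hg))

end Main

end Groth.Agent.Lib.Helper28.AlgSt.DiagComp
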