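import Mathlib
import Groth.Agent.Lib.Helper28.AlgSt.Good
import Groth.Agent.Lib.Helper28.AlgSt.DiagComp

/-!
# Descent of properties of 1-morphisms along fppf covers of the target
-/

set_option autoImplicit false
set_option backward.isDefEq.respectTransparency false
set_option backward.isDefEq.respectTransparency.types false

universe u

open CategoryTheory CategoryTheory.Limits AlgebraicGeometry Opposite

namespace Groth.Agent.Lib.Helper28.AlgSt.Descent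

open Groth.Agent.Lib.Helper10.Fib Groth.Agent.Lib.Helper10.StkPsh
open Groth.Agent.Lib.Helper10.AlgStRep
open Groth.Agent.Lib.Helper28.AlgSt.PshFun Groth.Agent.Lib.Helper28.AlgSt.PshPull
open Groth.Agent.Lib.Helper28.AlgSt.ClsPsh Groth.Agent.Lib.Helper28.AlgSt.Bridge
open Groth.Agent.Lib.Helper28.AlgSt.Key Groth.Agent.Lib.Helper28.AlgSt.PropInst
open Groth.Agent.Lib.Helper28.AlgSt.Comp

variable {S : Scheme.{u}}

/-- Hypothesis shapes. -/
abbrev BCs (P : MorphismProperty (AlgSp.Sp S)) : Prop := BC P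

section Extract

/-- If the functor of a morphism `a` of algebraic spaces is representable with `P`, then `a` has
`P` (for `P` stable under base change and fppf local on the base). -/
theorem prop_of_repByAlgSpWith_ofSpMap (P : MorphismProperty (AlgSp.Sp S)) (hPb : BC P)
    (hP : AlgSp.IsLocalOnBase AlgSp.IsFppfCover P) {V Z : AlgSp.Space S} (a : V ⟶ Z)
    (h : AlgSt.RepByAlgSpWith P (AlgSt.ofSpMap a.hom)) : P a.hom := by
  have hQ : AlgSt.RepByAlgSpWith (onSpaces P) (AlgSt.ofSpMap a.hom) :=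
    repByAlgSpWith_mono _ (fun F U g hg => ⟨F.property, AlgSp.IsAlgSpace.yon_obj U, hg⟩) h
  haveI := onSpaces_respectsIso P hPb
  have hrep : AlgSp.RepBySp a.hom.hom :=
    repBySp_of_repByAlgSp1 a.hom.hom (repByAlgSp1_of_with _ _ hQ)
  have hQ' : AlgSp.RepBySpWith (onSpaces P) a.hom.hom :=
    repBySpWith_of_repByAlgSpWith (onSpaces P) a.hom.hom hrep hQ
  rw [AlgSp.repBySpWith_hom_iff] at hQ'
  obtain ⟨U, p, hpe, hps⟩ := Z.property.atlas
  have sq := IsPullback.of_hasPullback a.hom p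
  obtain ⟨hX', -, -, hPsnd⟩ := hQ' p (pullback.fst a.hom p) (pullback.snd a.hom p) sq
  have hcov : AlgSp.IsFppfCover (fun _ : PUnit.{u + 1} => (AlgSp.yon S).obj U) (fun _ => p) :=
    ⟨fun _ => ⟨Groth.Agent.Lib.Helper16.locP_of_repWith_etale
        Groth.Agent.Lib.Helper16.etLocalST_flat (AlgSp.IsAlgSpace.yon_obj U) Z.property p hpe,
      Groth.Agent.Lib.Helper16.locP_of_repWith_etale
        Groth.Agent.Lib.Helper16.etLocalST_locallyOfFinitePresentation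
        (AlgSp.IsAlgSpace.yon_obj U) Z.property p hpe⟩,
      fun x => ⟨PUnit.unit, (Groth.Agent.Lib.Helper16.repWith_surjective_iff p hpe.rep).1 hps x⟩⟩
  exact (hP (fun _ => (AlgSp.yon S).obj U) (fun _ => p) Z.property
    (fun _ => AlgSp.IsAlgSpace.yon_obj U) hcov a.hom V.property (fun _ => pullback a.hom p)
    (fun _ => pullback.snd a.hom p) (fun _ => pullback.fst a.hom p) (fun _ => hX')
    (fun _ => sq)).2 (fun _ => hPsnd)

end Extract

section Main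

open Groth.Agent.Lib.Helper28.AlgSt.Whisker

theorem good_flat : Good (S := S) (AlgSp.LocP @Flat) :=
  good_locP Groth.Agent.Lib.Helper16.etLocalST_flat

theorem good_lfp : Good (S := S) (AlgSp.LocP @LocallyOfFinitePresentation) :=
  good_locP Groth.Agent.Lib.Helper16.etLocalST_locallyOfFinitePresentation

variable {𝒳 𝒴 𝒵 : AlgSt.Cat S}

/-- Descent of `RepByAlgSpWith P` along a 1-morphism `z : 𝒵 ⟶ 𝒴` which is representable by
algebraic spaces, flat, locally of finite presentation and surjective. -/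
theorem repByAlgSpWith_of_fpFst_cover (h𝒳 : FibCat.IsFibGrpd 𝒳.p) (h𝒴 : FibCat.IsFibGrpd 𝒴.p)
    (h𝒵 : FibCat.IsFibGrpd 𝒵.p) (P : MorphismProperty (AlgSp.Sp S)) (hPb : BC P)
    (hP : AlgSp.IsLocalOnBase AlgSp.IsFppfCover P)
    (f : 𝒳 ⥤ᵇ 𝒴) (hf : AlgSt.RepByAlgSp1 f) (z : 𝒵 ⥤ᵇ 𝒴)
    (hz₁ : AlgSt.RepByAlgSpWith (AlgSp.LocP @Flat) z)
    (hz₂ : AlgSt.RepByAlgSpWith (AlgSp.LocP @LocallyOfFinitePresentation) z)
    (hz₃ : AlgSt.RepByAlgSpWith AlgSp.IsSurjectiveMor z)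
    (h' : AlgSt.RepByAlgSpWith P (FibCat.fpFst z f)) : AlgSt.RepByAlgSpWith P f := by
  apply repByAlgSpWith_of_forall_space
  intro Z₀ ζ
  obtain ⟨V, a, e, he, ⟨iso₁⟩⟩ := exists_space_fp h𝒳 h𝒴 f hf Z₀ ζ
  refine ⟨V, a, e, he, ⟨iso₁⟩, ?_⟩
  have hz : AlgSt.RepByAlgSp1 z := repByAlgSp1_of_with _ _ hz₃
  obtain ⟨C, c, eC, heC, hiso₂⟩ := exists_space_fp h𝒵 h𝒴 z hz Z₀ ζ
  have hc₁ : AlgSp.LocP @Flat c.hom :=
    prop_of_repByAlgSpWith h𝒵 h𝒴 _ good_flat.bc good_flat.loc z hz₁ Z₀ ζ C c eC heC hiso₂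
  have hc₂ : AlgSp.LocP @LocallyOfFinitePresentation c.hom :=
    prop_of_repByAlgSpWith h𝒵 h𝒴 _ good_lfp.bc good_lfp.loc z hz₂ Z₀ ζ C c eC heC hiso₂
  have hc₃ : AlgSp.IsSurjectiveMor c.hom :=
    prop_of_repByAlgSpWith h𝒵 h𝒴 _ good_surjective.bc good_surjective.loc z hz₃ Z₀ ζ C c eC heC
      hiso₂
  obtain ⟨iso₂⟩ := hiso₂
  let ζ' : AlgSt.ofSp C.obj ⥤ᵇ 𝒵 := BasedFunctor.comp eC (FibCat.fpSnd ζ z)
  let θ : BasedFunctor.comp (AlgSt.ofSpMap c.hom) ζ ≅ BasedFunctor.comp ζ' z :=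
    (wr iso₂.symm ζ) ≪≫ (wl eC (FibCat.fpIso ζ z))
  have sq := IsPullback.of_hasPullback a.hom c.hom
  have hX' : AlgSp.IsAlgSpace (pullback a.hom c.hom) :=
    Groth.Agent.Lib.Helper16.isAlgSpace_of_isPullback V.property Z₀.property.diag C.property sq
  let X' : AlgSp.Space S := ⟨pullback a.hom c.hom, hX'⟩
  let p : X' ⟶ C := ObjectProperty.homMk (pullback.snd a.hom c.hom)
  have sqP : IsPullback (pullback.fst a.hom c.hom).hom (pullback.snd a.hom c.hom).hom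
      a.hom.hom c.hom.hom := sq.map (sheafToPresheaf (AlgSp.J S) (Type (u + 1)))
  -- the chain of equivalences `ofSp X' ≃ fp (ζ' ⋙ z) f`
  let Φ₁ : AlgSt.ofSp X'.obj ⥤ᵇ FibCat.fp (AlgSt.ofSpMap c.hom) (AlgSt.ofSpMap a.hom) :=
    pullFun sqP
  have hΦ₁ : FibCat.IsEquivOver Φ₁ := pullFun_isEquivOver sqP
  let Φ₂ : FibCat.fp (AlgSt.ofSpMap c.hom) (AlgSt.ofSpMap a.hom) ⥤ᵇ
      FibCat.fp (AlgSt.ofSpMap c.hom) (FibCat.fpFst ζ f) :=
    fpMap (γ := BasedFunctor.id (AlgSt.ofSp Z₀.obj)) (α := BasedFunctor.id (AlgSt.ofSp C.obj))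
      (β := e) (G' := AlgSt.ofSpMap c.hom) (G := AlgSt.ofSpMap c.hom)
      (f' := AlgSt.ofSpMap a.hom) (f := FibCat.fpFst ζ f) (Iso.refl _) iso₁.symm
  have hΦ₂ : FibCat.IsEquivOver Φ₂ := by
    have := id_full (AlgSt.ofSp Z₀.obj)
    have := id_faithful (AlgSt.ofSp Z₀.obj)
    exact isEquivOver_fpMap _ _ (isEquivOver_id _) he
  let Φ₃ := paste1 (AlgSt.ofSpMap c.hom) ζ f
  have hΦ₃ : FibCat.IsEquivOver Φ₃ := isEquivOver_paste1 _ _ _
  let Φ₄ : FibCat.fp (BasedFunctor.comp (AlgSt.ofSpMap c.hom) ζ) f ⥤ᵇ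
      FibCat.fp (BasedFunctor.comp ζ' z) f :=
    fpMap (γ := BasedFunctor.id 𝒴) (α := BasedFunctor.id (AlgSt.ofSp C.obj))
      (β := BasedFunctor.id 𝒳) (G' := BasedFunctor.comp (AlgSt.ofSpMap c.hom) ζ)
      (G := BasedFunctor.comp ζ' z) (f' := f) (f := f) θ (Iso.refl _)
  have hΦ₄ : FibCat.IsEquivOver Φ₄ := by
    have := id_full 𝒴
    have := id_faithful 𝒴
    exact isEquivOver_fpMap _ _ (isEquivOver_id _) (isEquivOver_id _)
  let Φ := BasedFunctor.comp Φ₁ (BasedFunctor.comp Φ₂ (BasedFunctor.comp Φ₃ Φ₄))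
  have hΦ : FibCat.IsEquivOver Φ :=
    isEquivOver_comp _ _ hΦ₁ (isEquivOver_comp _ _ hΦ₂ (isEquivOver_comp _ _ hΦ₃ hΦ₄))
  -- Step A
  have hA₀ : AlgSt.RepByAlgSpWith P (FibCat.fpFst ζ' (FibCat.fpFst z f)) :=
    repByAlgSpWith_fpFst P (FibCat.fpFst z f) ζ' h'
  have hA : AlgSt.RepByAlgSpWith P (FibCat.fpFst (BasedFunctor.comp ζ' z) f) :=
    repByAlgSpWith_of_square P (FibCat.fpFst (BasedFunctor.comp ζ' z) f)
      (FibCat.fpFst ζ' (FibCat.fpFst z f)) (paste1 ζ' z f) (BasedFunctor.id _)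
      (isEquivOver_paste1 _ _ _) (isEquivOver_id _) (Iso.refl _) hA₀
  -- Step B
  have isoB : BasedFunctor.comp (AlgSt.ofSpMap p.hom) (BasedFunctor.id _) ≅
      BasedFunctor.comp Φ (FibCat.fpFst (BasedFunctor.comp ζ' z) f) :=
    isoOfPointwise _ _ (fun v => ⟨𝟙 _, IsHomLift.id rfl⟩)
  have hB : AlgSt.RepByAlgSpWith P (AlgSt.ofSpMap p.hom) :=
    repByAlgSpWith_of_square' P (FibCat.fpFst (BasedFunctor.comp ζ' z) f) (AlgSt.ofSpMap p.hom)
      Φ (BasedFunctor.id _) hΦ (isEquivOver_id _) isoB hA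
  -- Step C
  have hC : P p.hom := prop_of_repByAlgSpWith_ofSpMap P hPb hP p hB
  -- Step 5
  have hcov : AlgSp.IsFppfCover (fun _ : PUnit.{u + 1} => C.obj) (fun _ => c.hom) :=
    ⟨fun _ => ⟨hc₁, hc₂⟩, fun x => ⟨PUnit.unit, hc₃ x⟩⟩
  exact (hP (fun _ => C.obj) (fun _ => c.hom) Z₀.property (fun _ => C.property) hcov a.hom
    V.property (fun _ => pullback a.hom c.hom) (fun _ => pullback.snd a.hom c.hom)
    (fun _ => pullback.fst a.hom c.hom) (fun _ => hX') (fun _ => sq)).2 (fun _ => hC)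

/-- A morphism of algebraic spaces with `P` induces a 1-morphism representable with `P`, for `P`
stable under base change. -/
theorem repByAlgSpWith_ofSpMap_of_prop (P : MorphismProperty (AlgSp.Sp S)) (hPb : BC P)
    {V Z : AlgSp.Space S} (a : V ⟶ Z) (ha : P a.hom) :
    AlgSt.RepByAlgSpWith P (AlgSt.ofSpMap a.hom) := by
  apply Groth.Agent.Lib.Helper28.AlgSt.Chart.repByAlgSpWith_of_exists_pullback
  intro U ξ
  let ξ' : (AlgSp.yon S).obj U ⟶ Z.obj := ObjectProperty.homMk ξ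
  have sq := IsPullback.of_hasPullback a.hom ξ'
  have hF' : AlgSp.IsAlgSpace (pullback a.hom ξ') :=
    Groth.Agent.Lib.Helper16.isAlgSpace_of_isPullback V.property Z.property.diag
      (AlgSp.IsAlgSpace.yon_obj U) sq
  refine ⟨⟨pullback a.hom ξ', hF'⟩, (pullback.fst a.hom ξ').hom, pullback.snd a.hom ξ', ?_, ?_⟩
  · exact sq.map (sheafToPresheaf (AlgSp.J S) (Type (u + 1)))
  · exact hPb V.property Z.property hF' (AlgSp.IsAlgSpace.yon_obj U) a.hom ξ' _ _ sq ha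

/-- The space-level criterion, given one representing space of the base change to a cover. -/
theorem repByAlgSpWith_of_space_cover (h𝒳 : FibCat.IsFibGrpd 𝒳.p) (h𝒴 : FibCat.IsFibGrpd 𝒴.p)
    (P : MorphismProperty (AlgSp.Sp S)) (hPb : BC P)
    (hP : AlgSp.IsLocalOnBase AlgSp.IsFppfCover P)
    (f : 𝒳 ⥤ᵇ 𝒴) (hf : AlgSt.RepByAlgSp1 f) (W : AlgSp.Space S) (w : AlgSt.ofSp W.obj ⥤ᵇ 𝒴)
    (hw₁ : AlgSt.RepByAlgSpWith (AlgSp.LocP @Flat) w)
    (hw₂ : AlgSt.RepByAlgSpWith (AlgSp.LocP @LocallyOfFinitePresentation) w)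
    (hw₃ : AlgSt.RepByAlgSpWith AlgSp.IsSurjectiveMor w)
    (V : AlgSp.Space S) (a : V ⟶ W) (e : AlgSt.ofSp V.obj ⥤ᵇ FibCat.fp w f)
    (he : FibCat.IsEquivOver e)
    (iso : BasedFunctor.comp e (FibCat.fpFst w f) ≅ AlgSt.ofSpMap a.hom) (ha : P a.hom) :
    AlgSt.RepByAlgSpWith P f := by
  have h1 : AlgSt.RepByAlgSpWith P (AlgSt.ofSpMap a.hom) :=
    repByAlgSpWith_ofSpMap_of_prop P hPb a ha
  have h2 : AlgSt.RepByAlgSpWith P (FibCat.fpFst w f) :=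
    repByAlgSpWith_of_square P (FibCat.fpFst w f) (AlgSt.ofSpMap a.hom) e (BasedFunctor.id _) he
      (isEquivOver_id _) iso.symm h1
  exact repByAlgSpWith_of_fpFst_cover h𝒳 h𝒴 (Stk.isFibGrpd_ofPsh _) P hPb hP f hf w hw₁ hw₂ hw₃ h2

end Main

end Groth.Agent.Lib.Helper28.AlgSt.Descent
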