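import Mathlib
import Groth.Agent.Lib.Helper28.AlgSt.Descent

/-!
# Calculus of 1-morphisms between categories representable by algebraic spaces
-/

set_option autoImplicit false
set_option backward.isDefEq.respectTransparency false
set_option backward.isDefEq.respectTransparency.types false

universe v₃ u₃ v₂ u₂ v₁ u₁ u

open CategoryTheory CategoryTheory.Limits AlgebraicGeometry Opposite

namespace Groth.Agent.Lib.Helper28.AlgSt.SpaceCalc

open Groth.Agent.Lib.Helper10.Fib Groth.Agent.Lib.Helper10.StkPsh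
open Groth.Agent.Lib.Helper10.AlgStRep
open Groth.Agent.Lib.Helper28.AlgSt.PshFun Groth.Agent.Lib.Helper28.AlgSt.PshPull
open Groth.Agent.Lib.Helper28.AlgSt.ClsPsh Groth.Agent.Lib.Helper28.AlgSt.Bridge
open Groth.Agent.Lib.Helper28.AlgSt.Key Groth.Agent.Lib.Helper28.AlgSt.PropInst
open Groth.Agent.Lib.Helper28.AlgSt.Comp Groth.Agent.Lib.Helper28.AlgSt.Whisker
open Groth.Agent.Lib.Helper28.AlgSt.Descent

section Setoid

variable {C : Type u₁} [Category.{v₁} C] {ℬ : BasedCategory.{v₂, u₂} C}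
  {𝒲 : BasedCategory.{v₃, u₃} C}

/-- In a category fibred in setoids, two morphisms over the same morphism of the base with the
same source and target coincide. -/
lemma hom_eq_of_isFibSetoid (hℬ : FibCat.IsFibSetoid ℬ.p) {x y : ℬ.obj} {V U : C} (f : V ⟶ U)
    (φ ψ : x ⟶ y) [ℬ.p.IsHomLift f φ] [ℬ.p.IsHomLift f ψ] : φ = ψ := by
  haveI := toCls_faithful hℬ
  apply (toCls hℬ.1).toFunctor.map_injective
  haveI : (Stk.ofPsh (clsPsh hℬ.1)).p.IsHomLift f ((toCls hℬ.1).map φ) :=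
    BasedFunctor.preserves_isHomLift (toCls hℬ.1) f φ
  haveI : (Stk.ofPsh (clsPsh hℬ.1)).p.IsHomLift f ((toCls hℬ.1).map ψ) :=
    BasedFunctor.preserves_isHomLift (toCls hℬ.1) f ψ
  exact hom_eq_of_isHomLift f _ _

/-- Two functors into a category fibred in setoids which are pointwise related by morphisms over
identities are 2-isomorphic. -/
theorem nonempty_iso_of_pointwise (hℬ : FibCat.IsFibSetoid ℬ.p) (G G' : 𝒲 ⥤ᵇ ℬ)
    (h : ∀ w : 𝒲.obj, ∃ k : G.obj w ⟶ G'.obj w, ℬ.p.IsHomLift (𝟙 (𝒲.p.obj w)) k) :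
    Nonempty (G ≅ G') := by
  choose k hk using h
  have hiso : ∀ w, IsIso (k w) := fun w => by
    have := hk w
    exact IsFibGrpd.isIso_of_isHomLift_id hℬ.1 (U := 𝒲.p.obj w) (k w)
  refine ⟨BasedNatIso.mkNatIso (NatIso.ofComponents (fun w => @asIso _ _ _ _ (k w) (hiso w))
    (fun {w w'} m => ?_)) (fun w => hk w)⟩
  have := hk w
  have := hk w'
  have l1 : ℬ.p.IsHomLift (𝒲.p.map m) (G.map m) :=
    BasedFunctor.preserves_isHomLift G (𝒲.p.map m) m
  have l2 : ℬ.p.IsHomLift (𝒲.p.map m) (G'.map m) :=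
    BasedFunctor.preserves_isHomLift G' (𝒲.p.map m) m
  have l3 : ℬ.p.IsHomLift (𝒲.p.map m ≫ 𝟙 _) (G.map m ≫ k w') := inferInstance
  have l4 : ℬ.p.IsHomLift (𝟙 _ ≫ 𝒲.p.map m) (k w ≫ G'.map m) := inferInstance
  rw [Category.comp_id] at l3
  rw [Category.id_comp] at l4
  exact @hom_eq_of_isFibSetoid _ _ _ hℬ _ _ _ _ (𝒲.p.map m) (G.map m ≫ k w') (k w ≫ G'.map m) l3 l4

end Setoid

section MapOf

variable {S : Scheme.{u}} {𝒜 : BasedCategory.{v₁, u₁} (Over S)}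
  {ℬ : BasedCategory.{v₂, u₂} (Over S)} {A B : AlgSp.Space S}

/-- Every 1-morphism between categories represented by algebraic spaces is induced, up to
2-isomorphism, by a morphism of the spaces. -/
theorem exists_mapOf (eA : AlgSt.ofSp A.obj ⥤ᵇ 𝒜) (eB : AlgSt.ofSp B.obj ⥤ᵇ ℬ)
    (heB : FibCat.IsEquivOver eB) (j : 𝒜 ⥤ᵇ ℬ) :
    ∃ m : A ⟶ B,
      Nonempty (BasedFunctor.comp eA j ≅ BasedFunctor.comp (AlgSt.ofSpMap m.hom) eB) := by
  obtain ⟨eB', ⟨η⟩, ⟨ε⟩⟩ := heB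
  let G : AlgSt.ofSp A.obj ⥤ᵇ AlgSt.ofSp B.obj :=
    BasedFunctor.comp (BasedFunctor.comp eA j) eB'
  let m : A ⟶ B := ObjectProperty.homMk (ObjectProperty.homMk (pshMapOf G))
  refine ⟨m, ⟨?_⟩⟩
  exact (wl (BasedFunctor.comp eA j) ε).symm ≪≫ wr (isoPshMapOf G) eB

end MapOf

section Transfer

variable {S : Scheme.{u}} {𝒜 : BasedCategory.{v₁, u₁} (Over S)}
  {ℬ : BasedCategory.{v₂, u₂} (Over S)} {A B : AlgSp.Space S}

/-- If the morphism of spaces underlying `j` has `P`, then `j` is representable with `P`. -/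
theorem repByAlgSpWith_of_prop_map (P : MorphismProperty (AlgSp.Sp S)) (hPb : BC P)
    (eA : AlgSt.ofSp A.obj ⥤ᵇ 𝒜) (eB : AlgSt.ofSp B.obj ⥤ᵇ ℬ)
    (heA : FibCat.IsEquivOver eA) (heB : FibCat.IsEquivOver eB) (j : 𝒜 ⥤ᵇ ℬ) (m : A ⟶ B)
    (iso : BasedFunctor.comp eA j ≅ BasedFunctor.comp (AlgSt.ofSpMap m.hom) eB)
    (hm : P m.hom) : AlgSt.RepByAlgSpWith P j :=
  repByAlgSpWith_of_square P j (AlgSt.ofSpMap m.hom) eA eB heA heB iso.symm
    (repByAlgSpWith_ofSpMap_of_prop P hPb m hm)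

/-- If `j` is representable with `P`, the morphism of spaces underlying `j` has `P`. -/
theorem prop_map_of_repByAlgSpWith (P : MorphismProperty (AlgSp.Sp S)) (hPb : BC P)
    (hP : AlgSp.IsLocalOnBase AlgSp.IsFppfCover P)
    (eA : AlgSt.ofSp A.obj ⥤ᵇ 𝒜) (eB : AlgSt.ofSp B.obj ⥤ᵇ ℬ)
    (heA : FibCat.IsEquivOver eA) (heB : FibCat.IsEquivOver eB) (j : 𝒜 ⥤ᵇ ℬ) (m : A ⟶ B)
    (iso : BasedFunctor.comp eA j ≅ BasedFunctor.comp (AlgSt.ofSpMap m.hom) eB)
    (h : AlgSt.RepByAlgSpWith P j) : P m.hom :=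
  prop_of_repByAlgSpWith_ofSpMap P hPb hP m
    (repByAlgSpWith_of_square' P j (AlgSt.ofSpMap m.hom) eA eB heA heB iso.symm h)

end Transfer

section FpSp

variable {S : Scheme.{u}} {𝒜 : BasedCategory.{v₁, u₁} (Over S)}
  {ℬ : BasedCategory.{v₂, u₂} (Over S)} {𝒞 : BasedCategory.{v₃, u₃} (Over S)}
  {A B D : AlgSp.Space S}

/-- The presheaf-level pullback square of a pullback of sheaves. -/
lemma sqP (mj : A ⟶ B) (mk : D ⟶ B) :
    IsPullback (pullback.fst mk.hom mj.hom).hom (pullback.snd mk.hom mj.hom).hom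
      mk.hom.hom mj.hom.hom :=
  (IsPullback.of_hasPullback mk.hom mj.hom).map (sheafToPresheaf (AlgSp.J S) (Type (u + 1)))

/-- The fibre product of the spaces represents the 2-fibre product of the categories. -/
noncomputable def fpSpEquiv (eA : AlgSt.ofSp A.obj ⥤ᵇ 𝒜) (eB : AlgSt.ofSp B.obj ⥤ᵇ ℬ)
    (eD : AlgSt.ofSp D.obj ⥤ᵇ 𝒞) (j : 𝒜 ⥤ᵇ ℬ) (k : 𝒞 ⥤ᵇ ℬ) (mj : A ⟶ B) (mk : D ⟶ B)
    (isoj : BasedFunctor.comp eA j ≅ BasedFunctor.comp (AlgSt.ofSpMap mj.hom) eB)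
    (isok : BasedFunctor.comp eD k ≅ BasedFunctor.comp (AlgSt.ofSpMap mk.hom) eB) :
    AlgSt.ofSp (pullback mk.hom mj.hom) ⥤ᵇ FibCat.fp j k :=
  BasedFunctor.comp (pullFun (sqP mj mk))
    (fpMap (α := eA) (β := eD) (γ := eB) isoj.symm isok.symm)

theorem isEquivOver_fpSpEquiv (eA : AlgSt.ofSp A.obj ⥤ᵇ 𝒜) (eB : AlgSt.ofSp B.obj ⥤ᵇ ℬ)
    (eD : AlgSt.ofSp D.obj ⥤ᵇ 𝒞) (heA : FibCat.IsEquivOver eA) (heB : FibCat.IsEquivOver eB)
    (heD : FibCat.IsEquivOver eD) (j : 𝒜 ⥤ᵇ ℬ) (k : 𝒞 ⥤ᵇ ℬ) (mj : A ⟶ B) (mk : D ⟶ B)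
    (isoj : BasedFunctor.comp eA j ≅ BasedFunctor.comp (AlgSt.ofSpMap mj.hom) eB)
    (isok : BasedFunctor.comp eD k ≅ BasedFunctor.comp (AlgSt.ofSpMap mk.hom) eB) :
    FibCat.IsEquivOver (fpSpEquiv eA eB eD j k mj mk isoj isok) := by
  haveI := IsEquivOver.isEquivalence heB
  exact isEquivOver_comp _ _ (pullFun_isEquivOver (sqP mj mk))
    (isEquivOver_fpMap isoj.symm isok.symm heA heD)

end FpSp

section DiagSp

variable {S : Scheme.{u}} {𝒜 : BasedCategory.{v₁, u₁} (Over S)}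
  {ℬ : BasedCategory.{v₂, u₂} (Over S)} {A B : AlgSp.Space S}

lemma diag_snd_app (m : A ⟶ B) (w : (AlgSt.ofSp A.obj).obj) :
    (pullback.snd m.hom m.hom).hom.app (op w.base)
      ((pullback.diagonal m.hom).hom.app (op w.base) w.sec) = w.sec := by
  have h := congrArg (fun t : A.obj ⟶ A.obj => t.hom.app (op w.base)) (pullback.diagonal_snd m.hom)
  exact ConcreteCategory.congr_hom h w.sec

lemma diag_fst_app (m : A ⟶ B) (w : (AlgSt.ofSp A.obj).obj) :
    (pullback.fst m.hom m.hom).hom.app (op w.base)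
      ((pullback.diagonal m.hom).hom.app (op w.base) w.sec) = w.sec := by
  have h := congrArg (fun t : A.obj ⟶ A.obj => t.hom.app (op w.base)) (pullback.diagonal_fst m.hom)
  exact ConcreteCategory.congr_hom h w.sec

/-- The diagonal of `j` corresponds to the diagonal of the underlying morphism of spaces. -/
theorem nonempty_diag_iso (eA : AlgSt.ofSp A.obj ⥤ᵇ 𝒜) (eB : AlgSt.ofSp B.obj ⥤ᵇ ℬ)
    (heA : FibCat.IsEquivOver eA) (heB : FibCat.IsEquivOver eB) (j : 𝒜 ⥤ᵇ ℬ) (m : A ⟶ B)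
    (iso : BasedFunctor.comp eA j ≅ BasedFunctor.comp (AlgSt.ofSpMap m.hom) eB) :
    Nonempty (BasedFunctor.comp eA (FibCat.diag j) ≅
      BasedFunctor.comp (AlgSt.ofSpMap (pullback.diagonal m.hom))
        (fpSpEquiv eA eB eA j j m m iso iso)) := by
  have hE := isEquivOver_fpSpEquiv eA eB eA heA heB heA j j m m iso iso
  have hset : FibCat.IsFibSetoid (FibCat.fp j j).p :=
    Groth.Agent.Lib.Helper10.StkPost.isFibSetoid_of_isEquivOver _ hE (isFibSetoid_ofPsh _)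
  have hℬ : FibCat.IsFibSetoid ℬ.p :=
    Groth.Agent.Lib.Helper10.StkPost.isFibSetoid_of_isEquivOver eB heB (isFibSetoid_ofPsh _)
  refine nonempty_iso_of_pointwise hset _ _ (fun w => ?_)
  let v : (AlgSt.ofSp (pullback m.hom m.hom)).obj :=
    (AlgSt.ofSpMap (pullback.diagonal m.hom)).obj w
  let ι₁ : w ⟶ (Stk.ofPshMap (pullback.snd m.hom m.hom).hom).obj v :=
    ⟨𝟙 w.base, by
      show A.obj.obj.map (𝟙 w.base).op ((pullback.snd m.hom m.hom).hom.app (op w.base)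
        ((pullback.diagonal m.hom).hom.app (op w.base) w.sec)) = w.sec
      rw [diag_snd_app]
      simp⟩
  let ι₂ : w ⟶ (Stk.ofPshMap (pullback.fst m.hom m.hom).hom).obj v :=
    ⟨𝟙 w.base, by
      show A.obj.obj.map (𝟙 w.base).op ((pullback.fst m.hom m.hom).hom.app (op w.base)
        ((pullback.diagonal m.hom).hom.app (op w.base) w.sec)) = w.sec
      rw [diag_fst_app]
      simp⟩
  have l1 : (AlgSt.ofSp A.obj).p.IsHomLift (𝟙 w.base) ι₁ :=
    IsHomLift.map (AlgSt.ofSp A.obj).p ι₁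
  have l2 : (AlgSt.ofSp A.obj).p.IsHomLift (𝟙 w.base) ι₂ :=
    IsHomLift.map (AlgSt.ofSp A.obj).p ι₂
  have l1' : 𝒜.p.IsHomLift (𝟙 w.base) (eA.map ι₁) :=
    BasedFunctor.preserves_isHomLift eA (𝟙 w.base) ι₁
  have l2' : 𝒜.p.IsHomLift (𝟙 w.base) (eA.map ι₂) :=
    BasedFunctor.preserves_isHomLift eA (𝟙 w.base) ι₂
  refine ⟨ObjectProperty.homMk ⟨eA.map ι₁, eA.map ι₂, ?_⟩, ?_⟩
  · have p1 := (((AlgSt.ofSpMap (pullback.diagonal m.hom)).comp
      (fpSpEquiv eA eB eA j j m m iso iso)).obj w).property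
    have p1' : ℬ.p.IsHomLift (𝟙 w.base)
        (((AlgSt.ofSpMap (pullback.diagonal m.hom)).comp
          (fpSpEquiv eA eB eA j j m m iso iso)).obj w).obj.iso.hom :=
      @isHomLift_id_of_eq _ _ _ _ ℬ.p _ _
        (eA.w_obj ((Stk.ofPshMap (pullback.snd m.hom m.hom).hom).obj v)) _ _ _ p1
    have p2 := ((eA.comp (FibCat.diag j)).obj w).property
    have p2' : ℬ.p.IsHomLift (𝟙 w.base) ((eA.comp (FibCat.diag j)).obj w).obj.iso.hom :=
      @isHomLift_id_of_eq _ _ _ _ ℬ.p _ _ (eA.w_obj w) _ _ _ p2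
    have q1 : ℬ.p.IsHomLift (𝟙 w.base) (j.map (eA.map ι₁)) :=
      BasedFunctor.preserves_isHomLift j (𝟙 w.base) (eA.map ι₁)
    have q2 : ℬ.p.IsHomLift (𝟙 w.base) (j.map (eA.map ι₂)) :=
      BasedFunctor.preserves_isHomLift j (𝟙 w.base) (eA.map ι₂)
    have r1 : ℬ.p.IsHomLift (𝟙 w.base ≫ 𝟙 w.base) (j.map (eA.map ι₁) ≫
        (((AlgSt.ofSpMap (pullback.diagonal m.hom)).comp
          (fpSpEquiv eA eB eA j j m m iso iso)).obj w).obj.iso.hom) := inferInstance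
    have r2 : ℬ.p.IsHomLift (𝟙 w.base ≫ 𝟙 w.base)
        (((eA.comp (FibCat.diag j)).obj w).obj.iso.hom ≫ j.map (eA.map ι₂)) := inferInstance
    exact @hom_eq_of_isFibSetoid _ _ _ hℬ _ _ _ _ (𝟙 w.base ≫ 𝟙 w.base) _ _ r1 r2
  · rw [fp_isHomLift_iff]
    exact l1'

end DiagSp

section DiagTransfer

variable {S : Scheme.{u}} {𝒜 : BasedCategory.{v₁, u₁} (Over S)}
  {ℬ : BasedCategory.{v₂, u₂} (Over S)} {A B : AlgSp.Space S}

/-- The fibre product of algebraic spaces, as an algebraic space. -/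
noncomputable def selfFp (m : A ⟶ B) : AlgSp.Space S :=
  ⟨pullback m.hom m.hom, Groth.Agent.Lib.Helper16.isAlgSpace_of_isPullback A.property
    B.property.diag A.property (IsPullback.of_hasPullback m.hom m.hom)⟩

/-- The diagonal of `j` is representable with `P` if and only if the diagonal of the underlying
morphism of algebraic spaces has `P`. -/
theorem repByAlgSpWith_diag_iff (P : MorphismProperty (AlgSp.Sp S)) (hPb : BC P)
    (hP : AlgSp.IsLocalOnBase AlgSp.IsFppfCover P)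
    (eA : AlgSt.ofSp A.obj ⥤ᵇ 𝒜) (eB : AlgSt.ofSp B.obj ⥤ᵇ ℬ)
    (heA : FibCat.IsEquivOver eA) (heB : FibCat.IsEquivOver eB) (j : 𝒜 ⥤ᵇ ℬ) (m : A ⟶ B)
    (iso : BasedFunctor.comp eA j ≅ BasedFunctor.comp (AlgSt.ofSpMap m.hom) eB) :
    AlgSt.RepByAlgSpWith P (FibCat.diag j) ↔ P (pullback.diagonal m.hom) := by
  obtain ⟨isoD⟩ := nonempty_diag_iso eA eB heA heB j m iso
  have hE := isEquivOver_fpSpEquiv eA eB eA heA heB heA j j m m iso iso
  let Δ : A ⟶ selfFp m := ObjectProperty.homMk (pullback.diagonal m.hom)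
  constructor
  · intro h
    exact prop_map_of_repByAlgSpWith P hPb hP eA (B := selfFp m)
      (fpSpEquiv eA eB eA j j m m iso iso) heA hE (FibCat.diag j) Δ isoD h
  · intro h
    exact repByAlgSpWith_of_prop_map P hPb eA (B := selfFp m)
      (fpSpEquiv eA eB eA j j m m iso iso) heA hE (FibCat.diag j) Δ isoD h

/-- Only the direction which does not need locality. -/
theorem repByAlgSpWith_diag_of_diagonal (P : MorphismProperty (AlgSp.Sp S)) (hPb : BC P)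
    (eA : AlgSt.ofSp A.obj ⥤ᵇ 𝒜) (eB : AlgSt.ofSp B.obj ⥤ᵇ ℬ)
    (heA : FibCat.IsEquivOver eA) (heB : FibCat.IsEquivOver eB) (j : 𝒜 ⥤ᵇ ℬ) (m : A ⟶ B)
    (iso : BasedFunctor.comp eA j ≅ BasedFunctor.comp (AlgSt.ofSpMap m.hom) eB)
    (h : P (pullback.diagonal m.hom)) : AlgSt.RepByAlgSpWith P (FibCat.diag j) := by
  obtain ⟨isoD⟩ := nonempty_diag_iso eA eB heA heB j m iso
  have hE := isEquivOver_fpSpEquiv eA eB eA heA heB heA j j m m iso iso
  let Δ : A ⟶ selfFp m := ObjectProperty.homMk (pullback.diagonal m.hom)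
  exact repByAlgSpWith_of_prop_map P hPb eA (B := selfFp m)
    (fpSpEquiv eA eB eA j j m m iso iso) heA hE (FibCat.diag j) Δ isoD h

/-- A functor from the category of a space to `(Sch/T)` is the functor of its map of sheaves. -/
noncomputable def spIso {T : Over S} (G : AlgSt.ofSp A.obj ⥤ᵇ FibCat.overCat T) :
    G ≅ BasedFunctor.comp (AlgSt.ofSpMap (AlgSt.spMapOfOver G)) (AlgSt.toOverCat T) :=
  (wl G (ofToIso T)).symm ≪≫
    wr ((isoPshMapOf (BasedFunctor.comp G (AlgSt.ofOverCat T))) ≪≫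
      eqToIso (congrArg Stk.ofPshMap (spMapOfOver_hom G).symm)) (AlgSt.toOverCat T)

/-- Chart form: for `j : 𝒜 ⟶ (Sch/T)` with `𝒜` represented by the algebraic space `A`. -/
theorem repByAlgSpWith_diag_iff_chart (P : MorphismProperty (AlgSp.Sp S)) (hPb : BC P)
    (hP : AlgSp.IsLocalOnBase AlgSp.IsFppfCover P) {T : Over S}
    (j : 𝒜 ⥤ᵇ FibCat.overCat T) (e : AlgSt.ofSp A.obj ⥤ᵇ 𝒜) (he : FibCat.IsEquivOver e) :
    AlgSt.RepByAlgSpWith P (FibCat.diag j) ↔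
      P (pullback.diagonal (AlgSt.spMapOfOver (BasedFunctor.comp e j))) :=
  repByAlgSpWith_diag_iff P hPb hP e (B := (AlgSp.ofScheme S).obj T) (AlgSt.toOverCat T) he
    (isEquivOver_toOverCat T) j (ObjectProperty.homMk (AlgSt.spMapOfOver (BasedFunctor.comp e j)))
    (spIso (BasedFunctor.comp e j))

theorem repByAlgSpWith_diag_of_chart (P : MorphismProperty (AlgSp.Sp S)) (hPb : BC P)
    {T : Over S} (j : 𝒜 ⥤ᵇ FibCat.overCat T) (e : AlgSt.ofSp A.obj ⥤ᵇ 𝒜)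
    (he : FibCat.IsEquivOver e)
    (h : P (pullback.diagonal (AlgSt.spMapOfOver (BasedFunctor.comp e j)))) :
    AlgSt.RepByAlgSpWith P (FibCat.diag j) :=
  repByAlgSpWith_diag_of_diagonal P hPb e (B := (AlgSp.ofScheme S).obj T) (AlgSt.toOverCat T) he
    (isEquivOver_toOverCat T) j (ObjectProperty.homMk (AlgSt.spMapOfOver (BasedFunctor.comp e j)))
    (spIso (BasedFunctor.comp e j)) h

/-- Chart form of the transfer: a 1-morphism to `(Sch/T)` from a category represented by an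
algebraic space is representable with `P` iff the morphism of spaces has `P`. -/
theorem repByAlgSpWith_iff_chart (P : MorphismProperty (AlgSp.Sp S)) (hPb : BC P)
    (hP : AlgSp.IsLocalOnBase AlgSp.IsFppfCover P) {T : Over S}
    (j : 𝒜 ⥤ᵇ FibCat.overCat T) (e : AlgSt.ofSp A.obj ⥤ᵇ 𝒜) (he : FibCat.IsEquivOver e) :
    AlgSt.RepByAlgSpWith P j ↔ P (AlgSt.spMapOfOver (BasedFunctor.comp e j)) :=
  ⟨fun h => prop_map_of_repByAlgSpWith P hPb hP e (B := (AlgSp.ofScheme S).obj T)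
      (AlgSt.toOverCat T) he (isEquivOver_toOverCat T) j
      (ObjectProperty.homMk (AlgSt.spMapOfOver (BasedFunctor.comp e j)))
      (spIso (BasedFunctor.comp e j)) h,
    fun h => repByAlgSpWith_of_prop_map P hPb e (B := (AlgSp.ofScheme S).obj T)
      (AlgSt.toOverCat T) he (isEquivOver_toOverCat T) j
      (ObjectProperty.homMk (AlgSt.spMapOfOver (BasedFunctor.comp e j)))
      (spIso (BasedFunctor.comp e j)) h⟩

end DiagTransfer

section Stacks

variable {S : Scheme.{u}} {𝒳 𝒴 : AlgSt.Cat S}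

/-- For `f` representable by algebraic spaces, the diagonal of `f` is representable with `P` as
soon as the diagonals of all morphisms of algebraic spaces have `P`. -/
theorem repByAlgSpWith_diag_of_forall (h𝒳 : FibCat.IsFibGrpd 𝒳.p) (h𝒴 : FibCat.IsFibGrpd 𝒴.p)
    (P : MorphismProperty (AlgSp.Sp S)) (hPb : BC P) (f : 𝒳 ⥤ᵇ 𝒴) (hf : AlgSt.RepByAlgSp1 f)
    (H : ∀ (A B : AlgSp.Space S) (m : A ⟶ B), P (pullback.diagonal m.hom)) :
    AlgSt.RepByAlgSpWith P (FibCat.diag f) := by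
  rw [repByAlgSpWith_diag_iff_baseChange P h𝒳 h𝒴 f]
  intro T y
  obtain ⟨A, e, he⟩ := hf T y
  exact repByAlgSpWith_diag_of_chart P hPb (FibCat.fpFst y f) e he
    (H A ((AlgSp.ofScheme S).obj T)
      (ObjectProperty.homMk (AlgSt.spMapOfOver (BasedFunctor.comp e (FibCat.fpFst y f)))))

/-- For `f` representable by algebraic spaces: the diagonal of `f` is representable with `P` if
and only if for every base change to a scheme, represented by an algebraic space, the diagonal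
of the morphism of algebraic spaces has `P`. -/
theorem repByAlgSpWith_diag_iff_forall (h𝒳 : FibCat.IsFibGrpd 𝒳.p) (h𝒴 : FibCat.IsFibGrpd 𝒴.p)
    (P : MorphismProperty (AlgSp.Sp S)) (hPb : BC P)
    (hP : AlgSp.IsLocalOnBase AlgSp.IsFppfCover P) (f : 𝒳 ⥤ᵇ 𝒴) (hf : AlgSt.RepByAlgSp1 f) :
    AlgSt.RepByAlgSpWith P (FibCat.diag f) ↔
      ∀ (T : Over S) (y : FibCat.overCat T ⥤ᵇ 𝒴) (A : AlgSp.Space S)
        (e : AlgSt.ofSp A.obj ⥤ᵇ FibCat.fp y f), FibCat.IsEquivOver e →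
        P (pullback.diagonal (AlgSt.spMapOfOver (BasedFunctor.comp e (FibCat.fpFst y f)))) := by
  rw [repByAlgSpWith_diag_iff_baseChange P h𝒳 h𝒴 f]
  constructor
  · intro h T y A e he
    exact (repByAlgSpWith_diag_iff_chart P hPb hP (FibCat.fpFst y f) e he).1 (h T y)
  · intro h T y
    obtain ⟨A, e, he⟩ := hf T y
    exact repByAlgSpWith_diag_of_chart P hPb (FibCat.fpFst y f) e he (h T y A e he)

end Stacks

end Groth.Agent.Lib.Helper28.AlgSt.SpaceCalc
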