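import Mathlib
import Groth.Agent.Lib.Helper28.AlgSt.Good
import Groth.Agent.Lib.Helper17.AlgSpProper
import Groth.Agent.S10534
import Groth.Agent.S10521
import Groth.Agent.S10535
import Groth.Agent.S10546
import Groth.Agent.S10528
import Groth.Agent.S10526
import Groth.Agent.S10531

/-!
# More "good" properties of morphisms of algebraic spaces
-/

set_option autoImplicit false

universe u

open CategoryTheory CategoryTheory.Limits AlgebraicGeometry Opposite

namespace Groth.Agent.Lib.Helper28.AlgSt.PropInst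

open Groth.Agent.Lib.Helper16 Groth.Agent.Lib.Helper17 Groth.Agent.Lib.Helper28.AlgSt.Comp

variable {S : Scheme.{u}}

theorem good_closedImm : Good (S := S) (AlgSp.RepWith @IsClosedImmersion) where
  bc := fun _ _ _ _ _ _ _ _ _ _ _ _ sq h =>
    (AlgSp.RepWith (S := S) @IsClosedImmersion).of_isPullback sq h
  co := fun _ _ _ _ _ _ a b ha hb =>
    (AlgSp.RepWith (S := S) @IsClosedImmersion).comp_mem a b ha hb
  loc := isLocalOnBase_fppf_of_fpqc (Groth.Agent.S10534.result S)

theorem good_univClosed : Good (S := S) AlgSp.IsUnivClosedMor where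
  bc := fun _ _ _ _ _ _ _ _ _ _ _ _ sq h => univSp_of_isPullback sq h
  co := fun _ _ _ _ h2 h3 a b ha hb => isUnivClosedMor_comp h2 h3.diag a b ha hb
  loc := isLocalOnBase_fppf_of_fpqc (Groth.Agent.S10521.result S)

theorem good_separated : Good (S := S) AlgSp.IsSeparatedMor where
  bc := fun _ _ _ _ _ _ _ _ _ _ _ _ sq h =>
    (AlgSp.RepWith (S := S) @IsClosedImmersion).diagonal.of_isPullback sq h
  co := fun _ _ _ _ _ _ a b ha hb =>
    (AlgSp.RepWith (S := S) @IsClosedImmersion).diagonal.comp_mem a b ha hb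
  loc := isLocalOnBase_fppf_of_fpqc (Groth.Agent.S10535.result S)

theorem good_mono : Good (S := S) (MorphismProperty.monomorphisms (AlgSp.Sp S)) where
  bc := fun _ _ _ _ _ _ _ _ _ _ _ _ sq h =>
    (MorphismProperty.monomorphisms (AlgSp.Sp S)).of_isPullback sq h
  co := fun _ _ _ _ _ _ a b ha hb =>
    (MorphismProperty.monomorphisms (AlgSp.Sp S)).comp_mem a b ha hb
  loc := isLocalOnBase_fppf_of_fpqc (Groth.Agent.S10546.result S)

theorem good_lft : Good (S := S) (AlgSp.LocP @LocallyOfFiniteType) :=
  good_locP etLocalST_locallyOfFiniteType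

theorem good_finiteType : Good (S := S) AlgSp.IsFiniteTypeMor := good_lft.inf good_quasiCompact

theorem good_openImm : Good (S := S) (AlgSp.RepWith @IsOpenImmersion) where
  bc := fun _ _ _ _ _ _ _ _ _ _ _ _ sq h =>
    (AlgSp.RepWith (S := S) @IsOpenImmersion).of_isPullback sq h
  co := fun _ _ _ _ _ _ a b ha hb =>
    (AlgSp.RepWith (S := S) @IsOpenImmersion).comp_mem a b ha hb
  loc := isLocalOnBase_fppf_of_fpqc (Groth.Agent.S10531.result S)

end Groth.Agent.Lib.Helper28.AlgSt.PropInst
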