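import Mathlib
import Groth.Agent.Lib.Helper28.AlgSt.SpaceCalc
import Groth.Agent.Lib.Helper28.AlgSt.Good
import Groth.Agent.Lib.Helper17.AlgSpProper
import Groth.Agent.Lib.Helper16.QuasiCompactMor
import Groth.Agent.Lib.Helper16.UnivRep
import Groth.Agent.S9900

/-!
# The diagonal of a morphism of algebraic spaces: closed immersion iff proper iff universally closed
-/

set_option autoImplicit false

universe u

open CategoryTheory CategoryTheory.Limits AlgebraicGeometry Opposite

namespace Groth.Agent.Lib.Helper28.AlgSt.SepDiag

open Groth.Agent.Lib.Helper16 Groth.Agent.Lib.Helper17 AlgSp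

variable {S : Scheme.{u}}

/-- A universally closed monomorphism locally of finite type of schemes is a closed immersion. -/
theorem isClosedImmersion_of_univClosed_mono {X Y : Scheme.{u}} (g : X ⟶ Y) [UniversallyClosed g]
    [LocallyOfFiniteType g] [Mono g] : IsClosedImmersion g := by
  haveI : IsSeparated g := inferInstance
  haveI : IsProper g := {}
  haveI : LocallyQuasiFinite g := inferInstance
  haveI : IsFinite g := IsFinite.of_isProper_of_locallyQuasiFinite g
  exact (IsClosedImmersion.iff_isFinite_and_mono g).2 ⟨inferInstance, inferInstance⟩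

theorem univClosed_mono_lft_le_closedImm :
    (@UniversallyClosed ⊓ (MorphismProperty.monomorphisms Scheme.{u} ⊓ @LocallyOfFiniteType) :
      MorphismProperty Scheme.{u}) ≤ @IsClosedImmersion := by
  rintro A B g ⟨h1, h2, h3⟩
  have : UniversallyClosed g := h1
  have : Mono g := h2
  have : LocallyOfFiniteType g := h3
  exact isClosedImmersion_of_univClosed_mono g

theorem closedImm_le_quasiCompact :
    (@IsClosedImmersion : MorphismProperty Scheme.{u}) ≤ @QuasiCompact := by
  intro A B g hg
  have : IsClosedImmersion g := hg
  exact (inferInstance : QuasiCompact g)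

variable {A B : AlgSp.Space S} (m : A ⟶ B)

lemma isAlgSpace_selfFp : IsAlgSpace (pullback m.hom m.hom) :=
  isAlgSpace_of_isPullback A.property B.property.diag A.property
    (IsPullback.of_hasPullback m.hom m.hom)

/-- The diagonal of a morphism of algebraic spaces is separated. -/
theorem isSeparatedMor_diagonal : IsSeparatedMor (pullback.diagonal m.hom) := by
  show RepWith @IsClosedImmersion (pullback.diagonal (pullback.diagonal m.hom))
  exact repWith_of_isIso _ _

/-- The diagonal of a morphism of algebraic spaces is locally of finite type. -/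
theorem locP_lft_diagonal : LocP @LocallyOfFiniteType (pullback.diagonal m.hom) := by
  obtain ⟨h1, h2, -, -, -⟩ := Groth.Agent.S9900.result m
  exact (locP_iff_repWith etLocalST_locallyOfFiniteType A.property (isAlgSpace_selfFp m) _ h1).2 h2

theorem isProperMor_diagonal_of_closedImm
    (h : RepWith @IsClosedImmersion (pullback.diagonal m.hom)) :
    IsProperMor (pullback.diagonal m.hom) :=
  ⟨isSeparatedMor_diagonal m, ⟨locP_lft_diagonal m,
    isQuasiCompactMor_of_repWith_quasiCompact _ (repWith_mono closedImm_le_quasiCompact _ h)⟩,
    isUnivClosedMor_of_repWith_isClosedImmersion _ h⟩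

theorem closedImm_diagonal_of_univClosed (h : IsUnivClosedMor (pullback.diagonal m.hom)) :
    RepWith @IsClosedImmersion (pullback.diagonal m.hom) := by
  obtain ⟨h1, h2, h3, -, -⟩ := Groth.Agent.S9900.result m
  have h4 : RepWith @UniversallyClosed (pullback.diagonal m.hom) :=
    (repWith_universallyClosed_iff _ h1).2 h
  exact repWith_mono univClosed_mono_lft_le_closedImm _ (repWith_inf _ h4 (repWith_inf _ h3 h2))

theorem closedImm_diagonal_iff_proper :
    RepWith @IsClosedImmersion (pullback.diagonal m.hom) ↔ IsProperMor (pullback.diagonal m.hom) :=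
  ⟨isProperMor_diagonal_of_closedImm m, fun h => closedImm_diagonal_of_univClosed m h.2.2⟩

theorem closedImm_diagonal_iff_univClosed :
    RepWith @IsClosedImmersion (pullback.diagonal m.hom) ↔
      IsUnivClosedMor (pullback.diagonal m.hom) :=
  ⟨fun h => (isProperMor_diagonal_of_closedImm m h).2.2, closedImm_diagonal_of_univClosed m⟩

/-- The diagonal of a morphism of algebraic spaces is unramified. -/
theorem locP_unramified_diagonal :
    LocP (@LocallyOfFiniteType ⊓ @FormallyUnramified) (pullback.diagonal m.hom) := by
  obtain ⟨h1, h2, h3, -, -⟩ := Groth.Agent.S9900.result m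
  rw [locP_iff_repWith etLocalST_unramified A.property (isAlgSpace_selfFp m) _ h1]
  refine repWith_mono ?_ _ (repWith_inf _ h2 h3)
  rintro X Y g ⟨hg1, hg2⟩
  have : Mono g := hg2
  exact ⟨hg1, (inferInstance : FormallyUnramified g)⟩

/-- The diagonal of a morphism of algebraic spaces is locally quasi-finite. -/
theorem locP_lqf_diagonal :
    LocP (@LocallyQuasiFinite ⊓ @LocallyOfFiniteType) (pullback.diagonal m.hom) := by
  obtain ⟨h1, -, -, -, h5⟩ := Groth.Agent.S9900.result m
  exact (locP_iff_repWith etLocalST_locallyQuasiFinite A.property (isAlgSpace_selfFp m) _ h1).2 h5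

end Groth.Agent.Lib.Helper28.AlgSt.SepDiag
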