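import Mathlib
import Groth.Agent.Lib.Helper28.AlgSt.SpaceCalc
import Groth.Agent.Lib.Helper28.AlgSt.Good2
import Groth.Agent.Lib.Helper28.AlgSt.SepDiag

/-!
# Comparing conditions on the diagonal of a morphism representable by algebraic spaces
-/

set_option autoImplicit false

universe u

open CategoryTheory CategoryTheory.Limits AlgebraicGeometry Opposite

namespace Groth.Agent.Lib.Helper28.AlgSt.DiagTFAE

open Groth.Agent.Lib.Helper10.Fib Groth.Agent.Lib.Helper10.AlgStRep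
open Groth.Agent.Lib.Helper28.AlgSt.PropInst Groth.Agent.Lib.Helper28.AlgSt.SpaceCalc

variable {S : Scheme.{u}} {𝒳 𝒴 : AlgSt.Cat S}

/-- Two conditions on the diagonal of `f` agree as soon as they agree on diagonals of morphisms
of algebraic spaces. -/
theorem diag_imp_of_forall (h𝒳 : FibCat.IsFibGrpd 𝒳.p) (h𝒴 : FibCat.IsFibGrpd 𝒴.p)
    {P P' : MorphismProperty (AlgSp.Sp S)} (hP : Good P) (hP' : Good P') (f : 𝒳 ⥤ᵇ 𝒴)
    (hf : AlgSt.RepByAlgSp1 f)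
    (H : ∀ (A B : AlgSp.Space S) (m : A ⟶ B),
      P (pullback.diagonal m.hom) → P' (pullback.diagonal m.hom))
    (h : AlgSt.RepByAlgSpWith P (FibCat.diag f)) : AlgSt.RepByAlgSpWith P' (FibCat.diag f) := by
  rw [repByAlgSpWith_diag_iff_forall h𝒳 h𝒴 _ hP.bc hP.loc f hf] at h
  rw [repByAlgSpWith_diag_iff_forall h𝒳 h𝒴 _ hP'.bc hP'.loc f hf]
  intro T y A e he
  exact H A ((AlgSp.ofScheme S).obj T) (ObjectProperty.homMk _) (h T y A e he)

theorem diag_iff_of_forall (h𝒳 : FibCat.IsFibGrpd 𝒳.p) (h𝒴 : FibCat.IsFibGrpd 𝒴.p)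
    {P P' : MorphismProperty (AlgSp.Sp S)} (hP : Good P) (hP' : Good P') (f : 𝒳 ⥤ᵇ 𝒴)
    (hf : AlgSt.RepByAlgSp1 f)
    (H : ∀ (A B : AlgSp.Space S) (m : A ⟶ B),
      P (pullback.diagonal m.hom) ↔ P' (pullback.diagonal m.hom)) :
    AlgSt.RepByAlgSpWith P (FibCat.diag f) ↔ AlgSt.RepByAlgSpWith P' (FibCat.diag f) :=
  ⟨diag_imp_of_forall h𝒳 h𝒴 hP hP' f hf (fun A B m => (H A B m).1),
    diag_imp_of_forall h𝒳 h𝒴 hP' hP f hf (fun A B m => (H A B m).2)⟩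

/-- `f` is representable with "diagonal has `P`" iff the diagonal of `f` is representable with
`P`. -/
theorem rep_diagonal_iff_diag (h𝒳 : FibCat.IsFibGrpd 𝒳.p) (h𝒴 : FibCat.IsFibGrpd 𝒴.p)
    {P : MorphismProperty (AlgSp.Sp S)} (hP : Good P) (f : 𝒳 ⥤ᵇ 𝒴) (hf : AlgSt.RepByAlgSp1 f) :
    AlgSt.RepByAlgSpWith P.diagonal f ↔ AlgSt.RepByAlgSpWith P (FibCat.diag f) := by
  rw [repByAlgSpWith_diag_iff_baseChange P h𝒳 h𝒴 f]
  constructor
  · intro h T y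
    obtain ⟨A, e, he, hq⟩ := h T y
    exact (repByAlgSpWith_diag_iff_chart P hP.bc hP.loc (FibCat.fpFst y f) e he).2 hq
  · intro h T y
    obtain ⟨A, e, he⟩ := hf T y
    exact ⟨A, e, he, (repByAlgSpWith_diag_iff_chart P hP.bc hP.loc (FibCat.fpFst y f) e he).1 (h T y)⟩

/-- `f` is representable with `Q` iff the diagonal of `f` is representable with `P`, when `Q` of
a morphism of algebraic spaces is `P` of its diagonal. -/
theorem rep_iff_diag (h𝒳 : FibCat.IsFibGrpd 𝒳.p) (h𝒴 : FibCat.IsFibGrpd 𝒴.p)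
    {Q P : MorphismProperty (AlgSp.Sp S)} (hP : Good P) (f : 𝒳 ⥤ᵇ 𝒴) (hf : AlgSt.RepByAlgSp1 f)
    (H : ∀ (A B : AlgSp.Space S) (m : A ⟶ B), Q m.hom ↔ P (pullback.diagonal m.hom)) :
    AlgSt.RepByAlgSpWith Q f ↔ AlgSt.RepByAlgSpWith P (FibCat.diag f) := by
  rw [repByAlgSpWith_diag_iff_baseChange P h𝒳 h𝒴 f]
  constructor
  · intro h T y
    obtain ⟨A, e, he, hq⟩ := h T y
    exact (repByAlgSpWith_diag_iff_chart P hP.bc hP.loc (FibCat.fpFst y f) e he).2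
      ((H A ((AlgSp.ofScheme S).obj T) (ObjectProperty.homMk _)).1 hq)
  · intro h T y
    obtain ⟨A, e, he⟩ := hf T y
    exact ⟨A, e, he, (H A ((AlgSp.ofScheme S).obj T) (ObjectProperty.homMk _)).2
      ((repByAlgSpWith_diag_iff_chart P hP.bc hP.loc (FibCat.fpFst y f) e he).1 (h T y))⟩

/-- If `f` is representable with `Q` and `Q` of a morphism of algebraic spaces implies `P` of its
diagonal, the diagonal of `f` is representable with `P`. -/
theorem diag_of_rep (h𝒳 : FibCat.IsFibGrpd 𝒳.p) (h𝒴 : FibCat.IsFibGrpd 𝒴.p)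
    {Q P : MorphismProperty (AlgSp.Sp S)} (hPb : BC P) (f : 𝒳 ⥤ᵇ 𝒴)
    (H : ∀ (A B : AlgSp.Space S) (m : A ⟶ B), Q m.hom → P (pullback.diagonal m.hom))
    (h : AlgSt.RepByAlgSpWith Q f) : AlgSt.RepByAlgSpWith P (FibCat.diag f) := by
  rw [repByAlgSpWith_diag_iff_baseChange P h𝒳 h𝒴 f]
  intro T y
  obtain ⟨A, e, he, hq⟩ := h T y
  exact repByAlgSpWith_diag_of_chart P hPb (FibCat.fpFst y f) e he
    (H A ((AlgSp.ofScheme S).obj T) (ObjectProperty.homMk _) hq)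

/-- Conjunction of two properties, the second one being good. -/
theorem repByAlgSpWith_inf {P Q : MorphismProperty (AlgSp.Sp S)} (hQ : Good Q) (f : 𝒳 ⥤ᵇ 𝒴)
    (hp : AlgSt.RepByAlgSpWith P f) (hq : AlgSt.RepByAlgSpWith Q f) :
    AlgSt.RepByAlgSpWith (P ⊓ Q) f := by
  intro T y
  obtain ⟨F, e, he, hpe⟩ := hp T y
  exact ⟨F, e, he, hpe, (repByAlgSpWith_iff_chart Q hQ.bc hQ.loc (FibCat.fpFst y f) e he).1
    (repByAlgSpWith_fpFst Q f y hq)⟩

end Groth.Agent.Lib.Helper28.AlgSt.DiagTFAE
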