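import Mathlib
import Groth.Agent.Lib.Helper28.AlgSt.SpaceCalc

/-!
# Morphisms representable by algebraic spaces with representable base changes are representable
-/

set_option autoImplicit false
set_option backward.isDefEq.respectTransparency false
set_option backward.isDefEq.respectTransparency.types false

universe w v₃ u₃ v₂ u₂ v₁ u₁ u

open CategoryTheory CategoryTheory.Limits AlgebraicGeometry Opposite

namespace Groth.Agent.Lib.Helper28.AlgSt.RepSch

open Groth.Agent.Lib.Helper10.Fib Groth.Agent.Lib.Helper10.StkPsh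
open Groth.Agent.Lib.Helper10.AlgStRep
open Groth.Agent.Lib.Helper28.AlgSt.PshFun Groth.Agent.Lib.Helper28.AlgSt.PshPull
open Groth.Agent.Lib.Helper28.AlgSt.ClsPsh Groth.Agent.Lib.Helper28.AlgSt.Bridge
open Groth.Agent.Lib.Helper28.AlgSt.Key Groth.Agent.Lib.Helper28.AlgSt.PropInst
open Groth.Agent.Lib.Helper28.AlgSt.Comp Groth.Agent.Lib.Helper28.AlgSt.Whisker
open Groth.Agent.Lib.Helper28.AlgSt.Descent Groth.Agent.Lib.Helper28.AlgSt.SpaceCalc

section Psh

variable {C : Type u₁} [Category.{v₁} C] {P Q : Cᵒᵖ ⥤ Type w}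

/-- The composite of functors of maps of presheaves is the functor of the composite. -/
def ofPshMapCompIso {R : Cᵒᵖ ⥤ Type w} (φ : P ⟶ Q) (ψ : Q ⟶ R) :
    BasedFunctor.comp (Stk.ofPshMap φ) (Stk.ofPshMap ψ) ≅ Stk.ofPshMap (φ ≫ ψ) :=
  isoPshMapOf _ ≪≫ eqToIso (by rw [pshMapOf_comp, pshMapOf_ofPshMap, pshMapOf_ofPshMap])

/-- The functor of the identity is the identity. -/
def ofPshMapIdIso : Stk.ofPshMap (𝟙 P) ≅ BasedFunctor.id (Stk.ofPsh P) :=
  eqToIso (by rw [pshMapOf_id]) ≪≫ (isoPshMapOf (BasedFunctor.id (Stk.ofPsh P))).symm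

/-- The functor of an isomorphism of presheaves is an equivalence. -/
theorem isEquivOver_ofPshMap_of_iso (φ : P ≅ Q) : FibCat.IsEquivOver (Stk.ofPshMap φ.hom) :=
  ⟨Stk.ofPshMap φ.inv,
    ⟨ofPshMapCompIso φ.hom φ.inv ≪≫ eqToIso (by rw [Iso.hom_inv_id]) ≪≫ ofPshMapIdIso⟩,
    ⟨ofPshMapCompIso φ.inv φ.hom ≪≫ eqToIso (by rw [Iso.inv_hom_id]) ≪≫ ofPshMapIdIso⟩⟩

end Psh

section Main

variable {S : Scheme.{u}} {𝒳 : BasedCategory.{v₁, u₁} (Over S)}
  {𝒴 : BasedCategory.{v₂, u₂} (Over S)}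

/-- If the map from a sheaf to `h_U` is representable, the sheaf is representable, and its
category is equivalent to a slice of the base. -/
theorem exists_equiv_overCat_of_representable {F : AlgSp.Sp S} {U : Over S}
    (φ : F ⟶ (AlgSp.yon S).obj U) (hφ : AlgSp.Representable φ) :
    ∃ (V : Over S) (E : AlgSt.ofSp F ⥤ᵇ FibCat.overCat V), FibCat.IsEquivOver E := by
  obtain ⟨V, snd, fst, sq⟩ := hφ (𝟙 ((AlgSp.yon S).obj U))
  haveI : IsIso fst := sq.isIso_fst_of_isIso
  let θ : F.obj ≅ ((AlgSp.yon S).obj V).obj :=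
    (sheafToPresheaf (AlgSp.J S) (Type (u + 1))).mapIso (asIso fst).symm
  exact ⟨V, BasedFunctor.comp (Stk.ofPshMap θ.hom) (AlgSt.toOverCat V),
    isEquivOver_comp _ _ (isEquivOver_ofPshMap_of_iso θ) (isEquivOver_toOverCat V)⟩

/-- A 1-morphism which is representable by algebraic spaces, with all base changes to schemes
representable by schemes, is representable. -/
theorem isRepresentable1_of_repByAlgSpWith_representable (g : 𝒳 ⥤ᵇ 𝒴)
    (h : AlgSt.RepByAlgSpWith AlgSp.Representable g) : FibCat.IsRepresentable1 g := by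
  intro U G
  obtain ⟨F, e, he, hrep⟩ := h U G
  obtain ⟨V, E, hE⟩ := exists_equiv_overCat_of_representable _ hrep
  obtain ⟨e', h1, h2⟩ := he
  exact ⟨V, BasedFunctor.comp e' E, isEquivOver_comp _ _ ⟨e, h2, h1⟩ hE⟩

end Main

end Groth.Agent.Lib.Helper28.AlgSt.RepSch
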