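import Mathlib
import Groth.Agent.Lib.Helper28.AlgSt.Good2
import Groth.Agent.Lib.Helper28.AlgSt.SpaceCalc
import Groth.Agent.Lib.Helper28.AlgSt.RepSch
import Groth.Agent.Lib.Helper10.Fib5
import Groth.Agent.S10532
import Groth.Agent.S12774

/-!
# 1-morphisms representable by isomorphisms are equivalences
-/

set_option autoImplicit false

universe u

open CategoryTheory CategoryTheory.Limits AlgebraicGeometry Opposite

namespace Groth.Agent.Lib.Helper28.AlgSt.IsoEquiv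

open Groth.Agent.Lib.Helper10.Fib Groth.Agent.Lib.Helper10.AlgStRep
open Groth.Agent.Lib.Helper28.AlgSt.PropInst Groth.Agent.Lib.Helper28.AlgSt.SpaceCalc
open Groth.Agent.Lib.Helper28.AlgSt.Key Groth.Agent.Lib.Helper28.AlgSt.Bridge
open Groth.Agent.Lib.Helper28.AlgSt.RepSch Groth.Agent.Lib.Helper28.AlgSt.Comp

variable {S : Scheme.{u}}

theorem good_iso : Good (S := S) (MorphismProperty.isomorphisms (AlgSp.Sp S)) where
  bc := fun _ _ _ _ _ _ _ _ _ _ _ _ sq h =>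
    (MorphismProperty.isomorphisms (AlgSp.Sp S)).of_isPullback sq h
  co := fun _ _ _ _ _ _ a b ha hb =>
    (MorphismProperty.isomorphisms (AlgSp.Sp S)).comp_mem a b ha hb
  loc := isLocalOnBase_fppf_of_fpqc (Groth.Agent.S10532.result S)

variable {𝒲 𝒴 : AlgSt.Cat S}

/-- If the base change of `g` along `G : (Sch/T) ⟶ 𝒴` is represented by an isomorphism, the
projection of the fibre product to `(Sch/T)` is an equivalence. -/
theorem isEquivOver_fpFst_of_iso (h𝒲 : FibCat.IsFibGrpd 𝒲.p) (h𝒴 : FibCat.IsFibGrpd 𝒴.p)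
    (g : 𝒲 ⥤ᵇ 𝒴) {T : Over S} (G : FibCat.overCat T ⥤ᵇ 𝒴) (F : AlgSp.Space S)
    (e : AlgSt.ofSp F.obj ⥤ᵇ FibCat.fp G g) (he : FibCat.IsEquivOver e)
    (hiso : IsIso (AlgSt.spMapOfOver (BasedFunctor.comp e (FibCat.fpFst G g)))) :
    FibCat.IsEquivOver (FibCat.fpFst G g) := by
  set Φ := BasedFunctor.comp e (FibCat.fpFst G g) with hΦ
  let θ : F.obj.obj ≅ ((AlgSp.yon S).obj T).obj :=
    (sheafToPresheaf (AlgSp.J S) (Type (u + 1))).mapIso (asIso (AlgSt.spMapOfOver Φ))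
  have h1 : FibCat.IsEquivOver
      (BasedFunctor.comp (AlgSt.ofSpMap (AlgSt.spMapOfOver Φ)) (AlgSt.toOverCat T)) :=
    isEquivOver_comp _ _ (isEquivOver_ofPshMap_of_iso θ) (isEquivOver_toOverCat T)
  haveI := IsEquivOver.isEquivalence h1
  haveI : Φ.toFunctor.IsEquivalence :=
    Functor.isEquivalence_of_iso (natIsoOfBased (spIso Φ)).symm
  haveI := IsEquivOver.isEquivalence he
  haveI : (e.toFunctor ⋙ (FibCat.fpFst G g).toFunctor).IsEquivalence :=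
    (inferInstance : Φ.toFunctor.IsEquivalence)
  haveI : (FibCat.fpFst G g).toFunctor.IsEquivalence :=
    Functor.isEquivalence_of_comp_left e.toFunctor (FibCat.fpFst G g).toFunctor
  haveI := IsFibGrpd.isFibered (isFibGrpd_fp G g (isFibGrpd_overForget (U := T)) h𝒲 h𝒴)
  exact isEquivOver_of_isEquivalence (FibCat.fpFst G g)

/-- Objects in the image of `G` lie in the essential image of `g` when the base change of `g`
along `G` is an isomorphism. -/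
theorem exists_iso_of_fpFst_equiv (g : 𝒲 ⥤ᵇ 𝒴) {T : Over S} (G : FibCat.overCat T ⥤ᵇ 𝒴)
    (hE : FibCat.IsEquivOver (FibCat.fpFst G g)) (t : Over T) :
    ∃ (x : 𝒲.obj) (φ : g.obj x ≅ G.obj t), 𝒴.p.IsHomLift (𝟙 (𝒴.p.obj (G.obj t))) φ.hom := by
  obtain ⟨w, φ, hφ⟩ := IsEquivOver.exists_iso hE t
  have hw : 𝒴.p.IsHomLift (𝟙 ((FibCat.overCat T).p.obj w.obj.fst)) w.obj.iso.hom := w.property
  have hw' : 𝒴.p.IsHomLift (𝟙 ((FibCat.overCat T).p.obj w.obj.fst)) w.obj.iso.inv :=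
    lift_inv_of_lift 𝒴.p w.obj.iso hw
  have hφ1 : (FibCat.overCat T).p.IsHomLift (𝟙 ((FibCat.overCat T).p.obj t)) φ.hom := hφ
  have hφ2 : 𝒴.p.IsHomLift (𝟙 ((FibCat.overCat T).p.obj t)) (G.map φ.hom) :=
    @BasedFunctor.preserves_isHomLift _ _ _ _ G _ _ _ _ _ _ hφ1
  have hdom0 : (FibCat.overCat T).p.obj ((FibCat.fpFst G g).obj w) =
      (FibCat.overCat T).p.obj t :=
    IsHomLift.domain_eq (FibCat.overCat T).p (𝟙 ((FibCat.overCat T).p.obj t)) φ.hom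
  have hdom : (FibCat.overCat T).p.obj w.obj.fst = (FibCat.overCat T).p.obj t := hdom0
  rw [hdom] at hw'
  have hw'' : 𝒴.p.IsHomLift (𝟙 ((FibCat.overCat T).p.obj t))
      (show g.obj w.obj.snd ⟶ G.obj ((FibCat.fpFst G g).obj w) from w.obj.iso.inv) := hw'
  have hc : 𝒴.p.IsHomLift (𝟙 ((FibCat.overCat T).p.obj t) ≫ 𝟙 ((FibCat.overCat T).p.obj t))
      ((show g.obj w.obj.snd ⟶ G.obj ((FibCat.fpFst G g).obj w) from w.obj.iso.inv) ≫
        G.map φ.hom) := inferInstance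
  rw [Category.comp_id] at hc
  let ψ : g.obj w.obj.snd ≅ G.obj ((FibCat.fpFst G g).obj w) := w.obj.iso.symm
  refine ⟨w.obj.snd, ψ ≪≫ G.toFunctor.mapIso φ, ?_⟩
  have hc' : 𝒴.p.IsHomLift (𝟙 ((FibCat.overCat T).p.obj t)) (ψ ≪≫ G.toFunctor.mapIso φ).hom := hc
  exact isHomLift_id_of_eq 𝒴.p (G.w_obj t).symm _

theorem isEquivOver_of_repWith_iso (h𝒲 : FibCat.IsFibGrpd 𝒲.p) (h𝒴 : FibCat.IsFibGrpd 𝒴.p)
    (g : 𝒲 ⥤ᵇ 𝒴)
    (hg : AlgSt.RepByAlgSpWith (MorphismProperty.isomorphisms (AlgSp.Sp S)) g) :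
    FibCat.IsEquivOver g := by
  have hmono : AlgSt.IsMono g := repByAlgSpWith_mono g (fun F U m hm => by
    have : IsIso m := hm
    exact (MorphismProperty.monomorphisms.iff _).2 inferInstance) hg
  obtain ⟨hfull, hfaith⟩ := Groth.Agent.S12774.result h𝒲 h𝒴 g hmono
  haveI := hfull
  haveI := hfaith
  refine isEquivOver_of_ff g (fun y => ?_)
  obtain ⟨G, -, ⟨i⟩⟩ := yoneda_essSurj (𝒴.p.obj y)
    (Functor.Fiber.mk (rfl : 𝒴.p.obj y = 𝒴.p.obj y))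
    (fun V f => IsFibGrpd.exists_lift' h𝒴 rfl f)
  let I : G.obj (Over.mk (𝟙 (𝒴.p.obj y))) ≅ y := Functor.Fiber.fiberInclusion.mapIso i
  have hI : 𝒴.p.IsHomLift (𝟙 (𝒴.p.obj y)) I.hom := i.hom.2
  obtain ⟨F, e, he, hiso⟩ := hg (𝒴.p.obj y) G
  have hE := isEquivOver_fpFst_of_iso h𝒲 h𝒴 g G F e he hiso
  obtain ⟨x, φ, hφ⟩ := exists_iso_of_fpFst_equiv g G hE (Over.mk (𝟙 (𝒴.p.obj y)))
  have hφ' : 𝒴.p.IsHomLift (𝟙 (𝒴.p.obj y)) φ.hom :=
    isHomLift_id_of_eq 𝒴.p (G.w_obj (Over.mk (𝟙 (𝒴.p.obj y)))) _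
  have hc : 𝒴.p.IsHomLift (𝟙 (𝒴.p.obj y) ≫ 𝟙 (𝒴.p.obj y)) (φ.hom ≫ I.hom) := inferInstance
  rw [Category.comp_id] at hc
  exact ⟨x, φ ≪≫ I, hc⟩

end Groth.Agent.Lib.Helper28.AlgSt.IsoEquiv
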