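import Mathlib
import Groth.Agent.Lib.Helper28.AlgSt.IsoEquiv
import Groth.Agent.Lib.Helper28.AlgSt.Descent
import Groth.Agent.Lib.Helper10.AlgStPtsBridge
import Groth.Agent.Lib.Helper10.AlgStChartInt
import Groth.Agent.S12818
import Groth.Agent.S12819
import Groth.Agent.S9929

/-!
# Monomorphisms into a stack covered by the spectrum of a field
-/

set_option autoImplicit false

universe u

open CategoryTheory CategoryTheory.Limits AlgebraicGeometry Opposite

namespace Groth.Agent.Lib.Helper28.AlgSt.MonoField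

open Groth.Agent.Lib.Helper10.Fib Groth.Agent.Lib.Helper10.AlgStRep
open Groth.Agent.Lib.Helper28.AlgSt.PropInst Groth.Agent.Lib.Helper28.AlgSt.SpaceCalc
open Groth.Agent.Lib.Helper28.AlgSt.Key Groth.Agent.Lib.Helper28.AlgSt.Bridge
open Groth.Agent.Lib.Helper28.AlgSt.IsoEquiv Groth.Agent.Lib.Helper28.AlgSt.Descent

variable {S : Scheme.{u}} {𝒵' 𝒵 : AlgSt.Cat S}

theorem isEmpty_or_isEquivOver (h𝒵' : AlgSt.IsAlgStack Scheme.fppfPrecoverage 𝒵')
    (h𝒵 : AlgSt.IsAlgStack Scheme.fppfPrecoverage 𝒵) (f : 𝒵' ⥤ᵇ 𝒵) (hf : AlgSt.IsMono f)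
    (k : Type u) [Field k] (a : Spec (CommRingCat.of k) ⟶ S)
    (z : FibCat.overCat (Over.mk a) ⥤ᵇ 𝒵)
    (hzp : AlgSt.RepByAlgSpWith (AlgSp.LocP @LocallyOfFinitePresentation) z)
    (hzs : AlgSt.RepByAlgSpWith AlgSp.IsSurjectiveMor z)
    (hzf : AlgSt.RepByAlgSpWith (AlgSp.LocP @Flat) z) :
    IsEmpty (AlgSt.Points 𝒵') ∨ FibCat.IsEquivOver f := by
  obtain ⟨A, e, he, hmono⟩ := hf (Over.mk a) z
  set g₀ := FibCat.fpFst z f with hg₀
  let m : A ⟶ (AlgSp.ofScheme S).obj (Over.mk a) :=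
    ObjectProperty.homMk (AlgSt.spMapOfOver (BasedFunctor.comp e g₀))
  haveI : Mono m.hom := hmono
  have hf1 : AlgSt.RepByAlgSp1 f := repByAlgSp1_of_with _ _ hf
  rcases Groth.Agent.S9929.result a A m with hE | hI
  · left
    constructor
    intro p
    have hz1 : AlgSt.RepByAlgSp1 z := repByAlgSp1_of_with _ _ hzs
    have hzsurj : AlgSt.IsSurjective z :=
      (Groth.Agent.S12819.result (H10PT.isAlgStack_overCat _) h𝒵 z hz1).2 hzs
    obtain ⟨q, hq⟩ := hzsurj (AlgSt.Points.map f p)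
    obtain ⟨w, -, -⟩ := Groth.Agent.S12818.result h𝒵' h𝒵 (H10PT.isAlgStack_overCat _) f z q p hq
    obtain ⟨w', -⟩ := (points_map_bijective_of_isEquivOver e he).2 w
    exact hE.false ((H10PT.ptsEquiv A.obj).symm w')
  · right
    have hm : IsIso (AlgSt.spMapOfOver (BasedFunctor.comp e g₀)) :=
      (inferInstance : IsIso ((ObjectProperty.ι _).map m))
    have hg₀iso : AlgSt.RepByAlgSpWith (MorphismProperty.isomorphisms (AlgSp.Sp S)) g₀ :=
      (repByAlgSpWith_iff_chart _ good_iso.bc good_iso.loc g₀ e he).2 hm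
    have hfiso : AlgSt.RepByAlgSpWith (MorphismProperty.isomorphisms (AlgSp.Sp S)) f :=
      repByAlgSpWith_of_fpFst_cover h𝒵'.isStack.1 h𝒵.isStack.1
        (isFibGrpd_overForget (U := Over.mk a)) _
        good_iso.bc good_iso.loc f hf1 z hzf hzp hzs hg₀iso
    exact isEquivOver_of_repWith_iso h𝒵'.isStack.1 h𝒵.isStack.1 f hfiso

end Groth.Agent.Lib.Helper28.AlgSt.MonoField
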