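import Mathlib
import Groth.Agent.Lib.Helper28.AlgSt.SpaceCalc
import Groth.Agent.Lib.Helper28.AlgSt.Good
import Groth.Agent.Lib.Helper15.FppfCover
import Groth.Agent.Lib.Helper10.AlgStSwap

/-!
# Properties of schemes local in the smooth topology, on algebraic stacks
-/

set_option autoImplicit false

universe u

open CategoryTheory CategoryTheory.Limits AlgebraicGeometry Opposite

namespace Groth.Agent.Lib.Helper28.AlgSt.SmoothLocal

open Groth.Agent.Lib.Helper10.Fib Groth.Agent.Lib.Helper10.AlgStRep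
open Groth.Agent.Lib.Helper28.AlgSt.PropInst Groth.Agent.Lib.Helper28.AlgSt.SpaceCalc
open Groth.Agent.Lib.Helper28.AlgSt.Key
open Groth.Agent.Lib.Helper16 Groth.Agent.Lib.Helper15 AlgSp

section Schemes

/-- The two-member family `{W ⟶ U, 𝟙 U}`. -/
def X2 (W U : Scheme.{u}) : Bool → Scheme.{u}
  | true => W
  | false => U

def f2 {W U : Scheme.{u}} (g : W ⟶ U) : ∀ b, X2 W U b ⟶ U
  | true => g
  | false => 𝟙 U

theorem prop_of_smooth_chart (P : Scheme.{u} → Prop)
    (hP : ∀ (U : Scheme.{u}) (R : Presieve U), R ∈ Scheme.precoverage @Smooth U →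
      (P U ↔ ∀ ⦃V : Scheme.{u}⦄ (g : V ⟶ U), R g → P V))
    {U V W : Scheme.{u}} (g : W ⟶ V) (g' : W ⟶ U) (hg : Smooth g) (hgs : Surjective g)
    (hg' : Smooth g') (hU : P U) : P V := by
  have hW : P W := by
    have hR : Presieve.ofArrows (X2 W U) (f2 g') ∈ Scheme.precoverage @Smooth U := by
      rw [Scheme.ofArrows_mem_precoverage_iff]
      refine ⟨fun x => ⟨false, ⟨x, rfl⟩⟩, fun b => ?_⟩
      cases b
      · exact (inferInstance : Smooth (𝟙 U))
      · exact hg'
    exact (hP U _ hR).1 hU (f2 g' true) (Presieve.ofArrows.mk true)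
  have hR : Presieve.singleton g ∈ Scheme.precoverage @Smooth V :=
    (Scheme.singleton_mem_precoverage_iff _ g).2 ⟨hgs.surj, hg⟩
  refine (hP V _ hR).2 ?_
  intro V' h hh
  cases hh
  exact hW

end Schemes

section Spaces

variable {S : Scheme.{u}}

/-- An algebraic space with a smooth surjective morphism to a scheme `V` and a smooth morphism
to a scheme `U` has a scheme chart `W` with `W ⟶ V` smooth surjective and `W ⟶ U` smooth. -/
theorem exists_smooth_chart {F : Sp S} (hF : IsAlgSpace F) {V U : Over S}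
    (a : F ⟶ (yon S).obj V) (b : F ⟶ (yon S).obj U) (ha : LocP @Smooth a)
    (has : IsSurjectiveMor a) (hb : LocP @Smooth b) :
    ∃ (W : Over S) (g : W ⟶ V) (g' : W ⟶ U), Smooth g.left ∧ Surjective g.left ∧
      Smooth g'.left := by
  obtain ⟨W, w, hwe, hws⟩ := hF.atlas
  obtain ⟨g, hg⟩ := (yon S).map_surjective (w ≫ a)
  obtain ⟨g', hg'⟩ := (yon S).map_surjective (w ≫ b)
  have hc : w ≫ a = (yon S).map g ≫ 𝟙 _ := by rw [Category.comp_id, hg]
  have hc' : w ≫ b = (yon S).map g' ≫ 𝟙 _ := by rw [Category.comp_id, hg']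
  refine ⟨W, g, g', ha w (𝟙 _) g hwe (repWith_id _ V) hc, ?_,
    hb w (𝟙 _) g' hwe (repWith_id _ U) hc'⟩
  apply surjective_left_of_surjective_points
  rw [hg]
  intro y
  obtain ⟨x, hx⟩ := has y
  obtain ⟨z, hz⟩ := (repWith_surjective_iff w hws.rep).1 hws x
  exact ⟨z, by rw [Points.map_comp, hz, hx]⟩

end Spaces

section Stacks

variable {S : Scheme.{u}} {𝒳 : AlgSt.Cat S}

theorem smoothLocally_iff (h𝒳 : AlgSt.IsAlgStack Scheme.fppfPrecoverage 𝒳) (P : Scheme.{u} → Prop)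
    (hP : ∀ (U : Scheme.{u}) (R : Presieve U), R ∈ Scheme.precoverage @Smooth U →
      (P U ↔ ∀ ⦃V : Scheme.{u}⦄ (g : V ⟶ U), R g → P V)) :
    AlgSt.SmoothLocally P 𝒳 ↔
      ∃ (U : Over S) (x : FibCat.overCat U ⥤ᵇ 𝒳),
        AlgSt.RepByAlgSpWith (AlgSp.LocP @Smooth) x ∧
          AlgSt.RepByAlgSpWith AlgSp.IsSurjectiveMor x ∧ P U.left := by
  constructor
  · intro h
    obtain ⟨U, x, hsm, hsurj⟩ := h𝒳.atlas
    exact ⟨U, x, hsm, hsurj, h U x hsm⟩
  · rintro ⟨U, x, hsm, hsurj, hPU⟩ V v hv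
    have h1 : AlgSt.RepByAlgSpWith (AlgSp.LocP @Smooth) (FibCat.fpFst v x) :=
      repByAlgSpWith_fpFst _ x v hsm
    have h2 : AlgSt.RepByAlgSpWith AlgSp.IsSurjectiveMor (FibCat.fpFst v x) :=
      repByAlgSpWith_fpFst _ x v hsurj
    have h3 : AlgSt.RepByAlgSpWith (AlgSp.LocP @Smooth) (FibCat.fpSnd v x) :=
      repByAlgSpWith_fpSnd _ v x hv
    obtain ⟨F, e, he⟩ := (repByAlgSp1_of_with _ _ hsm) V v
    have a_sm := (repByAlgSpWith_iff_chart _ good_smooth.bc good_smooth.loc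
      (FibCat.fpFst v x) e he).1 h1
    have a_surj := (repByAlgSpWith_iff_chart _ good_surjective.bc good_surjective.loc
      (FibCat.fpFst v x) e he).1 h2
    have b_sm := (repByAlgSpWith_iff_chart _ good_smooth.bc good_smooth.loc
      (FibCat.fpSnd v x) e he).1 h3
    obtain ⟨W, g, g', hg, hgs, hg'⟩ := exists_smooth_chart F.property _ _ a_sm a_surj b_sm
    exact prop_of_smooth_chart P hP g.left g'.left hg hgs hg' hPU

end Stacks

end Groth.Agent.Lib.Helper28.AlgSt.SmoothLocal
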