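import Mathlib
import Groth.Agent.Lib.Helper28.AlgSt.Comp
import Groth.Agent.Lib.Helper28.AlgSt.DiagComp

/-!
# Composition for properties local along etale atlases

Variants of `prop_of_repByAlgSpWith` and `repByAlgSpWith_comp` in which locality on the base is
only used for the covering given by an etale atlas.
-/

set_option autoImplicit false
set_option backward.isDefEq.respectTransparency false
set_option backward.isDefEq.respectTransparency.types false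

universe u

open CategoryTheory CategoryTheory.Limits AlgebraicGeometry Opposite

namespace Groth.Agent.Lib.Helper28.AlgSt.KeyEt

open Groth.Agent.Lib.Helper10.Fib Groth.Agent.Lib.Helper10.StkPsh
open Groth.Agent.Lib.Helper10.AlgStRep
open Groth.Agent.Lib.Helper28.AlgSt.PshFun Groth.Agent.Lib.Helper28.AlgSt.PshPull
open Groth.Agent.Lib.Helper28.AlgSt.ClsPsh Groth.Agent.Lib.Helper28.AlgSt.Bridge
open Groth.Agent.Lib.Helper28.AlgSt.Key Groth.Agent.Lib.Helper28.AlgSt.Comp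
open Groth.Agent.Lib.Helper28.AlgSt.DiagComp

variable {S : Scheme.{u}}

/-- `P` descends along the covering of an algebraic space by an etale atlas. -/
def AtlasLocal (P : MorphismProperty (AlgSp.Sp S)) : Prop :=
  ∀ (Z V : AlgSp.Space S) (a : V ⟶ Z) (U : Over S) (p : (AlgSp.yon S).obj U ⟶ Z.obj),
    AlgSp.RepWith @Etale p → AlgSp.RepWith @Surjective p →
    ∀ (X' : AlgSp.Sp S) (fst : X' ⟶ V.obj) (snd : X' ⟶ (AlgSp.yon S).obj U),
      AlgSp.IsAlgSpace X' → IsPullback fst snd a.hom p → P snd → P a.hom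

theorem atlasLocal_of_fppf {P : MorphismProperty (AlgSp.Sp S)}
    (hP : AlgSp.IsLocalOnBase AlgSp.IsFppfCover P) : AtlasLocal P := by
  intro Z V a U p hpe hps X' fst snd hX' sq hsnd
  have hcov : AlgSp.IsFppfCover (fun _ : PUnit.{u + 1} => (AlgSp.yon S).obj U) (fun _ => p) :=
    ⟨fun _ => ⟨Groth.Agent.Lib.Helper16.locP_of_repWith_etale
        Groth.Agent.Lib.Helper16.etLocalST_flat (AlgSp.IsAlgSpace.yon_obj U) Z.property p hpe,
      Groth.Agent.Lib.Helper16.locP_of_repWith_etale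
        Groth.Agent.Lib.Helper16.etLocalST_locallyOfFinitePresentation
        (AlgSp.IsAlgSpace.yon_obj U) Z.property p hpe⟩,
      fun x => ⟨PUnit.unit, (Groth.Agent.Lib.Helper16.repWith_surjective_iff p hpe.rep).1 hps x⟩⟩
  exact (hP (fun _ => (AlgSp.yon S).obj U) (fun _ => p) Z.property
    (fun _ => AlgSp.IsAlgSpace.yon_obj U) hcov a.hom V.property (fun _ => X')
    (fun _ => snd) (fun _ => fst) (fun _ => hX')
    (fun _ => sq)).2 (fun _ => hsnd)

theorem atlasLocal_of_et {P : MorphismProperty (AlgSp.Sp S)}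
    (hP : AlgSp.IsLocalOnBase AlgSp.IsEtCover P) : AtlasLocal P := by
  intro Z V a U p hpe hps X' fst snd hX' sq hsnd
  have hcov : AlgSp.IsEtCover (fun _ : PUnit.{u + 1} => (AlgSp.yon S).obj U) (fun _ => p) :=
    ⟨fun _ U' φ hφ => (AlgSp.RepWith (S := S) @Etale).comp_mem _ _ hφ hpe,
      fun x => ⟨PUnit.unit, (Groth.Agent.Lib.Helper16.repWith_surjective_iff p hpe.rep).1 hps x⟩⟩
  exact (hP (fun _ => (AlgSp.yon S).obj U) (fun _ => p) Z.property
    (fun _ => AlgSp.IsAlgSpace.yon_obj U) hcov a.hom V.property (fun _ => X')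
    (fun _ => snd) (fun _ => fst) (fun _ => hX')
    (fun _ => sq)).2 (fun _ => hsnd)

variable {𝒳 𝒴 𝒵 : AlgSt.Cat S}

/-- **Key lemma, property part**, for properties local along etale atlases. -/
theorem prop_of_repByAlgSpWith' (h𝒳 : FibCat.IsFibGrpd 𝒳.p) (h𝒴 : FibCat.IsFibGrpd 𝒴.p)
    (P : MorphismProperty (AlgSp.Sp S)) (hPb : PropInst.BC P)
    (hP : AtlasLocal P) (f : 𝒳 ⥤ᵇ 𝒴)
    (hPf : AlgSt.RepByAlgSpWith P f) (Z : AlgSp.Space S) (z : AlgSt.ofSp Z.obj ⥤ᵇ 𝒴)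
    (V : AlgSp.Space S) (a : V ⟶ Z) (e : AlgSt.ofSp V.obj ⥤ᵇ FibCat.fp z f)
    (he : FibCat.IsEquivOver e)
    (hiso : Nonempty (BasedFunctor.comp e (FibCat.fpFst z f) ≅ AlgSt.ofSpMap a.hom)) :
    P a.hom := by
  obtain ⟨iso⟩ := hiso
  obtain ⟨e', ⟨η⟩, ⟨ε⟩⟩ := he
  have h𝒵 : FibCat.IsFibGrpd (AlgSt.ofSp Z.obj).p := Stk.isFibGrpd_ofPsh _
  have hfstQ : AlgSt.RepByAlgSpWith (onSpaces P) (FibCat.fpFst z f) :=
    Groth.Agent.S12779.result h𝒳 h𝒴 h𝒵 (onSpaces P) f z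
      (repByAlgSpWith_mono f (fun F U g hg => ⟨F.property, AlgSp.IsAlgSpace.yon_obj U, hg⟩) hPf)
  have iso₂ : BasedFunctor.comp (FibCat.fpFst z f) (BasedFunctor.id _) ≅
      BasedFunctor.comp e' (AlgSt.ofSpMap a.hom) := by
    refine isoOfPointwise _ _ (fun w => ?_)
    have l1 : (FibCat.fp z f).p.IsHomLift (𝟙 ((FibCat.fp z f).p.obj w))
        ((natIsoOfBased ε).inv.app w) := ε.inv.isHomLift' w
    have l2 : (Stk.ofPsh Z.obj.obj).p.IsHomLift (𝟙 ((FibCat.fp z f).p.obj w))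
        ((FibCat.fpFst z f).map ((natIsoOfBased ε).inv.app w)) :=
      @BasedFunctor.preserves_isHomLift _ _ _ _ (FibCat.fpFst z f) _ _ _ _ _ _ l1
    have l3 : (Stk.ofPsh Z.obj.obj).p.IsHomLift (𝟙 ((AlgSt.ofSp V.obj).p.obj (e'.obj w)))
        ((natIsoOfBased iso).hom.app (e'.obj w)) := iso.hom.isHomLift' (e'.obj w)
    have l3' : (Stk.ofPsh Z.obj.obj).p.IsHomLift (𝟙 ((FibCat.fp z f).p.obj w))
        ((natIsoOfBased iso).hom.app (e'.obj w)) := isHomLift_id_of_eq _ (e'.w_obj w) _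
    have l4 : (Stk.ofPsh Z.obj.obj).p.IsHomLift
        (𝟙 ((FibCat.fp z f).p.obj w) ≫ 𝟙 ((FibCat.fp z f).p.obj w))
        ((FibCat.fpFst z f).map ((natIsoOfBased ε).inv.app w) ≫
          (natIsoOfBased iso).hom.app (e'.obj w)) := inferInstance
    rw [Category.comp_id] at l4
    exact ⟨_, l4⟩
  have hQ : AlgSt.RepByAlgSpWith (onSpaces P) (AlgSt.ofSpMap a.hom) :=
    repByAlgSpWith_of_square (onSpaces P) (AlgSt.ofSpMap a.hom) (FibCat.fpFst z f) e'
      (BasedFunctor.id _) ⟨e, ⟨ε⟩, ⟨η⟩⟩ (isEquivOver_id _) iso₂ hfstQ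
  haveI := onSpaces_respectsIso P hPb
  have hrep : AlgSp.RepBySp a.hom.hom :=
    repBySp_of_repByAlgSp1 a.hom.hom (repByAlgSp1_of_with _ _ hQ)
  have hQ' : AlgSp.RepBySpWith (onSpaces P) a.hom.hom :=
    repBySpWith_of_repByAlgSpWith (onSpaces P) a.hom.hom hrep hQ
  rw [AlgSp.repBySpWith_hom_iff] at hQ'
  obtain ⟨U, p, hpe, hps⟩ := Z.property.atlas
  have sq := IsPullback.of_hasPullback a.hom p
  obtain ⟨hX', -, -, hPsnd⟩ := hQ' p (pullback.fst a.hom p) (pullback.snd a.hom p) sq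
  exact hP Z V a U p hpe hps _ _ _ hX' sq hPsnd

/-- Composition, for properties local along etale atlases. -/
theorem repByAlgSpWith_comp' (h𝒳 : FibCat.IsFibGrpd 𝒳.p) (h𝒴 : FibCat.IsFibGrpd 𝒴.p)
    (P : MorphismProperty (AlgSp.Sp S)) (hPb : PropInst.BC P) (hPc : PropInst.CO P)
    (hP : AtlasLocal P)
    (f : 𝒳 ⥤ᵇ 𝒴) (g : 𝒴 ⥤ᵇ 𝒵) (hf : AlgSt.RepByAlgSpWith P f)
    (hg : AlgSt.RepByAlgSpWith P g) : AlgSt.RepByAlgSpWith P (BasedFunctor.comp f g) := by
  intro U y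
  obtain ⟨Fg, eg, heg, hPg⟩ := hg U y
  obtain ⟨V, a, e, he, hiso⟩ := exists_space_fp h𝒳 h𝒴 f (repByAlgSp1_of_with P f hf) Fg
    (BasedFunctor.comp eg (FibCat.fpSnd y g))
  have hPa : P a.hom := prop_of_repByAlgSpWith' h𝒳 h𝒴 P hPb hP f hf Fg _ V a e he hiso
  obtain ⟨iso⟩ := hiso
  refine ⟨V, BasedFunctor.comp e (BasedFunctor.comp (fpPre eg (FibCat.fpSnd y g) f)
    (paste2 y g f)), isEquivOver_comp _ _ he (isEquivOver_comp _ _
      (isEquivOver_fpPre eg heg _ f) (isEquivOver_paste2 y g f)), ?_⟩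
  have key : AlgSt.spMapOfOver (BasedFunctor.comp (BasedFunctor.comp e (BasedFunctor.comp
      (fpPre eg (FibCat.fpSnd y g) f) (paste2 y g f))) (FibCat.fpFst y (BasedFunctor.comp f g))) =
      a.hom ≫ AlgSt.spMapOfOver (BasedFunctor.comp eg (FibCat.fpFst y g)) := by
    apply ObjectProperty.hom_ext
    have h1 : (AlgSt.spMapOfOver (BasedFunctor.comp (BasedFunctor.comp e (BasedFunctor.comp
        (fpPre eg (FibCat.fpSnd y g) f) (paste2 y g f)))
          (FibCat.fpFst y (BasedFunctor.comp f g)))).hom =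
        (AlgSt.spMapOfOver (BasedFunctor.comp (BasedFunctor.comp e
          (FibCat.fpFst (BasedFunctor.comp eg (FibCat.fpSnd y g)) f))
          (BasedFunctor.comp eg (FibCat.fpFst y g)))).hom := by
      rw [spMapOfOver_hom, spMapOfOver_hom]
      exact pshMapOf_congr_obj _ _ (fun v => rfl)
    rw [h1, spMapOfOver_comp, pshMapOf_congr iso.hom, pshMapOf_ofPshMap]
    rfl
  rw [key]
  exact hPc V.property Fg.property (AlgSp.IsAlgSpace.yon_obj U) _ _ hPa hPg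

/-- The diagonal of a composition, for properties local along etale atlases. -/
theorem repByAlgSpWith_diag_comp' {P : MorphismProperty (AlgSp.Sp S)} (hPb : PropInst.BC P)
    (hPc : PropInst.CO P) (hP : AtlasLocal P)
    (h𝒳 : FibCat.IsFibGrpd 𝒳.p) (h𝒴 : FibCat.IsFibGrpd 𝒴.p) (h𝒵 : FibCat.IsFibGrpd 𝒵.p)
    (f : 𝒳 ⥤ᵇ 𝒴) (g : 𝒴 ⥤ᵇ 𝒵) (hf : AlgSt.RepByAlgSpWith P (FibCat.diag f))
    (hg : AlgSt.RepByAlgSpWith P (FibCat.diag g)) :
    AlgSt.RepByAlgSpWith P (FibCat.diag (BasedFunctor.comp f g)) :=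
  repByAlgSpWith_iso P (diagCompIso f g)
    (repByAlgSpWith_comp' h𝒳 (isFibGrpd_fp f f h𝒳 h𝒳 h𝒴) P hPb hPc hP _ _ hf
      (repByAlgSpWith_fpComp P h𝒳 h𝒴 h𝒵 f g hg))

end Groth.Agent.Lib.Helper28.AlgSt.KeyEt
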