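import Mathlib
import Groth.Agent.Lib.Helper28.AlgSt.KeyEt
import Groth.Agent.Lib.Helper28.AlgSt.Good
import Groth.Agent.Lib.Helper28.AlgSt.Descent
import Groth.Agent.Lib.Helper28.AlgSt.SpaceCalc
import Groth.Agent.Lib.Helper16.LocPSource

/-!
# Flatness is local on the source along flat surjective morphisms
-/

set_option autoImplicit false
set_option backward.isDefEq.respectTransparency false
set_option backward.isDefEq.respectTransparency.types false

universe u

open CategoryTheory CategoryTheory.Limits AlgebraicGeometry Opposite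

namespace Groth.Agent.Lib.Helper28.AlgSt.FlatSource

open Groth.Agent.Lib.Helper16 AlgSp

variable {S : Scheme.{u}}

/-- If `g` is flat and surjective and `g ≫ f` is flat, then `f` is flat. -/
theorem locP_flat_of_comp_surjective {X' X Y : Sp S} (hX' : IsAlgSpace X') (hX : IsAlgSpace X)
    (g : X' ⟶ X) (f : X ⟶ Y) (hg : LocP @Flat g) (hgs : IsSurjectiveMor g)
    (H : LocP @Flat (g ≫ f)) : LocP @Flat f := by
  intro U V a b h ha hb comm
  apply flat_of_flat_cover
  intro u
  obtain ⟨x', hx'⟩ := hgs (Points.map a (Points.ofScheme U u))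
  have sqQ := IsPullback.of_hasPullback g a
  have hQ : IsAlgSpace (pullback g a) :=
    isAlgSpace_of_isPullback hX' hX.diag (IsAlgSpace.yon_obj U) sqQ
  have hsnd : LocP @Flat (pullback.snd g a) :=
    locP_of_isPullback etLocalST_flat hX' hX sqQ hg
  have hfst : RepWith @Etale (pullback.fst g a) := (RepWith @Etale).of_isPullback sqQ.flip ha
  obtain ⟨z, -, hz⟩ := exists_point_of_isPullback sqQ x' (Points.ofScheme U u) hx'
  obtain ⟨U'', a'', ha''e, ha''s⟩ := hQ.atlas
  obtain ⟨u'', hu''⟩ := ofPt_surjective_of_surjective a'' ha''s z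
  obtain ⟨e, he⟩ := (yon S).map_surjective (a'' ≫ pullback.snd g a)
  have hefl : Flat e.left :=
    hsnd a'' (𝟙 _) e ha''e (repWith_id _ U) (by rw [Category.comp_id, he])
  have heu : e.left u'' = u := by
    apply ofScheme_injective U
    rw [← map_yon_map_ofScheme, he, Points.map_comp, ← Points.ofPt_eq_map_ofScheme, hu'', hz]
  have ha''' : RepWith @Etale (a'' ≫ pullback.fst g a) := (RepWith @Etale).comp_mem _ _ ha''e hfst
  have comm' : (a'' ≫ pullback.fst g a) ≫ g ≫ f = (yon S).map (e ≫ h) ≫ b := by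
    calc (a'' ≫ pullback.fst g a) ≫ g ≫ f
        = (a'' ≫ pullback.fst g a ≫ g) ≫ f := by simp only [Category.assoc]
      _ = (a'' ≫ pullback.snd g a ≫ a) ≫ f := by rw [pullback.condition]
      _ = (yon S).map (e ≫ h) ≫ b := by
          rw [← Category.assoc a'', ← he, Category.assoc, comm, Functor.map_comp, Category.assoc]
  exact ⟨U''.left, e.left, hefl, ⟨u'', heu⟩, H _ b (e ≫ h) ha''' hb comm'⟩

section Stacks

open Groth.Agent.Lib.Helper10.Fib Groth.Agent.Lib.Helper10.StkPsh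
open Groth.Agent.Lib.Helper10.AlgStRep
open Groth.Agent.Lib.Helper28.AlgSt.PshFun Groth.Agent.Lib.Helper28.AlgSt.PshPull
open Groth.Agent.Lib.Helper28.AlgSt.ClsPsh Groth.Agent.Lib.Helper28.AlgSt.Bridge
open Groth.Agent.Lib.Helper28.AlgSt.Key Groth.Agent.Lib.Helper28.AlgSt.Comp
open Groth.Agent.Lib.Helper28.AlgSt.PropInst Groth.Agent.Lib.Helper28.AlgSt.SpaceCalc
open Groth.Agent.Lib.Helper28.AlgSt.Descent

variable {𝒲 𝒴 𝒵 : AlgSt.Cat S}

/-- Flatness of `b` can be checked after precomposing with a flat surjective `a`. -/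
theorem repWith_flat_of_comp (h𝒲 : FibCat.IsFibGrpd 𝒲.p) (h𝒴 : FibCat.IsFibGrpd 𝒴.p)
    (a : 𝒲 ⥤ᵇ 𝒴) (b : 𝒴 ⥤ᵇ 𝒵)
    (ha : AlgSt.RepByAlgSpWith (AlgSp.LocP @Flat) a)
    (has : AlgSt.RepByAlgSpWith AlgSp.IsSurjectiveMor a) (hb1 : AlgSt.RepByAlgSp1 b)
    (hab : AlgSt.RepByAlgSpWith (AlgSp.LocP @Flat) (BasedFunctor.comp a b)) :
    AlgSt.RepByAlgSpWith (AlgSp.LocP @Flat) b := by
  intro U y
  obtain ⟨Fg, eg, heg⟩ := hb1 U y
  refine ⟨Fg, eg, heg, ?_⟩
  obtain ⟨V, α, e, he, hiso⟩ := exists_space_fp h𝒲 h𝒴 a (repByAlgSp1_of_with _ a ha) Fg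
    (BasedFunctor.comp eg (FibCat.fpSnd y b))
  have hα1 : AlgSp.LocP @Flat α.hom :=
    prop_of_repByAlgSpWith h𝒲 h𝒴 _ good_flat.bc good_flat.loc a ha Fg _ V α e he hiso
  have hα2 : AlgSp.IsSurjectiveMor α.hom :=
    prop_of_repByAlgSpWith h𝒲 h𝒴 _ good_surjective.bc good_surjective.loc a has Fg _ V α e he hiso
  obtain ⟨iso⟩ := hiso
  have hE : FibCat.IsEquivOver (BasedFunctor.comp e (BasedFunctor.comp
      (fpPre eg (FibCat.fpSnd y b) a) (paste2 y b a))) :=
    isEquivOver_comp _ _ he (isEquivOver_comp _ _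
      (isEquivOver_fpPre eg heg _ a) (isEquivOver_paste2 y b a))
  have key : AlgSt.spMapOfOver (BasedFunctor.comp (BasedFunctor.comp e (BasedFunctor.comp
      (fpPre eg (FibCat.fpSnd y b) a) (paste2 y b a))) (FibCat.fpFst y (BasedFunctor.comp a b))) =
      α.hom ≫ AlgSt.spMapOfOver (BasedFunctor.comp eg (FibCat.fpFst y b)) := by
    apply ObjectProperty.hom_ext
    have h1 : (AlgSt.spMapOfOver (BasedFunctor.comp (BasedFunctor.comp e (BasedFunctor.comp
        (fpPre eg (FibCat.fpSnd y b) a) (paste2 y b a)))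
          (FibCat.fpFst y (BasedFunctor.comp a b)))).hom =
        (AlgSt.spMapOfOver (BasedFunctor.comp (BasedFunctor.comp e
          (FibCat.fpFst (BasedFunctor.comp eg (FibCat.fpSnd y b)) a))
          (BasedFunctor.comp eg (FibCat.fpFst y b)))).hom := by
      rw [spMapOfOver_hom, spMapOfOver_hom]
      exact pshMapOf_congr_obj _ _ (fun v => rfl)
    rw [h1, spMapOfOver_comp, pshMapOf_congr iso.hom, pshMapOf_ofPshMap]
    rfl
  have h1 : AlgSp.LocP @Flat (AlgSt.spMapOfOver (BasedFunctor.comp (BasedFunctor.comp e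
      (BasedFunctor.comp (fpPre eg (FibCat.fpSnd y b) a) (paste2 y b a)))
      (FibCat.fpFst y (BasedFunctor.comp a b)))) :=
    (repByAlgSpWith_iff_chart _ good_flat.bc good_flat.loc
      (FibCat.fpFst y (BasedFunctor.comp a b)) _ hE).1
      (repByAlgSpWith_fpFst _ (BasedFunctor.comp a b) y hab)
  rw [key] at h1
  exact locP_flat_of_comp_surjective V.property Fg.property α.hom _ hα1 hα2 h1

end Stacks

end Groth.Agent.Lib.Helper28.AlgSt.FlatSource
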