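import Mathlib
import Groth.Agent.Lib.Helper28.AlgSt.FlatSource
import Groth.Agent.Lib.Helper28.AlgSt.DiagRep
import Groth.Agent.Lib.Helper10.AlgStPtsSch
import Groth.Agent.Lib.Helper10.AlgStChartInt
import Groth.Agent.S12819

/-!
# Stacks covered by the spectrum of a field
-/

set_option autoImplicit false

universe u

open CategoryTheory CategoryTheory.Limits AlgebraicGeometry Opposite

namespace Groth.Agent.Lib.Helper28.AlgSt.FieldCover

open Groth.Agent.Lib.Helper10.Fib Groth.Agent.Lib.Helper10.AlgStRep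
open Groth.Agent.Lib.Helper28.AlgSt.PropInst Groth.Agent.Lib.Helper28.AlgSt.SpaceCalc
open Groth.Agent.Lib.Helper28.AlgSt.Key Groth.Agent.Lib.Helper28.AlgSt.Bridge
open Groth.Agent.Lib.Helper28.AlgSt.Descent Groth.Agent.Lib.Helper28.AlgSt.FlatSource
open Groth.Agent.Lib.Helper28.AlgSt.DiagRep Groth.Agent.Lib.Helper28.AlgSt.DiagComp
open Groth.Agent.Lib.Helper16

variable {S : Scheme.{u}}

/-- Any morphism from a sheaf to the spectrum of a field is flat. -/
theorem locP_flat_to_field {k : Type u} [Field k] (a : Spec (CommRingCat.of k) ⟶ S)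
    {W : AlgSp.Sp S} (m : W ⟶ (AlgSp.yon S).obj (Over.mk a)) : AlgSp.LocP @Flat m := by
  intro U V α β h hα hβ comm
  obtain ⟨β', rfl⟩ := (AlgSp.yon S).map_surjective β
  have hβ' : Etale β'.left := (AlgSp.repWith_yon_map_iff @Etale β').1 hβ
  refine etLocalST_flat.cancel h.left β'.left hβ' ?_
  haveI : Subsingleton ↥(Spec (CommRingCat.of k)) :=
    inferInstanceAs (Subsingleton (PrimeSpectrum k))
  haveI : IsIntegral (Spec (CommRingCat.of k)) := inferInstance
  have key : ∀ (g : U.left ⟶ Spec (CommRingCat.of k)), Flat g := fun g => inferInstance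
  exact key (h.left ≫ β'.left)

variable {𝒵 : AlgSt.Cat S}

/-- The space of points of the category of the spectrum of a field is a singleton. -/
theorem subsingleton_points_field {k : Type u} [Field k] (a : Spec (CommRingCat.of k) ⟶ S) :
    Subsingleton (AlgSt.Points (FibCat.overCat (Over.mk a))) := by
  haveI : Subsingleton ↥(Over.mk a).left := inferInstanceAs (Subsingleton (PrimeSpectrum k))
  constructor
  intro p q
  obtain ⟨p0, rfl⟩ := AlgSt.Points.mk_surjective p
  obtain ⟨q0, rfl⟩ := AlgSt.Points.mk_surjective q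
  rw [H10PT.mk_eq_mk_resFPt p0, H10PT.mk_eq_mk_resFPt q0,
    Subsingleton.elim (H10PT.ptOf p0) (H10PT.ptOf q0)]

theorem nonempty_points_field {k : Type u} [Field k] (a : Spec (CommRingCat.of k) ⟶ S) :
    Nonempty (AlgSt.Points (FibCat.overCat (Over.mk a))) := by
  haveI : Nonempty ↥(Over.mk a).left := inferInstanceAs (Nonempty (PrimeSpectrum k))
  exact ⟨AlgSt.Points.mk (H10PT.resFPt (Over.mk a) (Classical.arbitrary _))⟩

theorem surjective_flat_of_field (h𝒵 : AlgSt.IsAlgStack Scheme.fppfPrecoverage 𝒵)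
    (k : Type u) [Field k] (a : Spec (CommRingCat.of k) ⟶ S)
    (z : FibCat.overCat (Over.mk a) ⥤ᵇ 𝒵)
    (hzs : AlgSt.RepByAlgSpWith AlgSp.IsSurjectiveMor z)
    (hzf : AlgSt.RepByAlgSpWith (AlgSp.LocP @Flat) z)
    (k' : Type u) [Field k'] (a' : Spec (CommRingCat.of k') ⟶ S)
    (z' : FibCat.overCat (Over.mk a') ⥤ᵇ 𝒵) :
    AlgSt.RepByAlgSpWith AlgSp.IsSurjectiveMor z' ∧
      AlgSt.RepByAlgSpWith (AlgSp.LocP @Flat) z' := by
  have h𝒵g := h𝒵.isStack.1
  have hz1 : AlgSt.RepByAlgSp1 z := repByAlgSp1_of_with _ _ hzs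
  have hz'1 : AlgSt.RepByAlgSp1 z' := repByAlgSp1_of_diag h𝒵g h𝒵.diag _ z'
  have hzsurj : AlgSt.IsSurjective z :=
    (Groth.Agent.S12819.result (H10PT.isAlgStack_overCat _) h𝒵 z hz1).2 hzs
  haveI := subsingleton_points_field a
  have hsub : Subsingleton (AlgSt.Points 𝒵) := by
    constructor
    intro p q
    obtain ⟨p0, rfl⟩ := hzsurj p
    obtain ⟨q0, rfl⟩ := hzsurj q
    rw [Subsingleton.elim p0 q0]
  have hsurj' : AlgSt.IsSurjective z' := by
    intro p
    obtain ⟨q'⟩ := nonempty_points_field a'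
    exact ⟨q', Subsingleton.elim _ _⟩
  refine ⟨(Groth.Agent.S12819.result (H10PT.isAlgStack_overCat _) h𝒵 z' hz'1).1 hsurj', ?_⟩
  have hgW := isFibGrpd_fp z z' (isFibGrpd_overForget (U := Over.mk a))
    (isFibGrpd_overForget (U := Over.mk a')) h𝒵g
  have ha : AlgSt.RepByAlgSpWith (AlgSp.LocP @Flat) (FibCat.fpSnd z z') :=
    repByAlgSpWith_fpSnd _ z z' hzf
  have has : AlgSt.RepByAlgSpWith AlgSp.IsSurjectiveMor (FibCat.fpSnd z z') :=
    repByAlgSpWith_fpSnd _ z z' hzs
  obtain ⟨W, e, he⟩ := hz'1 (Over.mk a) z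
  have hfst : AlgSt.RepByAlgSpWith (AlgSp.LocP @Flat) (FibCat.fpFst z z') :=
    (repByAlgSpWith_iff_chart _ good_flat.bc good_flat.loc (FibCat.fpFst z z') e he).2
      (locP_flat_to_field a _)
  have hcomp1 : AlgSt.RepByAlgSpWith (AlgSp.LocP @Flat)
      (BasedFunctor.comp (FibCat.fpFst z z') z) :=
    repByAlgSpWith_comp_good good_flat hgW (isFibGrpd_overForget (U := Over.mk a)) _ _ hfst hzf
  have hcomp2 : AlgSt.RepByAlgSpWith (AlgSp.LocP @Flat)
      (BasedFunctor.comp (FibCat.fpSnd z z') z') :=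
    repByAlgSpWith_iso _ (FibCat.fpIso z z').symm hcomp1
  exact repWith_flat_of_comp hgW (isFibGrpd_overForget (U := Over.mk a')) _ _ ha has hz'1 hcomp2

end Groth.Agent.Lib.Helper28.AlgSt.FieldCover
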