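import Mathlib
import Groth.Agent.Lib.Helper28.AlgSt.FieldCover
import Groth.Agent.Lib.Helper28.AlgSt.Good2
import Groth.Agent.Lib.Helper16.AlgSt.LocQSch
import Groth.Agent.Lib.Helper16.AlgSt.LocQOne
import Groth.Agent.Lib.Helper16.Charts
import Groth.Agent.Lib.Helper16.DimF10
import Groth.Agent.Lib.Helper26.RegularSch
import Groth.Agent.Lib.Helper16.NoethDescent
import Groth.Agent.Lib.Helper26.RegularRing
import Groth.Agent.Lib.Helper9.RegLocal

/-!
# Stacks covered by the spectrum of a field, part 2: smooth charts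
-/

set_option autoImplicit false

universe u

open CategoryTheory CategoryTheory.Limits AlgebraicGeometry Opposite

namespace Groth.Agent.Lib.Helper28.AlgSt.FieldCover2

open Groth.Agent.Lib.Helper10.Fib Groth.Agent.Lib.Helper10.AlgStRep
open Groth.Agent.Lib.Helper28.AlgSt.PropInst Groth.Agent.Lib.Helper28.AlgSt.SpaceCalc
open Groth.Agent.Lib.Helper28.AlgSt.Key Groth.Agent.Lib.Helper28.AlgSt.Bridge
open Groth.Agent.Lib.Helper28.AlgSt.Descent Groth.Agent.Lib.Helper28.AlgSt.FlatSource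
open Groth.Agent.Lib.Helper28.AlgSt.DiagRep Groth.Agent.Lib.Helper28.AlgSt.DiagComp
open Groth.Agent.Lib.Helper28.AlgSt.FieldCover Groth.Agent.Lib.Helper16.AlgStDC Groth.Agent.Lib.Helper16.DimF
open Groth.Agent.Lib.Helper16

variable {S : Scheme.{u}} {𝒵 : AlgSt.Cat S}

/-- A smooth chart `U → 𝒵` of a stack with a flat surjective field point `Spec k → 𝒵` is covered,
flatly and surjectively, by a scheme smooth over `k`. -/
theorem exists_smooth_flat_cover (h𝒵 : AlgSt.IsAlgStack Scheme.fppfPrecoverage 𝒵)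
    (k : Type u) [Field k] (a : Spec (CommRingCat.of k) ⟶ S)
    (z : FibCat.overCat (Over.mk a) ⥤ᵇ 𝒵)
    (hzs : AlgSt.RepByAlgSpWith AlgSp.IsSurjectiveMor z)
    (hzf : AlgSt.RepByAlgSpWith (AlgSp.LocP @Flat) z)
    (U : Over S) (x : FibCat.overCat U ⥤ᵇ 𝒵)
    (hx : AlgSt.RepByAlgSpWith (AlgSp.LocP @Smooth) x) :
    ∃ (V : Over S) (h₁ : V ⟶ U) (h₂ : V ⟶ Over.mk a),
      Flat h₁.left ∧ Surjective h₁.left ∧ Smooth h₂.left := by
  have hz1 : AlgSt.RepByAlgSp1 z := repByAlgSp1_of_with _ _ hzs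
  obtain ⟨W, e, he⟩ := hz1 U x
  -- the two projections as morphisms of spaces
  obtain ⟨m₁, ⟨iso₁⟩⟩ := exists_mapOf (B := spOf U) e (AlgSt.toOverCat U) (isEquivOver_toOverCat U)
    (FibCat.fpFst x z)
  obtain ⟨m₂, ⟨iso₂⟩⟩ := exists_mapOf (B := spOf (Over.mk a)) e (AlgSt.toOverCat (Over.mk a))
    (isEquivOver_toOverCat (Over.mk a)) (FibCat.fpSnd x z)
  have hm₁f : AlgSp.LocP @Flat m₁.hom :=
    prop_map_of_repByAlgSpWith _ good_flat.bc good_flat.loc e (AlgSt.toOverCat U) he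
      (isEquivOver_toOverCat U) (FibCat.fpFst x z) m₁ iso₁ (repByAlgSpWith_fpFst _ z x hzf)
  have hm₁s : AlgSp.IsSurjectiveMor m₁.hom :=
    prop_map_of_repByAlgSpWith _ good_surjective.bc good_surjective.loc e (AlgSt.toOverCat U) he
      (isEquivOver_toOverCat U) (FibCat.fpFst x z) m₁ iso₁ (repByAlgSpWith_fpFst _ z x hzs)
  have hm₂ : AlgSp.LocP @Smooth m₂.hom :=
    prop_map_of_repByAlgSpWith _ good_smooth.bc good_smooth.loc e (AlgSt.toOverCat (Over.mk a)) he
      (isEquivOver_toOverCat (Over.mk a)) (FibCat.fpSnd x z) m₂ iso₂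
      (repByAlgSpWith_fpSnd _ x z hx)
  obtain ⟨V, p, hpe, hps⟩ := W.property.atlas
  obtain ⟨h₁, hh₁⟩ := (AlgSp.yon S).map_surjective (p ≫ m₁.hom)
  obtain ⟨h₂, hh₂⟩ := (AlgSp.yon S).map_surjective (p ≫ m₂.hom)
  refine ⟨V, h₁, h₂, ?_, ?_, ?_⟩
  · exact hm₁f p (𝟙 _) h₁ hpe (AlgSp.repWith_id _ U) (by rw [hh₁]; simp)
  · constructor
    intro u
    obtain ⟨w, hw⟩ := hm₁s (AlgSp.Points.ofScheme U u)
    obtain ⟨v, rfl⟩ := ofPt_surjective_of_surjective p hps w
    refine ⟨v, ?_⟩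
    have := map_ofPt_chart m₁.hom p (𝟙 _) h₁ (by rw [hh₁]; simp) v
    rw [hw, AlgSp.Points.ofPt_eq_map_ofScheme, AlgSp.Points.map_id] at this
    exact (ofScheme_injective U this).symm
  · exact hm₂ p (𝟙 _) h₂ hpe (AlgSp.repWith_id _ (Over.mk a)) (by rw [hh₂]; simp)

/-- General form: a scheme chart `V` of the fibre product `U ×_𝒵 T` of two scheme charts, with the
two projections inheriting the properties of the two charts. -/
theorem exists_chart_cover (T : Over S) (z : FibCat.overCat T ⥤ᵇ 𝒵) (hz1 : AlgSt.RepByAlgSp1 z)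
    (U : Over S) (x : FibCat.overCat U ⥤ᵇ 𝒵) :
    ∃ (V : Over S) (h₁ : V ⟶ U) (h₂ : V ⟶ T),
      (∀ P₀ : MorphismProperty Scheme.{u}, Good (S := S) (AlgSp.LocP P₀) →
        AlgSt.RepByAlgSpWith (AlgSp.LocP P₀) z → P₀ h₁.left) ∧
      (AlgSt.RepByAlgSpWith AlgSp.IsSurjectiveMor z → Surjective h₁.left) ∧
      (∀ P₀ : MorphismProperty Scheme.{u}, Good (S := S) (AlgSp.LocP P₀) →
        AlgSt.RepByAlgSpWith (AlgSp.LocP P₀) x → P₀ h₂.left) := by
  obtain ⟨W, e, he⟩ := hz1 U x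
  obtain ⟨m₁, ⟨iso₁⟩⟩ := exists_mapOf (B := spOf U) e (AlgSt.toOverCat U) (isEquivOver_toOverCat U)
    (FibCat.fpFst x z)
  obtain ⟨m₂, ⟨iso₂⟩⟩ := exists_mapOf (B := spOf T) e (AlgSt.toOverCat T)
    (isEquivOver_toOverCat T) (FibCat.fpSnd x z)
  obtain ⟨V, p, hpe, hps⟩ := W.property.atlas
  obtain ⟨h₁, hh₁⟩ := (AlgSp.yon S).map_surjective (p ≫ m₁.hom)
  obtain ⟨h₂, hh₂⟩ := (AlgSp.yon S).map_surjective (p ≫ m₂.hom)
  refine ⟨V, h₁, h₂, ?_, ?_, ?_⟩
  · intro P₀ hP hz
    have hm₁ : AlgSp.LocP P₀ m₁.hom :=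
      prop_map_of_repByAlgSpWith _ hP.bc hP.loc e (AlgSt.toOverCat U) he
        (isEquivOver_toOverCat U) (FibCat.fpFst x z) m₁ iso₁ (repByAlgSpWith_fpFst _ z x hz)
    exact hm₁ p (𝟙 _) h₁ hpe (AlgSp.repWith_id _ U) (by rw [hh₁]; simp)
  · intro hzs
    have hm₁s : AlgSp.IsSurjectiveMor m₁.hom :=
      prop_map_of_repByAlgSpWith _ good_surjective.bc good_surjective.loc e (AlgSt.toOverCat U) he
        (isEquivOver_toOverCat U) (FibCat.fpFst x z) m₁ iso₁ (repByAlgSpWith_fpFst _ z x hzs)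
    constructor
    intro u
    obtain ⟨w, hw⟩ := hm₁s (AlgSp.Points.ofScheme U u)
    obtain ⟨v, rfl⟩ := ofPt_surjective_of_surjective p hps w
    refine ⟨v, ?_⟩
    have := map_ofPt_chart m₁.hom p (𝟙 _) h₁ (by rw [hh₁]; simp) v
    rw [hw, AlgSp.Points.ofPt_eq_map_ofScheme, AlgSp.Points.map_id] at this
    exact (ofScheme_injective U this).symm
  · intro P₀ hP hx
    have hm₂ : AlgSp.LocP P₀ m₂.hom :=
      prop_map_of_repByAlgSpWith _ hP.bc hP.loc e (AlgSt.toOverCat T) he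
        (isEquivOver_toOverCat T) (FibCat.fpSnd x z) m₂ iso₂
        (repByAlgSpWith_fpSnd _ x z hx)
    exact hm₂ p (𝟙 _) h₂ hpe (AlgSp.repWith_id _ T) (by rw [hh₂]; simp)

section Sch

/-- Reducedness descends along a flat surjective morphism from a scheme with regular stalks. -/
theorem isReduced_of_flat_surjective_regular {V U : Scheme.{u}} (h : V ⟶ U) [Flat h]
    [Surjective h] (hreg : ∀ v : V, IsRegularLocalRing (V.presheaf.stalk v)) : IsReduced U := by
  haveI : ∀ u : U, _root_.IsReduced (U.presheaf.stalk u) := by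
    intro u
    obtain ⟨v, rfl⟩ := h.surjective u
    letI : Algebra (U.presheaf.stalk (h v)) (V.presheaf.stalk v) := (h.stalkMap v).hom.toAlgebra
    haveI : Module.Flat (U.presheaf.stalk (h v)) (V.presheaf.stalk v) := Flat.stalkMap h v
    haveI : IsLocalHom (algebraMap (U.presheaf.stalk (h v)) (V.presheaf.stalk v)) :=
      inferInstanceAs (IsLocalHom (h.stalkMap v).hom)
    haveI : Module.FaithfullyFlat (U.presheaf.stalk (h v)) (V.presheaf.stalk v) :=
      Module.FaithfullyFlat.of_flat_of_isLocalHom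
    haveI := hreg v
    haveI : IsDomain (V.presheaf.stalk v) :=
      Groth.Agent.Lib.Helper9.RegLocal.isDomain_of_isRegularLocalRing _
    exact isReduced_of_injective (algebraMap (U.presheaf.stalk (h v)) (V.presheaf.stalk v))
      (FaithfulSMul.algebraMap_injective _ _)
  exact isReduced_of_isReduced_stalk U

/-- Regularity descends along a flat surjective morphism to a locally Noetherian scheme. -/
theorem isRegular_of_flat_surjective_regular {V U : Scheme.{u}} (h : V ⟶ U) [Flat h]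
    [Surjective h] [IsLocallyNoetherian U]
    (hreg : ∀ v : V, IsRegularLocalRing (V.presheaf.stalk v)) (u : U) :
    IsRegularLocalRing (U.presheaf.stalk u) := by
  obtain ⟨v, rfl⟩ := h.surjective u
  letI : Algebra (U.presheaf.stalk (h v)) (V.presheaf.stalk v) := (h.stalkMap v).hom.toAlgebra
  haveI : Module.Flat (U.presheaf.stalk (h v)) (V.presheaf.stalk v) := Flat.stalkMap h v
  haveI : IsLocalHom (algebraMap (U.presheaf.stalk (h v)) (V.presheaf.stalk v)) :=
    inferInstanceAs (IsLocalHom (h.stalkMap v).hom)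
  haveI := hreg v
  exact Groth.Agent.Lib.Helper26.RegularRing.isRegularLocalRing_of_flat
    (U.presheaf.stalk (h v)) (V.presheaf.stalk v)

/-- A reduced nontrivial ring has a flat map to a field. -/
theorem exists_flat_field (A : Type u) [CommRing A] [_root_.IsReduced A] [Nontrivial A] :
    ∃ (K : Type u) (_ : Field K) (φ : A →+* K), φ.Flat := by
  obtain ⟨⟨p, hp⟩⟩ := Ideal.nonempty_minimalPrimes (I := (⊥ : Ideal A)) bot_ne_top
  have hp' : p ∈ minimalPrimes A := hp
  haveI : p.IsPrime := hp.1.1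
  haveI : Ring.KrullDimLE 0 (Localization.AtPrime p) :=
    Ring.KrullDimLE.of_isLocalization p hp' (Localization.AtPrime p)
  have hF : IsField (Localization.AtPrime p) := Ring.KrullDimLE.isField_of_isReduced
  letI := hF.toField
  refine ⟨Localization.AtPrime p, inferInstance, algebraMap A (Localization.AtPrime p), ?_⟩
  exact RingHom.flat_algebraMap_iff.mpr (IsLocalization.flat _ p.primeCompl)

theorem exists_affine_nbhd (U : Scheme.{u}) (u : U) :
    ∃ W : U.Opens, IsAffineOpen W ∧ u ∈ W := by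
  obtain ⟨_, ⟨V, hV, rfl⟩, hxV, -⟩ := U.isBasis_affineOpens.exists_subset_of_mem_open
    (Set.mem_univ u) isOpen_univ
  exact ⟨V, hV, hxV⟩

/-- A nonempty reduced scheme has a flat morphism from the spectrum of a field. -/
theorem exists_flat_field_point (U : Scheme.{u}) [IsReduced U] [Nonempty U] :
    ∃ (K : Type u) (_ : Field K) (g : Spec (CommRingCat.of K) ⟶ U), Flat g := by
  obtain ⟨u⟩ := ‹Nonempty U›
  obtain ⟨W, hW, huW⟩ := exists_affine_nbhd U u
  haveI : Nontrivial Γ(U, W) := by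
    have : Nonempty (Spec Γ(U, W)) := ⟨hW.primeIdealOf ⟨u, huW⟩⟩
    exact (PrimeSpectrum.nonempty_iff_nontrivial).1 this
  obtain ⟨K, hK, φ, hφ⟩ := exists_flat_field Γ(U, W)
  refine ⟨K, hK, Spec.map (CommRingCat.ofHom φ) ≫ hW.fromSpec, ?_⟩
  haveI : Flat (Spec.map (CommRingCat.ofHom φ)) := Flat.SpecMap_iff.2 hφ
  infer_instance

/-- A nonempty scheme has a locally finite type morphism from the spectrum of a field. -/
theorem exists_lft_field_point (U : Scheme.{u}) [Nonempty U] :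
    ∃ (K : Type u) (_ : Field K) (g : Spec (CommRingCat.of K) ⟶ U), LocallyOfFiniteType g := by
  obtain ⟨u⟩ := ‹Nonempty U›
  obtain ⟨W, hW, huW⟩ := exists_affine_nbhd U u
  haveI : Nontrivial Γ(U, W) := by
    have : Nonempty (Spec Γ(U, W)) := ⟨hW.primeIdealOf ⟨u, huW⟩⟩
    exact (PrimeSpectrum.nonempty_iff_nontrivial).1 this
  obtain ⟨m, hm⟩ := Ideal.exists_maximal Γ(U, W)
  letI := Ideal.Quotient.field m
  refine ⟨Γ(U, W) ⧸ m, inferInstance,
    Spec.map (CommRingCat.ofHom (Ideal.Quotient.mk m)) ≫ hW.fromSpec, ?_⟩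
  haveI : IsClosedImmersion (Spec.map (CommRingCat.ofHom (Ideal.Quotient.mk m))) :=
    IsClosedImmersion.spec_of_surjective _ Ideal.Quotient.mk_surjective
  infer_instance

end Sch

section Stack

/-- The atlas of a stack with a point is nonempty. -/
theorem nonempty_atlas (h𝒵 : AlgSt.IsAlgStack Scheme.fppfPrecoverage 𝒵)
    (hne : Nonempty (AlgSt.Points 𝒵)) (U : Over S) (x : FibCat.overCat U ⥤ᵇ 𝒵)
    (hxs : AlgSt.RepByAlgSpWith AlgSp.IsSurjectiveMor x) : Nonempty ↥U.left := by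
  have hx1 : AlgSt.RepByAlgSp1 x := repByAlgSp1_of_with _ _ hxs
  have hsurj : AlgSt.IsSurjective x :=
    (Groth.Agent.S12819.result (H10PT.isAlgStack_overCat _) h𝒵 x hx1).2 hxs
  obtain ⟨p⟩ := hne
  obtain ⟨q, -⟩ := hsurj p
  obtain ⟨q0, rfl⟩ := AlgSt.Points.mk_surjective q
  exact ⟨H10PT.ptOf q0⟩

/-- A morphism from the spectrum of a field to a one-point stack is surjective. -/
theorem surjective_of_subsingleton (h𝒵 : AlgSt.IsAlgStack Scheme.fppfPrecoverage 𝒵)
    (hsub : Subsingleton (AlgSt.Points 𝒵))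
    (k : Type u) [Field k] (a : Spec (CommRingCat.of k) ⟶ S)
    (z : FibCat.overCat (Over.mk a) ⥤ᵇ 𝒵) :
    AlgSt.RepByAlgSpWith AlgSp.IsSurjectiveMor z := by
  have hz1 : AlgSt.RepByAlgSp1 z := repByAlgSp1_of_diag h𝒵.isStack.1 h𝒵.diag _ z
  refine (Groth.Agent.S12819.result (H10PT.isAlgStack_overCat _) h𝒵 z hz1).1 ?_
  intro p
  obtain ⟨q⟩ := nonempty_points_field a
  exact ⟨q, Subsingleton.elim _ _⟩

/-- A reduced stack with exactly one point has a flat surjective field point. -/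
theorem exists_flat_field_cover (h𝒵 : AlgSt.IsAlgStack Scheme.fppfPrecoverage 𝒵)
    (hred : AlgSt.SmoothLocally (fun T => IsReduced T) 𝒵)
    (hne : Nonempty (AlgSt.Points 𝒵)) (hsub : Subsingleton (AlgSt.Points 𝒵)) :
    ∃ (k : Type u) (_ : Field k) (a : Spec (CommRingCat.of k) ⟶ S)
      (z : FibCat.overCat (Over.mk a) ⥤ᵇ 𝒵),
      AlgSt.RepByAlgSpWith AlgSp.IsSurjectiveMor z ∧
        AlgSt.RepByAlgSpWith (AlgSp.LocP @Flat) z := by
  obtain ⟨U, x, hx, hxs⟩ := h𝒵.atlas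
  haveI : IsReduced U.left := hred U x hx
  haveI : Nonempty ↥U.left := nonempty_atlas h𝒵 hne U x hxs
  obtain ⟨K, hK, g, hg⟩ := exists_flat_field_point U.left
  let h : Over.mk (g ≫ U.hom) ⟶ U := Over.homMk g rfl
  have hh : AlgSt.RepByAlgSpWith (AlgSp.LocP @Flat) (AlgSt.overMap h) :=
    repByAlgSpWith_overMap _ good_flat.bc h (locP_yon_of etLocalST_flat h hg)
  have hxf : AlgSt.RepByAlgSpWith (AlgSp.LocP @Flat) x :=
    repByAlgSpWith_mono x (fun F U g hg => locP_mono (fun _ _ f hf => by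
      haveI : Smooth f := hf
      exact (inferInstance : Flat f)) hg) hx
  refine ⟨K, hK, g ≫ U.hom, BasedFunctor.comp (AlgSt.overMap h) x,
    surjective_of_subsingleton h𝒵 hsub K _ _, ?_⟩
  exact repByAlgSpWith_comp_good good_flat (isFibGrpd_overForget (U := _)) (isFibGrpd_overForget (U := U)) _ _ hh hxf

/-- A stack with a flat surjective field point has a locally finite type such point. -/
theorem exists_lft_field_cover (h𝒵 : AlgSt.IsAlgStack Scheme.fppfPrecoverage 𝒵)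
    (k : Type u) [Field k] (a : Spec (CommRingCat.of k) ⟶ S)
    (z : FibCat.overCat (Over.mk a) ⥤ᵇ 𝒵)
    (hzs : AlgSt.RepByAlgSpWith AlgSp.IsSurjectiveMor z)
    (hzf : AlgSt.RepByAlgSpWith (AlgSp.LocP @Flat) z) :
    ∃ (k' : Type u) (_ : Field k') (a' : Spec (CommRingCat.of k') ⟶ S)
      (z' : FibCat.overCat (Over.mk a') ⥤ᵇ 𝒵),
      AlgSt.RepByAlgSpWith (AlgSp.LocP @LocallyOfFiniteType) z' ∧
        AlgSt.RepByAlgSpWith AlgSp.IsSurjectiveMor z' ∧
        AlgSt.RepByAlgSpWith (AlgSp.LocP @Flat) z' := by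
  obtain ⟨U, x, hx, hxs⟩ := h𝒵.atlas
  have hne : Nonempty (AlgSt.Points 𝒵) := by
    obtain ⟨q⟩ := nonempty_points_field a
    exact ⟨AlgSt.Points.map z q⟩
  haveI : Nonempty ↥U.left := nonempty_atlas h𝒵 hne U x hxs
  obtain ⟨K, hK, g, hg⟩ := exists_lft_field_point U.left
  let h : Over.mk (g ≫ U.hom) ⟶ U := Over.homMk g rfl
  have hh : AlgSt.RepByAlgSpWith (AlgSp.LocP @LocallyOfFiniteType) (AlgSt.overMap h) :=
    repByAlgSpWith_overMap _ PropInst.good_lft.bc h (locP_yon_of etLocalST_locallyOfFiniteType h hg)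
  have hxf : AlgSt.RepByAlgSpWith (AlgSp.LocP @LocallyOfFiniteType) x :=
    repByAlgSpWith_mono x (fun F U g hg => locP_mono (fun _ _ f hf => by
      haveI : Smooth f := hf
      exact (inferInstance : LocallyOfFiniteType f)) hg) hx
  obtain ⟨h1, h2⟩ := surjective_flat_of_field h𝒵 k a z hzs hzf K (g ≫ U.hom)
    (BasedFunctor.comp (AlgSt.overMap h) x)
  exact ⟨K, hK, g ≫ U.hom, BasedFunctor.comp (AlgSt.overMap h) x,
    repByAlgSpWith_comp_good PropInst.good_lft (isFibGrpd_overForget (U := _)) (isFibGrpd_overForget (U := U)) _ _ hh hxf,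
    h1, h2⟩

/-- A stack with a flat surjective field point is reduced. -/
theorem smoothLocally_reduced_of_field_cover (h𝒵 : AlgSt.IsAlgStack Scheme.fppfPrecoverage 𝒵)
    (k : Type u) [Field k] (a : Spec (CommRingCat.of k) ⟶ S)
    (z : FibCat.overCat (Over.mk a) ⥤ᵇ 𝒵)
    (hzs : AlgSt.RepByAlgSpWith AlgSp.IsSurjectiveMor z)
    (hzf : AlgSt.RepByAlgSpWith (AlgSp.LocP @Flat) z) :
    AlgSt.SmoothLocally (fun T => IsReduced T) 𝒵 := by
  intro U x hx
  obtain ⟨V, h₁, h₂, hf, hs, hsm⟩ := exists_smooth_flat_cover h𝒵 k a z hzs hzf U x hx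
  haveI := hf
  haveI := hs
  haveI := hsm
  exact isReduced_of_flat_surjective_regular h₁.left (fun v =>
    Groth.Agent.Lib.Helper26.RegularSch.isRegularLocalRing_stalk_of_smooth_field k h₂.left v)

/-- A locally Noetherian stack with a flat surjective field point is regular. -/
theorem smoothLocally_regular_of_field_cover (h𝒵 : AlgSt.IsAlgStack Scheme.fppfPrecoverage 𝒵)
    (hnoeth : AlgSt.SmoothLocally (fun T => IsLocallyNoetherian T) 𝒵)
    (k : Type u) [Field k] (a : Spec (CommRingCat.of k) ⟶ S)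
    (z : FibCat.overCat (Over.mk a) ⥤ᵇ 𝒵)
    (hzs : AlgSt.RepByAlgSpWith AlgSp.IsSurjectiveMor z)
    (hzf : AlgSt.RepByAlgSpWith (AlgSp.LocP @Flat) z) :
    AlgSt.SmoothLocally (fun T => ∀ t : T, IsRegularLocalRing (T.presheaf.stalk t)) 𝒵 := by
  intro U x hx
  obtain ⟨V, h₁, h₂, hf, hs, hsm⟩ := exists_smooth_flat_cover h𝒵 k a z hzs hzf U x hx
  haveI := hf
  haveI := hs
  haveI := hsm
  haveI : IsLocallyNoetherian U.left := hnoeth U x hx
  exact isRegular_of_flat_surjective_regular h₁.left (fun v =>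
    Groth.Agent.Lib.Helper26.RegularSch.isRegularLocalRing_stalk_of_smooth_field k h₂.left v)

/-- A stack with a surjective field point has exactly one point. -/
theorem one_point_of_field_cover (h𝒵 : AlgSt.IsAlgStack Scheme.fppfPrecoverage 𝒵)
    (k : Type u) [Field k] (a : Spec (CommRingCat.of k) ⟶ S)
    (z : FibCat.overCat (Over.mk a) ⥤ᵇ 𝒵)
    (hzs : AlgSt.RepByAlgSpWith AlgSp.IsSurjectiveMor z) :
    Nonempty (AlgSt.Points 𝒵) ∧ Subsingleton (AlgSt.Points 𝒵) := by
  have hz1 : AlgSt.RepByAlgSp1 z := repByAlgSp1_of_with _ _ hzs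
  have hzsurj : AlgSt.IsSurjective z :=
    (Groth.Agent.S12819.result (H10PT.isAlgStack_overCat _) h𝒵 z hz1).2 hzs
  haveI := subsingleton_points_field a
  refine ⟨?_, ?_⟩
  · obtain ⟨q⟩ := nonempty_points_field a
    exact ⟨AlgSt.Points.map z q⟩
  · constructor
    intro p q
    obtain ⟨p0, rfl⟩ := hzsurj p
    obtain ⟨q0, rfl⟩ := hzsurj q
    rw [Subsingleton.elim p0 q0]

/-- A stack with a flat, locally finitely presented, surjective field point is locally
Noetherian. -/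
theorem smoothLocally_noeth_of_field_cover (h𝒵 : AlgSt.IsAlgStack Scheme.fppfPrecoverage 𝒵)
    (k : Type u) [Field k] (a : Spec (CommRingCat.of k) ⟶ S)
    (z : FibCat.overCat (Over.mk a) ⥤ᵇ 𝒵)
    (hzp : AlgSt.RepByAlgSpWith (AlgSp.LocP @LocallyOfFinitePresentation) z)
    (hzs : AlgSt.RepByAlgSpWith AlgSp.IsSurjectiveMor z)
    (hzf : AlgSt.RepByAlgSpWith (AlgSp.LocP @Flat) z) :
    AlgSt.SmoothLocally (fun T => IsLocallyNoetherian T) 𝒵 := by
  intro U x hx
  obtain ⟨V, h₁, h₂, H1, H2, H3⟩ := exists_chart_cover (Over.mk a) z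
    (repByAlgSp1_of_with _ _ hzs) U x
  haveI : Flat h₁.left := H1 _ good_flat hzf
  haveI : LocallyOfFinitePresentation h₁.left := H1 _ good_lfp hzp
  haveI : Surjective h₁.left := H2 hzs
  haveI : Smooth h₂.left := H3 _ good_smooth hx
  haveI : IsLocallyNoetherian V.left :=
    LocallyOfFiniteType.isLocallyNoetherian (Y := Spec (CommRingCat.of k)) h₂.left
  exact Groth.Agent.Lib.Helper16.isLocallyNoetherian_of_fppf_surjective h₁.left

/-- A reduced, locally Noetherian stack with exactly one point has a flat, locally finitely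
presented, surjective field point. -/
theorem exists_lfp_field_cover (h𝒵 : AlgSt.IsAlgStack Scheme.fppfPrecoverage 𝒵)
    (hred : AlgSt.SmoothLocally (fun T => IsReduced T) 𝒵)
    (hnoeth : AlgSt.SmoothLocally (fun T => IsLocallyNoetherian T) 𝒵)
    (hne : Nonempty (AlgSt.Points 𝒵)) (hsub : Subsingleton (AlgSt.Points 𝒵)) :
    ∃ (k' : Type u) (_ : Field k') (a' : Spec (CommRingCat.of k') ⟶ S)
      (z' : FibCat.overCat (Over.mk a') ⥤ᵇ 𝒵),
      AlgSt.RepByAlgSpWith (AlgSp.LocP @LocallyOfFinitePresentation) z' ∧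
        AlgSt.RepByAlgSpWith AlgSp.IsSurjectiveMor z' ∧
        AlgSt.RepByAlgSpWith (AlgSp.LocP @Flat) z' := by
  obtain ⟨k, hk, a, z, hzs, hzf⟩ := exists_flat_field_cover h𝒵 hred hne hsub
  obtain ⟨U, x, hx, hxs⟩ := h𝒵.atlas
  haveI : Nonempty ↥U.left := nonempty_atlas h𝒵 hne U x hxs
  haveI : IsLocallyNoetherian U.left := hnoeth U x hx
  obtain ⟨K, hK, g, hg⟩ := exists_lft_field_point U.left
  haveI := hg
  have hg' : LocallyOfFinitePresentation g := inferInstance
  let h : Over.mk (g ≫ U.hom) ⟶ U := Over.homMk g rfl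
  have hh : AlgSt.RepByAlgSpWith (AlgSp.LocP @LocallyOfFinitePresentation) (AlgSt.overMap h) :=
    repByAlgSpWith_overMap _ good_lfp.bc h
      (locP_yon_of etLocalST_locallyOfFinitePresentation h hg')
  have hxf : AlgSt.RepByAlgSpWith (AlgSp.LocP @LocallyOfFinitePresentation) x :=
    repByAlgSpWith_mono x (fun F U g hg => locP_mono (fun _ _ f hf => by
      haveI : Smooth f := hf
      exact (inferInstance : LocallyOfFinitePresentation f)) hg) hx
  obtain ⟨h1, h2⟩ := surjective_flat_of_field h𝒵 k a z hzs hzf K (g ≫ U.hom)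
    (BasedFunctor.comp (AlgSt.overMap h) x)
  exact ⟨K, hK, g ≫ U.hom, BasedFunctor.comp (AlgSt.overMap h) x,
    repByAlgSpWith_comp_good good_lfp (isFibGrpd_overForget (U := _))
      (isFibGrpd_overForget (U := U)) _ _ hh hxf, h1, h2⟩

end Stack

end Groth.Agent.Lib.Helper28.AlgSt.FieldCover2
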