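import Mathlib
import Groth.Agent.Lib.Helper10.AlgStEquiv
import Groth.Agent.Lib.Helper10.Fib4
import Groth.Agent.S12774
import Groth.Agent.S12868

/-!
# The essential image of a fully faithful functor over the base, as a substack
-/

set_option autoImplicit false

universe u

open CategoryTheory CategoryTheory.Limits AlgebraicGeometry Opposite

namespace Groth.Agent.Lib.Helper28.AlgSt.EssImage

open Groth.Agent.Lib.Helper10.Fib Groth.Agent.Lib.Helper10.AlgStRep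

variable {S : Scheme.{u}} {𝒵 𝒳 : AlgSt.Cat S}

/-- The essential image of `i`, as a predicate on objects. -/
def essImg (i : 𝒵 ⥤ᵇ 𝒳) : 𝒳.obj → Prop := fun a => ∃ z : 𝒵.obj, Nonempty (i.obj z ≅ a)

theorem essImg_closed (i : 𝒵 ⥤ᵇ 𝒳) : ObjectProperty.IsClosedUnderIsomorphisms (essImg i) :=
  ⟨fun {a b} e ⟨z, ⟨φ⟩⟩ => ⟨z, ⟨φ ≪≫ e⟩⟩⟩

/-- The corestriction of `i` to its essential image. -/
def toEssImg (i : 𝒵 ⥤ᵇ 𝒳) : 𝒵 ⥤ᵇ AlgSt.fullSub 𝒳 (essImg i) where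
  toFunctor := ObjectProperty.lift (essImg i) i.toFunctor (fun z => ⟨z, ⟨Iso.refl _⟩⟩)
  w := i.w

theorem toEssImg_comp (i : 𝒵 ⥤ᵇ 𝒳) :
    BasedFunctor.comp (toEssImg i) (AlgSt.subIncl 𝒳 (essImg i)) = i := rfl

instance (i : 𝒵 ⥤ᵇ 𝒳) [i.toFunctor.Full] : (toEssImg i).toFunctor.Full :=
  inferInstanceAs (ObjectProperty.lift (essImg i) i.toFunctor _).Full

instance (i : 𝒵 ⥤ᵇ 𝒳) [i.toFunctor.Faithful] : (toEssImg i).toFunctor.Faithful :=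
  inferInstanceAs (ObjectProperty.lift (essImg i) i.toFunctor _).Faithful

instance (i : 𝒵 ⥤ᵇ 𝒳) : (toEssImg i).toFunctor.EssSurj :=
  ⟨fun a => by
    obtain ⟨z, ⟨φ⟩⟩ := a.property
    exact ⟨z, ⟨ObjectProperty.isoMk _ φ⟩⟩⟩

theorem isEquivOver_toEssImg (h𝒵 : FibCat.IsFibGrpd 𝒵.p) (i : 𝒵 ⥤ᵇ 𝒳) [i.toFunctor.Full]
    [i.toFunctor.Faithful] : FibCat.IsEquivOver (toEssImg i) := by
  haveI := IsFibGrpd.isFibered h𝒵
  exact isEquivOver_of_ff (toEssImg i) (exists_iso_over_of_essSurj (toEssImg i))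

/-- Uniqueness: a strictly full subcategory through which `i` factors by an equivalence is the
essential image. -/
theorem eq_essImg (i : 𝒵 ⥤ᵇ 𝒳) (Q' : 𝒳.obj → Prop)
    (hQ' : ObjectProperty.IsClosedUnderIsomorphisms Q')
    (i' : 𝒵 ⥤ᵇ AlgSt.fullSub 𝒳 Q') (hi' : FibCat.IsEquivOver i')
    (e : BasedFunctor.comp i' (AlgSt.subIncl 𝒳 Q') ≅ i) : Q' = essImg i := by
  funext a
  apply propext
  constructor
  · intro ha
    haveI := IsEquivOver.isEquivalence hi'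
    let z := i'.toFunctor.objPreimage ⟨a, ha⟩
    let φ : i'.obj z ≅ ⟨a, ha⟩ := i'.toFunctor.objObjPreimageIso ⟨a, ha⟩
    exact ⟨z, ⟨((natIsoOfBased e).app z).symm ≪≫ (ObjectProperty.ι Q').mapIso φ⟩⟩
  · rintro ⟨z, ⟨φ⟩⟩
    have h1 : Q' ((i'.obj z).obj) := (i'.obj z).property
    exact hQ'.of_iso (((natIsoOfBased e).app z) ≪≫ φ) h1

theorem smoothLocally_of_isEquivOver {𝒵₁ 𝒵₂ : AlgSt.Cat S} (P : Scheme.{u} → Prop)
    (e : 𝒵₁ ⥤ᵇ 𝒵₂) (he : FibCat.IsEquivOver e) (h : AlgSt.SmoothLocally P 𝒵₁) :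
    AlgSt.SmoothLocally P 𝒵₂ := by
  intro U x' hx'
  obtain ⟨e', ⟨η⟩, ⟨ε⟩⟩ := he
  exact h U (BasedFunctor.comp x' e') (repByAlgSpWith_comp_equiv _ x' e' ⟨e, ⟨ε⟩, ⟨η⟩⟩ hx')

end Groth.Agent.Lib.Helper28.AlgSt.EssImage
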