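import Mathlib
import Groth.Agent.Lib.Helper28.AlgSt.FieldCover2
import Groth.Agent.Lib.Helper29.QuotUnpack

/-!
# fppf covering sieves of the spectrum of an algebraically closed field are trivial
-/

set_option autoImplicit false

universe u

open CategoryTheory CategoryTheory.Limits AlgebraicGeometry Opposite

namespace Groth.Agent.Lib.Helper28.AlgSt.AlgClosedCover

/-- A nonempty scheme locally of finite type over an algebraically closed field has a rational point. -/
theorem exists_section_of_lft {Ω : Type u} [Field Ω] [IsAlgClosed Ω] {Y : Scheme.{u}} [Nonempty Y]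
    (c : Y ⟶ Spec (CommRingCat.of Ω)) [LocallyOfFiniteType c] :
    ∃ s : Spec (CommRingCat.of Ω) ⟶ Y, s ≫ c = 𝟙 _ := by
  obtain ⟨K, hK, g, hg⟩ := Groth.Agent.Lib.Helper28.AlgSt.FieldCover2.exists_lft_field_point Y
  obtain ⟨φ, hφ⟩ := Spec.map_surjective (g ≫ c)
  have h1 : LocallyOfFiniteType (Spec.map φ) := hφ ▸ inferInstance
  have hft : φ.hom.FiniteType := (HasRingHomProperty.Spec_iff (P := @LocallyOfFiniteType)).1 h1
  have hfin : φ.hom.Finite := RingHom.finite_iff_finiteType_of_isJacobsonRing.2 hft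
  have hbij : Function.Bijective φ.hom := by
    algebraize [φ.hom]
    haveI : Algebra.IsIntegral Ω K := Algebra.IsIntegral.of_finite Ω K
    exact IsAlgClosed.algebraMap_bijective_of_isIntegral
  haveI : IsIso φ := (ConcreteCategory.isIso_iff_bijective φ).2 hbij
  refine ⟨inv (Spec.map φ) ≫ g, ?_⟩
  rw [Category.assoc, ← hφ, IsIso.inv_hom_id]

variable {S : Scheme.{u}}

/-- Every fppf covering sieve of the spectrum of an algebraically closed field contains the identity. -/
theorem id_mem_of_algClosed {Ω : Type u} [Field Ω] [IsAlgClosed Ω] (t : Spec (CommRingCat.of Ω) ⟶ S)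
    (R : Sieve (Over.mk t)) (hR : R ∈ QuotSh.J Scheme.fppfPrecoverage S (Over.mk t)) :
    R (𝟙 (Over.mk t)) := by
  obtain ⟨ι, Y, c, hc, hmem⟩ :=
    Groth.Agent.Lib.Helper29.QuotUnpack.exists_cover_of_mem Scheme.fppfPrecoverage R hR
  rw [Scheme.fppfPrecoverage, Scheme.ofArrows_mem_precoverage_iff] at hc
  obtain ⟨hsurj, hP⟩ := hc
  obtain ⟨l, y, -⟩ := hsurj (default : Spec (CommRingCat.of Ω))
  haveI : Nonempty (Y l) := ⟨y⟩
  haveI : LocallyOfFinitePresentation (c l) := (hP l).2
  obtain ⟨s, hs⟩ := exists_section_of_lft (c l)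
  let s' : Over.mk t ⟶ Over.mk (c l ≫ (Over.mk t).hom) :=
    Over.homMk s (by simp [← Category.assoc, hs])
  have := R.downward_closed (hmem l) s'
  convert this using 1
  ext
  simp [s', hs]

end Groth.Agent.Lib.Helper28.AlgSt.AlgClosedCover
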