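import Mathlib
import Groth.Agent.Lib.Helper28.AlgSt.DiagTFAE
import Groth.Agent.Lib.Helper28.AlgSt.DiagComp
import Groth.Agent.Lib.Helper28.AlgSt.FpStack
import Groth.Agent.Lib.Helper10.AlgStGraph
import Groth.Agent.Lib.Helper10.AlgStSwap

/-!
# Cancellation for properties of diagonals of morphisms of algebraic stacks
-/

set_option autoImplicit false

universe u

open CategoryTheory CategoryTheory.Limits AlgebraicGeometry Opposite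

namespace Groth.Agent.Lib.Helper28.AlgSt.DiagCancel

open Groth.Agent.Lib.Helper10.Fib Groth.Agent.Lib.Helper10.AlgStRep
open Groth.Agent.Lib.Helper28.AlgSt.PropInst Groth.Agent.Lib.Helper28.AlgSt.SpaceCalc
open Groth.Agent.Lib.Helper28.AlgSt.Key Groth.Agent.Lib.Helper28.AlgSt.DiagComp
open Groth.Agent.Lib.Helper28.AlgSt.DiagTFAE

variable {S : Scheme.{u}} {𝒳 𝒴 𝒵 : AlgSt.Cat S}

/-- Cancellation with a property: if `p ≅ g ⋙ q`, `p` has `P` and the diagonal of `q` has `P`,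
then `g` has `P`. -/
theorem repByAlgSpWith_of_comp {P : MorphismProperty (AlgSp.Sp S)} (hP : Good P)
    (h𝒳 : FibCat.IsFibGrpd 𝒳.p) (h𝒴 : FibCat.IsFibGrpd 𝒴.p) (h𝒵 : FibCat.IsFibGrpd 𝒵.p)
    (p : 𝒳 ⥤ᵇ 𝒵) (q : 𝒴 ⥤ᵇ 𝒵) (g : 𝒳 ⥤ᵇ 𝒴)
    (e : BasedFunctor.comp (BasedFunctor.id 𝒳) p ≅ BasedFunctor.comp g q)
    (hp : AlgSt.RepByAlgSpWith P p) (hq : AlgSt.RepByAlgSpWith P (FibCat.diag q)) :
    AlgSt.RepByAlgSpWith P g := by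
  have h1 : AlgSt.RepByAlgSpWith P (FibCat.fpLift (BasedFunctor.id 𝒳) g e) :=
    repByAlgSpWith_graph P h𝒳 h𝒴 h𝒵 p q g e hq
  have h2 : AlgSt.RepByAlgSpWith P (FibCat.fpSnd p q) := repByAlgSpWith_fpSnd P p q hp
  exact repByAlgSpWith_comp_good hP h𝒳 (isFibGrpd_fp p q h𝒳 h𝒴 h𝒵) _ _ h1 h2

/-- If the diagonal of `f ⋙ g` has `P` and the diagonal of the comparison functor
`𝒳 ×_𝒴 𝒳 ⟶ 𝒳 ×_𝒵 𝒳` has `P`, then the diagonal of `f` has `P`. -/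
theorem repByAlgSpWith_diag_of_comp' {P : MorphismProperty (AlgSp.Sp S)} (hP : Good P)
    (h𝒳 : FibCat.IsFibGrpd 𝒳.p) (h𝒴 : FibCat.IsFibGrpd 𝒴.p) (h𝒵 : FibCat.IsFibGrpd 𝒵.p)
    (f : 𝒳 ⥤ᵇ 𝒴) (g : 𝒴 ⥤ᵇ 𝒵)
    (hi : AlgSt.RepByAlgSpWith P (FibCat.diag (fpComp f g)))
    (h : AlgSt.RepByAlgSpWith P (FibCat.diag (BasedFunctor.comp f g))) :
    AlgSt.RepByAlgSpWith P (FibCat.diag f) :=
  repByAlgSpWith_of_comp hP h𝒳 (isFibGrpd_fp f f h𝒳 h𝒳 h𝒴)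
    (isFibGrpd_fp (BasedFunctor.comp f g) (BasedFunctor.comp f g) h𝒳 h𝒳 h𝒵)
    (FibCat.diag (BasedFunctor.comp f g)) (fpComp f g) (FibCat.diag f) (diagCompIso f g) h hi

/-- Cancellation for properties which hold for all diagonals of morphisms of algebraic
spaces. -/
theorem repByAlgSpWith_diag_of_comp {P : MorphismProperty (AlgSp.Sp S)} (hP : Good P)
    (h𝒳 : FibCat.IsFibGrpd 𝒳.p) (h𝒴 : FibCat.IsFibGrpd 𝒴.p) (h𝒵 : FibCat.IsFibGrpd 𝒵.p)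
    (f : 𝒳 ⥤ᵇ 𝒴) (g : 𝒴 ⥤ᵇ 𝒵) (hΔg : AlgSt.RepByAlgSp1 (FibCat.diag g))
    (HP : ∀ (A B : AlgSp.Space S) (m : A ⟶ B), P (pullback.diagonal m.hom))
    (h : AlgSt.RepByAlgSpWith P (FibCat.diag (BasedFunctor.comp f g))) :
    AlgSt.RepByAlgSpWith P (FibCat.diag f) := by
  have hi : AlgSt.RepByAlgSp1 (fpComp f g) :=
    repByAlgSp1_of_with ⊤ _ (repByAlgSpWith_fpComp ⊤ h𝒳 h𝒴 h𝒵 f g (repByAlgSpWith_top _ hΔg))
  exact repByAlgSpWith_diag_of_comp' hP h𝒳 h𝒴 h𝒵 f g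
    (repByAlgSpWith_diag_of_forall (isFibGrpd_fp f f h𝒳 h𝒳 h𝒴)
      (isFibGrpd_fp (BasedFunctor.comp f g) (BasedFunctor.comp f g) h𝒳 h𝒳 h𝒵) P hP.bc
      (fpComp f g) hi HP) h

end Groth.Agent.Lib.Helper28.AlgSt.DiagCancel
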