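import Mathlib
import Groth.Agent.Lib.Helper16.QsField2
import Groth.Agent.Lib.Helper16.QsDecent
import Groth.Agent.Lib.Helper16.FactorMono

/-!
# Essential dimension, part A: a space quasi-separated over an affine scheme is decent
-/

set_option autoImplicit false
universe u
open CategoryTheory CategoryTheory.Limits AlgebraicGeometry Topology TopologicalSpace
open AlgSp

namespace Groth.Agent.Lib.Helper28.AlgSt.EssDimA

open Groth.Agent.Lib.Helper16

variable {S : Scheme.{u}}

/-- If `m : X ⟶ h_T` has quasi-compact diagonal and `A ×_T B` is quasi-compact, then a scheme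
representing `h_A ×_X h_B` is quasi-compact. -/
theorem compactSpace_of_isPullback_of_qs_mor {X : Sp S} {T : Over S} (m : X ⟶ (yon S).obj T)
    (hX : RepWith @QuasiCompact (pullback.diagonal m)) {A B R : Over S} (a : (yon S).obj A ⟶ X)
    (b : (yon S).obj B ⟶ X) (rU : R ⟶ A) (rW : R ⟶ B)
    (sqR : IsPullback ((yon S).map rU) ((yon S).map rW) a b)
    (A₀ : A ⟶ T) (B₀ : B ⟶ T) (hA₀ : a ≫ m = (yon S).map A₀) (hB₀ : b ≫ m = (yon S).map B₀)
    [CompactSpace ↥(pullback A₀ B₀).left] : CompactSpace ↥R.left := by
  have hw0 : rU ≫ A₀ = rW ≫ B₀ := by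
    apply (yon S).map_injective
    rw [Functor.map_comp, Functor.map_comp, ← hA₀, ← hB₀, ← Category.assoc, ← Category.assoc, sqR.w]
  obtain ⟨mm, hm1', hm2'⟩ : ∃ mm : R ⟶ pullback A₀ B₀, mm ≫ pullback.fst A₀ B₀ = rU ∧
      mm ≫ pullback.snd A₀ B₀ = rW :=
    ⟨pullback.lift rU rW hw0, pullback.lift_fst _ _ _, pullback.lift_snd _ _ _⟩
  have sq₀ := (IsPullback.of_hasPullback A₀ B₀).map (yon S)
  have hm1 : (yon S).map mm ≫ (yon S).map (pullback.fst A₀ B₀) = (yon S).map rU := by
    rw [← Functor.map_comp, hm1']
  have hm2 : (yon S).map mm ≫ (yon S).map (pullback.snd A₀ B₀) = (yon S).map rW := by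
    rw [← Functor.map_comp, hm2']
  have hcond : ((yon S).map (pullback.fst A₀ B₀) ≫ a) ≫ m =
      ((yon S).map (pullback.snd A₀ B₀) ≫ b) ≫ m := by
    rw [Category.assoc, Category.assoc, hA₀, hB₀, ← Functor.map_comp, ← Functor.map_comp,
      pullback.condition]
  have sqD : IsPullback ((yon S).map rU ≫ a) ((yon S).map mm) (pullback.diagonal m)
      (pullback.lift ((yon S).map (pullback.fst A₀ B₀) ≫ a)
        ((yon S).map (pullback.snd A₀ B₀) ≫ b) hcond) := by
    refine isPullback_of_exists_lift ?_ ?_ ?_
    · apply pullback.hom_ext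
      · simp only [Category.assoc, pullback.diagonal_fst, pullback.lift_fst, Category.comp_id]
        rw [← Category.assoc ((yon S).map mm), hm1]
      · simp only [Category.assoc, pullback.diagonal_snd, pullback.lift_snd, Category.comp_id]
        rw [← Category.assoc ((yon S).map mm), hm2]
        exact sqR.w
    · intro Q c d h
      have hc1 : c = d ≫ (yon S).map (pullback.fst A₀ B₀) ≫ a := by
        have := congrArg (· ≫ pullback.fst m m) h
        simpa only [Category.assoc, pullback.diagonal_fst, pullback.lift_fst,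
          Category.comp_id] using this
      have hc2 : c = d ≫ (yon S).map (pullback.snd A₀ B₀) ≫ b := by
        have := congrArg (· ≫ pullback.snd m m) h
        simpa only [Category.assoc, pullback.diagonal_snd, pullback.lift_snd,
          Category.comp_id] using this
      have hw : (d ≫ (yon S).map (pullback.fst A₀ B₀)) ≫ a =
          (d ≫ (yon S).map (pullback.snd A₀ B₀)) ≫ b := by
        rw [Category.assoc, Category.assoc, ← hc1, ← hc2]
      refine ⟨sqR.lift _ _ hw, ?_, ?_⟩
      · rw [← Category.assoc, sqR.lift_fst, Category.assoc, ← hc1]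
      · apply sq₀.hom_ext
        · rw [Category.assoc, hm1, sqR.lift_fst]
        · rw [Category.assoc, hm2, sqR.lift_snd]
    · intro Q l l' _ h2
      apply sqR.hom_ext
      · have := congrArg (· ≫ (yon S).map (pullback.fst A₀ B₀)) h2
        simpa only [Category.assoc, hm1] using this
      · have := congrArg (· ≫ (yon S).map (pullback.snd A₀ B₀)) h2
        simpa only [Category.assoc, hm2] using this
  have hm : QuasiCompact mm.left := hX.property _ _ _ sqD
  exact QuasiCompact.compactSpace_of_compactSpace mm.left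

/-- An algebraic space which is quasi-separated over an affine scheme is decent. -/
theorem isDecent_of_qs_mor_affine {X : Sp S} (hXa : IsAlgSpace X) {T : Over S} [IsAffine T.left]
    (m : X ⟶ (yon S).obj T) (hX : RepWith @QuasiCompact (pullback.diagonal m)) : IsDecent X := by
  refine isDecent_of_compact_affine_etale hXa ?_
  intro q W ψ hW hψ R r₁ r₂ sq
  obtain ⟨A₀, hA₀⟩ := (yon S).map_surjective (q.toHom ≫ m)
  obtain ⟨B₀, hB₀⟩ := (yon S).map_surjective (ψ ≫ m)
  have sqS : IsPullback (pullback.fst A₀ B₀).left (pullback.snd A₀ B₀).left A₀.left B₀.left :=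
    (IsPullback.of_hasPullback A₀ B₀).map (Over.forget S)
  haveI : IsAffine q.pt.left := inferInstanceAs (IsAffine (Spec (CommRingCat.of q.K)))
  haveI : IsAffine (pullback A₀.left B₀.left) := inferInstance
  have e : (pullback A₀ B₀).left ≅ pullback A₀.left B₀.left :=
    sqS.isoIsPullback _ _ (IsPullback.of_hasPullback A₀.left B₀.left)
  haveI : CompactSpace ↥(pullback A₀ B₀).left := e.inv.homeomorph.compactSpace
  exact compactSpace_of_isPullback_of_qs_mor m hX q.toHom ψ r₁ r₂ sq A₀ B₀ hA₀.symm hB₀.symm

end Groth.Agent.Lib.Helper28.AlgSt.EssDimA
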