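import Mathlib
import Groth.Agent.Lib.Helper10.Fib5
import Groth.Agent.Lib.Helper10.AlgStRep
import Groth.Agent.Lib.Helper28.AlgSt.Key

/-!
# Essential dimension, part B: descending an object along a representable morphism
-/

set_option autoImplicit false
universe u
open CategoryTheory CategoryTheory.Limits AlgebraicGeometry Opposite

namespace Groth.Agent.Lib.Helper28.AlgSt.EssDimB

open Groth.Agent.Lib.Helper10.Fib Groth.Agent.Lib.Helper10.AlgStRep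

variable {S : Scheme.{u}} {𝒳 𝒴 : AlgSt.Cat S}

/-- Let `F : 𝒳 ⟶ 𝒴` be representable with `P`, `x` an object of `𝒳` over `T` whose image has a
morphism `ψ` to an object `y₀` over `T₀`, lying over `r : T ⟶ T₀`. Then there are an algebraic space
`W` with a morphism `m : W ⟶ h_{T₀}` having `P` and a section `w ∈ W(T)` such that whenever `w` is
the restriction along `l : T ⟶ T₁` of a section over `T₁`, the object `x` has a morphism lying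
over `l` to an object of `𝒳` over `T₁`. -/
theorem descent_core (h𝒳 : FibCat.IsFibGrpd 𝒳.p) (h𝒴 : FibCat.IsFibGrpd 𝒴.p) (F : 𝒳 ⥤ᵇ 𝒴)
    (P : MorphismProperty (AlgSp.Sp S)) (hF : AlgSt.RepByAlgSpWith P F)
    {T₀ T : Over S} (r : T ⟶ T₀) (x : 𝒳.obj) (hx : 𝒳.p.obj x = T) (y₀ : 𝒴.obj)
    (hy₀ : 𝒴.p.obj y₀ = T₀) (ψ : F.obj x ⟶ y₀) (hψ : 𝒴.p.IsHomLift r ψ) :
    ∃ (W : AlgSp.Space S) (m : W.obj ⟶ (AlgSp.yon S).obj T₀) (w : W.obj.obj.obj (op T)), P m ∧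
      ∀ (T₁ : Over S) (p : W.obj.obj.obj (op T₁)) (l : T ⟶ T₁), W.obj.obj.map l.op p = w →
        ∃ (x₁ : 𝒳.obj) (_ : 𝒳.p.obj x₁ = T₁) (φ : x ⟶ x₁), 𝒳.p.IsHomLift l φ := by
  subst hx
  obtain ⟨G, -, ⟨i⟩⟩ := yoneda_essSurj T₀ (⟨y₀, hy₀⟩ : 𝒴.p.Fiber T₀)
    (fun V g => IsFibGrpd.exists_lift' h𝒴 hy₀ g)
  obtain ⟨I, hI⟩ : ∃ I : G.obj (Over.mk (𝟙 T₀)) ⟶ y₀, 𝒴.p.IsHomLift (𝟙 T₀) I :=
    ⟨i.hom.1, i.hom.2⟩
  obtain ⟨W, e, he, hP⟩ := hF T₀ G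
  -- the object of the fibre product
  let tr : (Over.mk r : Over T₀) ⟶ Over.mk (𝟙 T₀) := Over.homMk r (by simp)
  have hGtr : 𝒴.p.IsHomLift r (G.map tr) := by
    have h0 : 𝒴.p.IsHomLift ((FibCat.overCat T₀).p.map tr) (G.map tr) := inferInstance
    exact h0
  have hcomp : 𝒴.p.IsHomLift r (G.map tr ≫ I) := by
    have h0 : 𝒴.p.IsHomLift (r ≫ 𝟙 T₀) (G.map tr ≫ I) := inferInstance
    rwa [Category.comp_id] at h0
  haveI := IsFibGrpd.sc h𝒴 r (G.map tr ≫ I)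
  haveI := hψ
  -- the canonical comparison `F x ⟶ G (r)` over the identity
  let χ : F.obj x ⟶ G.obj (Over.mk r) :=
    Functor.IsStronglyCartesian.map 𝒴.p r (G.map tr ≫ I) (Category.id_comp r).symm ψ
  have hχ : 𝒴.p.IsHomLift (𝟙 (𝒳.p.obj x)) χ :=
    Functor.IsStronglyCartesian.map_isHomLift 𝒴.p r (G.map tr ≫ I) (Category.id_comp r).symm ψ
  haveI := hχ
  haveI : IsIso χ := IsFibGrpd.isIso_of_isHomLift_id h𝒴 (U := 𝒳.p.obj x) χ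
  let ξ : (FibCat.fp G F).obj :=
    ⟨⟨Over.mk r, x, (asIso χ).symm⟩, by
      change 𝒴.p.IsHomLift (𝟙 (𝒳.p.obj x)) (inv χ)
      exact @IsHomLift.lift_id_inv_isIso _ _ _ _ 𝒴.p (𝒳.p.obj x) _ _ χ _ hχ⟩
  obtain ⟨v, ε, hε⟩ := IsEquivOver.exists_iso he ξ
  have hvb : v.base = 𝒳.p.obj x := by
    have h1 : (FibCat.fp G F).p.obj (e.obj v) = (FibCat.fp G F).p.obj ξ :=
      IsHomLift.domain_eq (FibCat.fp G F).p (𝟙 _) ε.hom
    exact (e.w_obj v).symm.trans h1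
  obtain ⟨vb, vs⟩ := v
  change vb = 𝒳.p.obj x at hvb
  subst hvb
  refine ⟨W, AlgSt.spMapOfOver (BasedFunctor.comp e (FibCat.fpFst G F)), vs, hP, ?_⟩
  intro T₁ p l hl
  let ψ₁ : (⟨𝒳.p.obj x, vs⟩ : (AlgSt.ofSp W.obj).obj) ⟶ ⟨T₁, p⟩ := ⟨l, hl⟩
  have hψ₁ : (AlgSt.ofSp W.obj).p.IsHomLift l ψ₁ := IsHomLift.map (AlgSt.ofSp W.obj).p ψ₁
  haveI := hψ₁
  have hμ1 : (FibCat.fp G F).p.IsHomLift l (e.map ψ₁) :=
    @BasedFunctor.preserves_isHomLift _ _ _ _ e _ _ _ _ l ψ₁ hψ₁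
  haveI := hμ1
  haveI := hε
  have hεi : (FibCat.fp G F).p.IsHomLift (𝟙 (𝒳.p.obj x)) ε.inv :=
    @IsHomLift.lift_id_inv _ _ _ _ (FibCat.fp G F).p ((FibCat.fp G F).p.obj ξ) _ _ ε hε
  haveI := hεi
  have hμ : (FibCat.fp G F).p.IsHomLift l (ε.inv ≫ e.map ψ₁) := by
    have h0 : (FibCat.fp G F).p.IsHomLift (𝟙 (𝒳.p.obj x) ≫ l) (ε.inv ≫ e.map ψ₁) :=
      inferInstance
    rwa [Category.id_comp] at h0
  haveI := hμ
  have hφ : 𝒳.p.IsHomLift l ((FibCat.fpSnd G F).map (ε.inv ≫ e.map ψ₁)) := inferInstance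
  refine ⟨(e.obj ⟨T₁, p⟩).obj.snd, ?_, (FibCat.fpSnd G F).map (ε.inv ≫ e.map ψ₁), hφ⟩
  exact ((FibCat.fpSnd G F).w_obj (e.obj ⟨T₁, p⟩)).trans (e.w_obj ⟨T₁, p⟩)

end Groth.Agent.Lib.Helper28.AlgSt.EssDimB
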