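import Mathlib
import Groth.Agent.Lib.Helper12.SchemeDimIneq2
import Groth.Agent.Lib.Helper12.JacDim
import Groth.Agent.Lib.Helper12.QFAffine

/-!
# Essential dimension, part C: transcendence degree bounds for fields of definition
-/

set_option autoImplicit false
universe u
open CategoryTheory CategoryTheory.Limits AlgebraicGeometry

namespace Groth.Agent.Lib.Helper28.AlgSt.EssDimC

open Groth.Agent.Lib.Helper12.SchemeDimIneq

/-- Two towers of fields with the same composite, the first step of the second one being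
surjective. -/
theorem trdeg_le_of_towers {K₀ K₁ κ₀ κ : Type u} [Field K₀] [Field K₁] [Field κ₀] [Field κ]
    (φ : K₀ →+* K₁) (ψ : K₁ →+* κ) (ρ : K₀ →+* κ₀) (σ : κ₀ →+* κ) (hρ : Function.Surjective ρ)
    (h : ψ.comp φ = σ.comp ρ) :
    @Algebra.trdeg K₀ K₁ _ _ φ.toAlgebra ≤ @Algebra.trdeg κ₀ κ _ _ σ.toAlgebra := by
  letI a1 := φ.toAlgebra
  letI a2 := ψ.toAlgebra
  letI a3 := (ψ.comp φ).toAlgebra
  letI a4 := ρ.toAlgebra
  letI a5 := σ.toAlgebra
  haveI : IsScalarTower K₀ K₁ κ := IsScalarTower.of_algebraMap_eq (fun r => rfl)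
  haveI : IsScalarTower K₀ κ₀ κ := IsScalarTower.of_algebraMap_eq (fun r => by
    show (ψ.comp φ) r = σ (ρ r)
    rw [h]; rfl)
  have h1 := trdeg_add_eq (R := K₀) (S := K₁) (A := κ)
  have h2 := trdeg_add_eq (R := K₀) (S := κ₀) (A := κ)
  haveI : Algebra.IsAlgebraic K₀ κ₀ := by
    haveI : Algebra.IsIntegral K₀ κ₀ := Algebra.IsIntegral.of_surjective (R := K₀) (A := K₀)
      (Algebra.ofId K₀ κ₀) hρ
    infer_instance
  rw [trdeg_eq_zero, zero_add] at h2
  rw [h2, ← h1]
  exact le_self_add

/-- For the spectrum of a field, the map from the field to the residue field of a point is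
surjective. -/
theorem surjective_preimage_fromSpecResidueField {K₀ : Type u} [Field K₀]
    (y : Spec (CommRingCat.of K₀)) :
    Function.Surjective
      (Spec.preimage ((Spec (CommRingCat.of K₀)).fromSpecResidueField y)).hom := by
  have h1 : Spec.preimage ((Spec (CommRingCat.of K₀)).fromSpecResidueField y) =
      CommRingCat.ofHom (algebraMap K₀ y.asIdeal.ResidueField) ≫
        (Scheme.Spec.residueFieldIso (CommRingCat.of K₀) y).inv := by
    apply Spec.map_injective
    rw [Spec.map_preimage, Spec.map_comp]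
    exact (Scheme.Spec.map_residueFieldIso_inv_eq_fromSpecResidueField (CommRingCat.of K₀) y).symm
  rw [h1]
  haveI : y.asIdeal.IsMaximal := by
    have : y.asIdeal = ⊥ := Ideal.eq_bot_of_prime y.asIdeal
    rw [this]
    exact Ideal.bot_isMaximal
  have h2 : Function.Surjective (algebraMap K₀ y.asIdeal.ResidueField) :=
    Ideal.algebraMap_residueField_surjective y.asIdeal
  have h3 : Function.Bijective (Scheme.Spec.residueFieldIso (CommRingCat.of K₀) y).inv.hom :=
    ConcreteCategory.bijective_of_isIso (Scheme.Spec.residueFieldIso (CommRingCat.of K₀) y).inv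
  exact h3.surjective.comp h2

/-- A field `K₁` between `K₀` and the residue field of a point `u` of a scheme `U` over `Spec K₀`
has transcendence degree over `K₀` at most that of the residue field extension at `u`. -/
theorem toENat_trdeg_le_trn {K₀ K₁ : Type u} [Field K₀] [Field K₁] {U : Scheme.{u}} (u : U)
    (g : U ⟶ Spec (CommRingCat.of K₀)) (φ : K₀ →+* K₁) (ψ : K₁ →+* U.residueField u)
    (h : Spec.map (CommRingCat.ofHom ψ) ≫ Spec.map (CommRingCat.ofHom φ) =
      U.fromSpecResidueField u ≫ g) :
    Cardinal.toENat (@Algebra.trdeg K₀ K₁ _ _ φ.toAlgebra) ≤ trn g u := by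
  unfold trn
  apply Cardinal.toENat.monotone'
  refine trdeg_le_of_towers φ ψ
    (Spec.preimage ((Spec (CommRingCat.of K₀)).fromSpecResidueField (g u))).hom
    (g.residueFieldMap u).hom (surjective_preimage_fromSpecResidueField (g u)) ?_
  have h1 : CommRingCat.ofHom φ ≫ CommRingCat.ofHom ψ =
      Spec.preimage ((Spec (CommRingCat.of K₀)).fromSpecResidueField (g u)) ≫
        g.residueFieldMap u := by
    apply Spec.map_injective
    rw [Spec.map_comp, Spec.map_comp, Spec.map_preimage, h,
      Scheme.Hom.SpecMap_residueFieldMap_fromSpecResidueField]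
  exact congrArg CommRingCat.Hom.hom h1

end Groth.Agent.Lib.Helper28.AlgSt.EssDimC
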