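import Mathlib
import Groth.Prelude.Def_StCurv2
import Groth.Agent.Lib.Helper16.DimF1
import Groth.Agent.Lib.Helper28.AlgSt.EssDimA
import Groth.Agent.Lib.Helper28.AlgSt.EssDimC

/-!
# Essential dimension, part D: the field of definition of a field-valued point of an algebraic space
quasi-separated, locally of finite type and of relative dimension at most `d` over a field
-/

set_option autoImplicit false
universe u
open CategoryTheory CategoryTheory.Limits AlgebraicGeometry Opposite
open AlgSp

namespace Groth.Agent.Lib.Helper28.AlgSt.EssDimD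

open Groth.Agent.Lib.Helper16 Groth.Agent.Lib.Helper16.FactorMono Groth.Agent.Lib.Helper12.SchemeDimIneq

variable {S : Scheme.{u}}

/-- Let `X` be an algebraic space with a morphism `m` to the spectrum of a field `K₀`, quasi-separated,
locally of finite type and of relative dimension at most `d`. Every field-valued point `q` of `X`
factors through a field-valued point `p` whose field has transcendence degree at most `d` over
`K₀`. -/
theorem exists_field_of_definition {X : Sp S} (hX : IsAlgSpace X)
    {K₀ : Type u} [Field K₀] (str₀ : Spec (CommRingCat.of K₀) ⟶ S)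
    (m : X ⟶ (yon S).obj (Over.mk str₀)) (d : ℕ)
    (hlft : LocP @LocallyOfFiniteType m) (hqs : IsQuasiSeparatedMor m)
    (hdim : CurvSt.RelDimLE d m) (q : FieldPt X) :
    ∃ (p : FieldPt X) (l : q.pt ⟶ p.pt) (π : p.pt ⟶ Over.mk str₀),
      X.obj.map l.op p.val = q.val ∧ p.toHom ≫ m = (yon S).map π ∧
      Cardinal.toENat (@Algebra.trdeg K₀ p.K _ _ (Spec.preimage π.left).hom.toAlgebra) ≤ (d : ℕ∞) := by
  haveI : IsAffine (Over.mk str₀).left := (inferInstance : IsAffine (Spec (CommRingCat.of K₀)))
  have hdec : IsDecent X := EssDimA.isDecent_of_qs_mor_affine hX m hqs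
  obtain ⟨p, hp, hmono, -⟩ := hdec (Points.mk q)
  haveI := hmono
  have hrange : ∀ q' : FieldPt X, Points.mk q' = Points.mk p →
      Points.mk q' ∈ Set.range (Points.map p.toHom) := by
    intro q' hq'
    refine ⟨Points.ofScheme p.pt (IsLocalRing.closedPoint p.K), ?_⟩
    rw [← Points.ofPt_eq_map_ofScheme, Points.ofPt_toHom, hq']
  obtain ⟨l', hl'⟩ := exists_lift_of_mem_range (IsAlgSpace.yon_obj _) hX p.toHom q (hrange q hp.symm)
  obtain ⟨l, rfl⟩ := (yon S).map_surjective l'
  obtain ⟨π, hπ⟩ := (yon S).map_surjective (p.toHom ≫ m)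
  refine ⟨p, l, π, ?_, hπ.symm, ?_⟩
  · rw [← FieldPt.uliftYonedaEquiv_toHom p, GrothendieckTopology.uliftYonedaEquiv_naturality, hl',
      FieldPt.uliftYonedaEquiv_toHom]
  · obtain ⟨U, V, a, b, h, u, ha, hb, hcomm, hu, hd⟩ := hdim (Points.mk p)
    obtain ⟨b', rfl⟩ := (yon S).map_surjective b
    have hb' : Etale b'.left := (repWith_yon_map_iff @Etale b').1 hb
    have hh : LocallyOfFiniteType h.left := hlft a _ h ha hb hcomm
    obtain ⟨lu', hlu'⟩ := exists_lift_of_mem_range (IsAlgSpace.yon_obj _) hX p.toHom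
      (FieldPt.ofPt a u) (hrange _ hu)
    obtain ⟨lu, rfl⟩ := (yon S).map_surjective lu'
    obtain ⟨ι, hι, hιleft⟩ : ∃ ι : (FieldPt.ofPt a u).pt ⟶ U,
        (FieldPt.ofPt a u).toHom = (yon S).map ι ≫ a ∧
          ι.left = U.left.fromSpecResidueField u := ⟨_, FieldPt.toHom_ofPt a u, rfl⟩
    have hover : lu ≫ π = ι ≫ h ≫ b' := by
      apply (yon S).map_injective
      rw [Functor.map_comp, hπ, ← Category.assoc, hlu', hι, Functor.map_comp,
        Functor.map_comp, Category.assoc, hcomm]
    have hleft : lu.left ≫ π.left = U.left.fromSpecResidueField u ≫ (h.left ≫ b'.left) := by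
      rw [← hιleft]
      exact congrArg (fun t => t.left) hover
    have key := @EssDimC.toENat_trdeg_le_trn K₀ p.K _ _ U.left u (h.left ≫ b'.left)
      (Spec.preimage π.left).hom (Spec.preimage lu.left).hom (by
        refine Eq.trans ?_ hleft
        congr 1
        · exact Spec.map_preimage lu.left
        · exact Spec.map_preimage π.left)
    refine key.trans ?_
    rw [Groth.Agent.Lib.Helper12.JacDim.trn_comp]
    haveI : LocallyQuasiFinite b'.left := locallyQuasiFinite_of_etale b'.left
    rw [Groth.Agent.Lib.Helper12.QFAffine.trn_eq_zero_of_locallyQuasiFinite b'.left, zero_add]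
    have h0 : FlatMor.fibreDimAt h.left u ≤ ((d : ℕ) : WithBot ℕ∞) := hd
    rw [fibreDimAt_eq_trn_add] at h0
    have h1 : (0 : WithBot ℕ∞) ≤
        ringKrullDim ((h.left.fiber (h.left u)).presheaf.stalk (h.left.asFiber u)) :=
      ringKrullDim_nonneg_of_nontrivial
    have h2 : ((trn h.left u : ℕ∞) : WithBot ℕ∞) ≤ ((d : ℕ) : WithBot ℕ∞) :=
      (le_add_of_nonneg_right h1).trans h0
    exact_mod_cast h2

end Groth.Agent.Lib.Helper28.AlgSt.EssDimD
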