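import Mathlib
import Groth.Prelude.Def_EssDim

/-!
# Essential dimension, part E: the image of a field of definition as an intermediate field
-/

set_option autoImplicit false
universe u
open CategoryTheory CategoryTheory.Limits AlgebraicGeometry Opposite

namespace Groth.Agent.Lib.Helper28.AlgSt.EssDimE

variable {k : Type u} [Field k] {L : Type u} [Field L] [Algebra k L]

/-- A morphism over `Spec k` from `Spec L` to the spectrum of a field `K₁` factors through the
spectrum of an intermediate field `K` of `L/k`, whose transcendence degree over `k` is bounded in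
terms of any field `K₀` over `k` of which `K₁` is an extension. -/
theorem exists_intermediateField {K₁ : Type u} [Field K₁]
    (str₁ : Spec (CommRingCat.of K₁) ⟶ Spec (CommRingCat.of k))
    (l : SGA7.pt (K := k) L ⟶ Over.mk str₁) :
    ∃ (K : IntermediateField k L) (i : SGA7.pt (K := k) ↥K ⟶ Over.mk str₁),
      EssDim.resPt K.val ≫ i = l ∧
      ∀ (K₀ : Type u) [Field K₀] [Algebra k K₀] (π : Over.mk str₁ ⟶ SGA7.pt (K := k) K₀),
        Cardinal.toENat (Algebra.trdeg k ↥K) ≤ Cardinal.toENat (Algebra.trdeg k K₀) +
          Cardinal.toENat (@Algebra.trdeg K₀ K₁ _ _ (Spec.preimage π.left).hom.toAlgebra) := by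
  letI a1 : Algebra k K₁ := (Spec.preimage str₁).hom.toAlgebra
  have hstr : str₁ = Spec.map (CommRingCat.ofHom (algebraMap k K₁)) :=
    (Spec.map_preimage str₁).symm
  have hl : l.left ≫ str₁ = Spec.map (CommRingCat.ofHom (algebraMap k L)) := Over.w l
  let j : K₁ →+* L := (Spec.preimage l.left).hom
  have hj : ∀ r : k, j (algebraMap k K₁ r) = algebraMap k L r := by
    intro r
    have h1 : CommRingCat.ofHom (algebraMap k K₁) ≫ Spec.preimage l.left =
        CommRingCat.ofHom (algebraMap k L) := by
      apply Spec.map_injective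
      rw [Spec.map_comp, Spec.map_preimage, ← hstr, hl]
    exact congrArg (fun t => t.hom r) h1
  let jA : K₁ →ₐ[k] L := { j with commutes' := hj }
  let e : K₁ ≃ₐ[k] jA.fieldRange := jA.equivFieldRange
  refine ⟨jA.fieldRange, Over.homMk (Spec.map (CommRingCat.ofHom (e : K₁ →+* jA.fieldRange))) ?_,
    ?_, ?_⟩
  · change Spec.map _ ≫ str₁ = Spec.map _
    rw [hstr, ← Spec.map_comp]
    congr 1
    ext r
    exact congrArg Subtype.val (e.commutes r)
  · ext : 1
    change Spec.map _ ≫ Spec.map _ = l.left
    rw [← Spec.map_comp, ← Spec.map_preimage l.left]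
    congr 1
  · intro K₀ _ _ π
    letI a2 : Algebra K₀ K₁ := (Spec.preimage π.left).hom.toAlgebra
    have hπ : π.left ≫ Spec.map (CommRingCat.ofHom (algebraMap k K₀)) = str₁ := Over.w π
    have h1 : CommRingCat.ofHom (algebraMap k K₀) ≫ Spec.preimage π.left = Spec.preimage str₁ := by
      apply Spec.map_injective
      rw [Spec.map_comp, Spec.map_preimage, Spec.map_preimage, hπ]
    haveI : IsScalarTower k K₀ K₁ := IsScalarTower.of_algebraMap_eq (fun r => by
      exact (congrArg (fun t => t.hom r) h1).symm)
    have h2 : Algebra.trdeg k ↥jA.fieldRange = Algebra.trdeg k K₁ := e.symm.trdeg_eq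
    have h3 := trdeg_add_eq (R := k) (S := K₀) (A := K₁)
    rw [h2, ← h3, map_add]

end Groth.Agent.Lib.Helper28.AlgSt.EssDimE
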