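import Mathlib
import Groth.Prelude.Def_EssDim
import Groth.Agent.Lib.Helper28.AlgSt.EssDimB
import Groth.Agent.Lib.Helper28.AlgSt.EssDimD
import Groth.Agent.Lib.Helper28.AlgSt.EssDimE

/-!
# Essential dimension, part F: `ed x ≤ ed F(x) + d` for a representable morphism of fibre
dimension at most `d`
-/

set_option autoImplicit false
universe u
open CategoryTheory CategoryTheory.Limits AlgebraicGeometry Opposite

namespace Groth.Agent.Lib.Helper28.AlgSt.EssDimF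

open Groth.Agent.Lib.Helper10.Fib

theorem edStAt_le (k : Type u) [Field k]
    (𝒳 𝒴 : AlgSt.Cat (Spec (CommRingCat.of k)))
    [h𝒳 : FibCat.IsFibGrpd 𝒳.p] [h𝒴 : FibCat.IsFibGrpd 𝒴.p]
    (F : 𝒳 ⥤ᵇ 𝒴) (d : ℕ)
    (hF : AlgSt.RepByAlgSpWith
      (AlgSp.LocP @LocallyOfFiniteType ⊓ AlgSp.IsQuasiSeparatedMor ⊓
        fun _ _ g => CurvSt.RelDimLE d g) F)
    (L : Type u) [Field L] [Algebra k L] (x : StkCnt.pts 𝒳 L) :
    EssDim.edStAt 𝒳 x ≤ EssDim.edStAt 𝒴 ⟨F.obj x.1, (F.w_obj x.1).trans x.2⟩ + d := by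
  set y : StkCnt.pts 𝒴 L := ⟨F.obj x.1, (F.w_obj x.1).trans x.2⟩ with hy
  haveI : Nonempty {K : IntermediateField k L // EssDim.Descends (Gerb.isoClPsh 𝒴)
      (Quot.mk (Gerb.IsoRel 𝒴 (SGA7.pt (K := k) L)) y) K} :=
    ⟨⟨⊤, EssDim.descends_top _⟩⟩
  obtain ⟨⟨K₀, hK₀⟩, hmin⟩ := ENat.exists_eq_iInf
    (fun K : {K : IntermediateField k L // EssDim.Descends (Gerb.isoClPsh 𝒴)
      (Quot.mk (Gerb.IsoRel 𝒴 (SGA7.pt (K := k) L)) y) K} =>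
        Cardinal.toENat (Algebra.trdeg k K.1))
  have hed : EssDim.edStAt 𝒴 y = Cardinal.toENat (Algebra.trdeg k K₀) := hmin.symm
  rw [hed]
  obtain ⟨y₀, ψ, hψ⟩ := (EssDim.descends_isoCl_iff 𝒴 y K₀).1 hK₀
  obtain ⟨W, m, w, ⟨⟨hlft, hqs⟩, hdim⟩, hdesc⟩ := EssDimB.descent_core h𝒳 h𝒴 F _ hF
    (EssDim.resPt K₀.val) x.1 x.2 y₀.1 y₀.2 ψ hψ
  obtain ⟨p, l, π, hsec, hπ, htr⟩ := EssDimD.exists_field_of_definition W.property (K₀ := ↥K₀)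
    (Spec.map (CommRingCat.ofHom (algebraMap k ↥K₀))) m d hlft hqs hdim
    ⟨L, Spec.map (CommRingCat.ofHom (algebraMap k L)), w⟩
  obtain ⟨x₁, hx₁, φ, hφ⟩ := hdesc p.pt p.val l hsec
  obtain ⟨K, i, hi, hK⟩ := EssDimE.exists_intermediateField p.str l
  obtain ⟨x₀, χ, hχ⟩ := IsFibGrpd.exists_lift' h𝒳 hx₁ i
  haveI := hχ
  have hx₀ : 𝒳.p.obj x₀ = SGA7.pt (K := k) ↥K := IsHomLift.domain_eq 𝒳.p i χ
  haveI := hφ
  have hφ' : 𝒳.p.IsHomLift (EssDim.resPt K.val)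
      (Functor.IsStronglyCartesian.map 𝒳.p i χ hi.symm φ) :=
    Functor.IsStronglyCartesian.map_isHomLift 𝒳.p i χ hi.symm φ
  have hdescK : EssDim.Descends (Gerb.isoClPsh 𝒳)
      (Quot.mk (Gerb.IsoRel 𝒳 (SGA7.pt (K := k) L)) x) K :=
    (EssDim.descends_isoCl_iff 𝒳 x K).2 ⟨⟨x₀, hx₀⟩, _, hφ'⟩
  refine (EssDim.edAt_le_of_descends hdescK).trans ?_
  refine (hK ↥K₀ π).trans ?_
  gcongr

end Groth.Agent.Lib.Helper28.AlgSt.EssDimF
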