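import Mathlib
import Groth.Prelude.Def_EssDim

/-!
# Essential dimension does not increase under extension of the base field
-/

set_option autoImplicit false

universe w u

open CategoryTheory Opposite AlgebraicGeometry

namespace Groth.Agent.Lib.Helper28.EssDimG

section Field

variable {k K L : Type u} [Field k] [Field K] [Field L] [Algebra k K] [Algebra K L] [Algebra k L]
  [IsScalarTower k K L]

/-- The inclusion of an intermediate field of `L/k` into its compositum with `K`. -/
def inclR (F : IntermediateField k L) :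
    ↥F →+* ↥(IntermediateField.adjoin K (F : Set L)) where
  toFun x := ⟨x.1, IntermediateField.subset_adjoin K _ x.2⟩
  map_one' := rfl
  map_mul' _ _ := rfl
  map_zero' := rfl
  map_add' _ _ := rfl

lemma inclR_injective (F : IntermediateField k L) : Function.Injective (inclR (K := K) F) :=
  fun x y h => Subtype.ext (congrArg (fun z : ↥(IntermediateField.adjoin K (F : Set L)) => z.1) h)

lemma inclR_algebraMap (F : IntermediateField k L) (c : k) :
    inclR (K := K) F (algebraMap k ↥F c) =
      algebraMap K ↥(IntermediateField.adjoin K (F : Set L)) (algebraMap k K c) := by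
  apply Subtype.ext
  show algebraMap k L c = algebraMap K L (algebraMap k K c)
  exact IsScalarTower.algebraMap_apply k K L c

theorem trdeg_adjoin_le (F : IntermediateField k L) :
    Algebra.trdeg K ↥(IntermediateField.adjoin K (F : Set L)) ≤ Algebra.trdeg k ↥F := by
  classical
  obtain ⟨s, hs⟩ := exists_isTranscendenceBasis k ↥F
  have halg := hs.isAlgebraic
  have hmem : ∀ a : ↥(Algebra.adjoin k (Set.range (Subtype.val : s → ↥F))),
      ((inclR (K := K) F).comp (algebraMap _ ↥F)) a ∈
        Algebra.adjoin K ((inclR (K := K) F) '' s) := by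
    intro a
    have ha : (a.1 : ↥F) ∈ Algebra.adjoin k (Set.range (Subtype.val : s → ↥F)) := a.2
    show inclR (K := K) F a.1 ∈ Algebra.adjoin K ((inclR (K := K) F) '' s)
    refine Algebra.adjoin_induction
      (p := fun x _ => inclR (K := K) F x ∈ Algebra.adjoin K ((inclR (K := K) F) '' s))
      ?_ ?_ ?_ ?_ ha
    · rintro x ⟨y, rfl⟩
      exact Algebra.subset_adjoin ⟨y.1, y.2, rfl⟩
    · intro c
      rw [inclR_algebraMap]
      exact Subalgebra.algebraMap_mem _ _
    · intro x y _ _ hx hy
      rw [map_add]; exact Subalgebra.add_mem _ hx hy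
    · intro x y _ _ hx hy
      rw [map_mul]; exact Subalgebra.mul_mem _ hx hy
  let ρ : ↥(Algebra.adjoin k (Set.range (Subtype.val : s → ↥F))) →+*
      ↥(Algebra.adjoin K ((inclR (K := K) F) '' s)) :=
    RingHom.codRestrict ((inclR (K := K) F).comp (algebraMap _ ↥F)) _ hmem
  have hρinj : Function.Injective ρ := by
    intro a b hab
    apply Subtype.ext
    apply inclR_injective (K := K) F
    exact congrArg (fun z : ↥(Algebra.adjoin K ((inclR (K := K) F) '' s)) => z.1) hab
  have hcomp : (algebraMap ↥(Algebra.adjoin K ((inclR (K := K) F) '' s))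
      ↥(IntermediateField.adjoin K (F : Set L))).comp ρ =
      (inclR (K := K) F).comp (algebraMap _ ↥F) := RingHom.ext fun a => rfl
  have key : ∀ (x : L) (hx : x ∈ IntermediateField.adjoin K (F : Set L)),
      IsAlgebraic ↥(Algebra.adjoin K ((inclR (K := K) F) '' s))
        (⟨x, hx⟩ : ↥(IntermediateField.adjoin K (F : Set L))) := by
    intro x hx
    refine IntermediateField.adjoin_induction K (s := (F : Set L))
      (p := fun (x : L) (hx : x ∈ IntermediateField.adjoin K (F : Set L)) => IsAlgebraic ↥(Algebra.adjoin K ((inclR (K := K) F) '' s))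
        (⟨x, hx⟩ : ↥(IntermediateField.adjoin K (F : Set L)))) ?_ ?_ ?_ ?_ ?_ hx
    · intro y hy
      have h1 : IsAlgebraic ↥(Algebra.adjoin k (Set.range (Subtype.val : s → ↥F)))
          (⟨y, hy⟩ : ↥F) := halg.isAlgebraic _
      exact h1.ringHom_of_comp_eq ρ (inclR (K := K) F) hρinj hcomp
    · intro c
      exact isAlgebraic_algebraMap
        (algebraMap K ↥(Algebra.adjoin K ((inclR (K := K) F) '' s)) c)
    · intro x y hx hy h1 h2
      exact h1.add h2
    · intro x hx h1
      exact h1.inv
    · intro x y hx hy h1 h2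
      exact h1.mul h2
  haveI : Algebra.IsAlgebraic ↥(Algebra.adjoin K ((inclR (K := K) F) '' s))
      ↥(IntermediateField.adjoin K (F : Set L)) := ⟨fun z => key z.1 z.2⟩
  have h1 : Algebra.trdeg K ↥(IntermediateField.adjoin K (F : Set L)) ≤
      Cardinal.mk ↥((inclR (K := K) F) '' s) :=
    Algebra.IsAlgebraic.trdeg_le_cardinalMk K ((inclR (K := K) F) '' s)
  have h2 : Cardinal.mk ↥((inclR (K := K) F) '' s) ≤ Cardinal.mk ↥s := Cardinal.mk_image_le
  have h3 : Cardinal.mk ↥s = Algebra.trdeg k ↥F := hs.cardinalMk_eq_trdeg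
  exact h1.trans (h2.trans h3.le)

end Field

theorem main_ed (k : Type u) [Field k] (K : Type u) [Field K] [Algebra k K]
    (P : (Over (Spec (CommRingCat.of k)))ᵒᵖ ⥤ Type w) :
    EssDim.ed (k := K) ((Over.map (Spec.map (CommRingCat.ofHom (algebraMap k K)))).op ⋙ P) ≤
      EssDim.ed P := by
  have key : ∀ (L : Type u) [Field L] [Algebra K L]
      (ξ : EssDim.FPt (k := K)
        ((Over.map (Spec.map (CommRingCat.ofHom (algebraMap k K)))).op ⋙ P) L),
      ((EssDim.edAt ((Over.map (Spec.map (CommRingCat.ofHom (algebraMap k K)))).op ⋙ P) ξ : ℕ∞) :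
        WithBot ℕ∞) ≤ EssDim.ed P := by
    intro L _ _ ξ
    letI algkL : Algebra k L := ((algebraMap K L).comp (algebraMap k K)).toAlgebra
    haveI : IsScalarTower k K L := IsScalarTower.of_algebraMap_eq fun x => rfl
    let ι : SGA7.pt (K := k) L ≅
        (Over.map (Spec.map (CommRingCat.ofHom (algebraMap k K)))).obj (SGA7.pt (K := K) L) :=
      Over.isoMk (Iso.refl _) (by
        show 𝟙 _ ≫ (Spec.map (CommRingCat.ofHom (algebraMap K L)) ≫
          Spec.map (CommRingCat.ofHom (algebraMap k K))) =
          Spec.map (CommRingCat.ofHom (algebraMap k L))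
        rw [Category.id_comp, ← Spec.map_comp, ← CommRingCat.ofHom_comp])
    have h1 : ((EssDim.edAt P (P.map ι.hom.op ξ) : ℕ∞) : WithBot ℕ∞) ≤ EssDim.ed P :=
      EssDim.edAt_le_ed (P.map ι.hom.op ξ)
    refine le_trans (WithBot.coe_le_coe.2 ?_) h1
    refine le_iInf fun F => ?_
    obtain ⟨F, ξ₀, hξ₀⟩ := F
    let m : (Over.map (Spec.map (CommRingCat.ofHom (algebraMap k K)))).obj
        (SGA7.pt (K := K) ↥(IntermediateField.adjoin K (F : Set L))) ⟶ SGA7.pt (K := k) ↥F :=
      Over.homMk (Spec.map (CommRingCat.ofHom (EssDimG.inclR (K := K) F))) (by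
        show Spec.map (CommRingCat.ofHom (EssDimG.inclR (K := K) F)) ≫
            Spec.map (CommRingCat.ofHom (algebraMap k ↥F)) =
          Spec.map (CommRingCat.ofHom
            (algebraMap K ↥(IntermediateField.adjoin K (F : Set L)))) ≫
            Spec.map (CommRingCat.ofHom (algebraMap k K))
        rw [← Spec.map_comp, ← Spec.map_comp, ← CommRingCat.ofHom_comp,
          ← CommRingCat.ofHom_comp]
        congr 2)
    have hmor : (Over.map (Spec.map (CommRingCat.ofHom (algebraMap k K)))).map
        (EssDim.resPt (IntermediateField.adjoin K (F : Set L)).val) ≫ m =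
        ι.inv ≫ EssDim.resPt F.val := by
      apply Over.OverMorphism.ext
      show Spec.map (CommRingCat.ofHom
          ((IntermediateField.adjoin K (F : Set L)).val : _ →+* L)) ≫
          Spec.map (CommRingCat.ofHom (EssDimG.inclR (K := K) F)) =
        𝟙 _ ≫ Spec.map (CommRingCat.ofHom (F.val : ↥F →+* L))
      rw [Category.id_comp, ← Spec.map_comp, ← CommRingCat.ofHom_comp]
      rfl
    have hdesc : EssDim.Descends ((Over.map (Spec.map (CommRingCat.ofHom (algebraMap k K)))).op ⋙ P)
        ξ (IntermediateField.adjoin K (F : Set L)) := by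
      refine ⟨P.map m.op ξ₀, ?_⟩
      show P.map ((Over.map (Spec.map (CommRingCat.ofHom (algebraMap k K)))).map
        (EssDim.resPt (IntermediateField.adjoin K (F : Set L)).val)).op (P.map m.op ξ₀) = ξ
      have e : ξ = P.map ι.inv.op (P.map (EssDim.resPt F.val).op ξ₀) := by
        have hξ₀' : P.map (EssDim.resPt F.val).op ξ₀ = P.map ι.hom.op ξ := hξ₀
        rw [hξ₀', ← FunctorToTypes.map_comp_apply, ← op_comp, ι.inv_hom_id, op_id,
          FunctorToTypes.map_id_apply]
      rw [e, ← FunctorToTypes.map_comp_apply, ← FunctorToTypes.map_comp_apply, ← op_comp,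
        ← op_comp, hmor]
    refine (EssDim.edAt_le_of_descends hdesc).trans ?_
    exact OrderHomClass.mono Cardinal.toENat (EssDimG.trdeg_adjoin_le (K := K) F)
  exact iSup_le fun L => iSup_le fun _ => iSup_le fun _ => iSup_le fun ξ => key L ξ

end Groth.Agent.Lib.Helper28.EssDimG
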