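import Mathlib
import Groth.Agent.Lib.Helper28.AlgSt.FpStack
import Groth.Agent.Lib.Helper28.AlgSt.Good
import Groth.Agent.Lib.Helper16.AlgSt.CancelCover

/-!
# 2-fibre products of algebraic stacks, for any topology and any good property of atlases
-/

set_option autoImplicit false
set_option backward.isDefEq.respectTransparency false
set_option backward.isDefEq.respectTransparency.types false

universe u

open CategoryTheory CategoryTheory.Limits AlgebraicGeometry Opposite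

namespace Groth.Agent.Lib.Helper28.AlgSt.FpStackGen

open Groth.Agent.Lib.Helper10.Fib Groth.Agent.Lib.Helper10.StkPsh
open Groth.Agent.Lib.Helper10.AlgStRep
open Groth.Agent.Lib.Helper28.AlgSt.Bridge
open Groth.Agent.Lib.Helper28.AlgSt.Key Groth.Agent.Lib.Helper28.AlgSt.PropInst
open Groth.Agent.Lib.Helper28.AlgSt.Basic Groth.Agent.Lib.Helper28.AlgSt.DiagRep
open Groth.Agent.Lib.Helper28.AlgSt.Chart Groth.Agent.Lib.Helper28.AlgSt.Whisker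
open Groth.Agent.Lib.Helper28.AlgSt.AlgStack Groth.Agent.Lib.Helper28.AlgSt.Comp
open Groth.Agent.Lib.Helper28.AlgSt.FpStack

variable {S : Scheme.{u}} {𝒳 𝒴 𝒵 : AlgSt.Cat S}

theorem good_etaleMor : Good (S := S) AlgSp.IsEtaleMor where
  bc := Groth.Agent.Lib.Helper16.AlgStDC.bc_isEtaleMor
  co := by
    intro X Y Z _ _ _ a b ha hb U φ hφ
    rw [← Category.assoc]
    exact hb _ (ha φ hφ)
  loc := Groth.Agent.Lib.Helper16.AlgStDC.loc_isEtaleMor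

/-- The product of two covers over `𝒵`, as a single 1-morphism having every good property that
both covers have. -/
theorem exists_cover_fp_good {𝒰 𝒱 : AlgSt.Cat S} (h𝒰 : FibCat.IsFibGrpd 𝒰.p)
    (h𝒱 : FibCat.IsFibGrpd 𝒱.p) (h𝒳 : FibCat.IsFibGrpd 𝒳.p) (h𝒴 : FibCat.IsFibGrpd 𝒴.p)
    (h𝒵 : FibCat.IsFibGrpd 𝒵.p) (f : 𝒳 ⥤ᵇ 𝒵) (g : 𝒴 ⥤ᵇ 𝒵) (x : 𝒰 ⥤ᵇ 𝒳) (y : 𝒱 ⥤ᵇ 𝒴) :
    ∃ a : FibCat.fp (BasedFunctor.comp x f) (BasedFunctor.comp y g) ⥤ᵇ FibCat.fp f g,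
      ∀ (P : MorphismProperty (AlgSp.Sp S)), Good P → AlgSt.RepByAlgSpWith P x →
        AlgSt.RepByAlgSpWith P y → AlgSt.RepByAlgSpWith P a := by
  obtain ⟨i₁, hi₁⟩ := isEquivOver_symm (isEquivOver_paste1 x f (BasedFunctor.comp y g))
  obtain ⟨i₂, hi₂⟩ := isEquivOver_symm (isEquivOver_paste2 f g y)
  have hA := isFibGrpd_fp x (FibCat.fpFst f (BasedFunctor.comp y g)) h𝒰
    (isFibGrpd_fp f (BasedFunctor.comp y g) h𝒳 h𝒱 h𝒵) h𝒳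
  have hB := isFibGrpd_fp f (BasedFunctor.comp y g) h𝒳 h𝒱 h𝒵
  refine ⟨BasedFunctor.comp i₁ (BasedFunctor.comp (FibCat.fpSnd x (FibCat.fpFst f
    (BasedFunctor.comp y g))) (BasedFunctor.comp i₂ (FibCat.fpFst (FibCat.fpSnd f g) y))), ?_⟩
  intro P hP hx hy
  exact repByAlgSpWith_equiv_comp _ i₁ hi₁ _ (repByAlgSpWith_comp_good hP hA hB _ _
    (repByAlgSpWith_fpSnd _ x _ hx)
    (repByAlgSpWith_equiv_comp _ i₂ hi₂ _ (repByAlgSpWith_fpFst _ y _ hy)))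

/-- An etale surjective cover by a category representable by an algebraic space yields an etale
surjective atlas by a scheme. -/
theorem hasAtlas_etale_of_cover {𝒜 : AlgSt.Cat S} (h𝒜 : AlgSt.RepByAlgSp 𝒜) (a : 𝒜 ⥤ᵇ 𝒳)
    (het : AlgSt.RepByAlgSpWith AlgSp.IsEtaleMor a)
    (hsu : AlgSt.RepByAlgSpWith AlgSp.IsSurjectiveMor a) :
    AlgSt.HasAtlas AlgSp.IsEtaleMor 𝒳 := by
  obtain ⟨F, e, he⟩ := h𝒜
  obtain ⟨W, c, -, hc2, hc3⟩ := exists_chart F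
  have hF : FibCat.IsFibGrpd (AlgSt.ofSp F.obj).p := Stk.isFibGrpd_ofPsh _
  have hO := isFibGrpd_overForget W
  exact ⟨W, BasedFunctor.comp c (BasedFunctor.comp e a),
    repByAlgSpWith_comp_good good_etaleMor hO hF c _ hc3 (repByAlgSpWith_equiv_comp _ e he _ het),
    repByAlgSpWith_comp_surjective hO hF c _ hc2 (repByAlgSpWith_equiv_comp _ e he _ hsu)⟩

/-- The 2-fibre product of algebraic stacks, for any topology. -/
theorem isAlgStack_fp_gen (K : Precoverage Scheme.{u}) (h𝒵 : Stk.IsStack (QuotSh.J K S) 𝒵)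
    (hΔ : AlgSt.RepByAlgSp1 (FibCat.diag (FibCat.toSelf 𝒵)))
    (h𝒳 : AlgSt.IsAlgStack K 𝒳) (h𝒴 : AlgSt.IsAlgStack K 𝒴) (f : 𝒳 ⥤ᵇ 𝒵) (g : 𝒴 ⥤ᵇ 𝒵) :
    AlgSt.IsAlgStack K (FibCat.fp f g) where
  isStack := Groth.Agent.Lib.Helper10.StkFp.isStack_fp f g _ h𝒳.isStack h𝒴.isStack
    (isPrestack_of_isStack h𝒵)
  diag := by
    have f𝒳 := h𝒳.isStack.1
    have f𝒴 := h𝒴.isStack.1
    have h1 : AlgSt.RepByAlgSp1 (FibCat.diag g) :=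
      repByAlgSp1_diag_of_diag_toSelf f𝒴 h𝒵.1 h𝒴.diag hΔ g
    have h2 : AlgSt.RepByAlgSp1 (FibCat.diag (FibCat.fpFst f g)) :=
      repByAlgSp1_of_with ⊤ _ (repByAlgSpWith_diag_fpFst ⊤ f𝒴 h𝒵.1 f𝒳 g f
        (repByAlgSpWith_top _ h1))
    exact repByAlgSp1_diag_toSelf_of_diag (isFibGrpd_fp f g f𝒳 f𝒴 h𝒵.1) f𝒳 h𝒳.diag _ h2
  atlas := by
    obtain ⟨U, x, hx1, hx2⟩ := h𝒳.atlas
    obtain ⟨V, y, hy1, hy2⟩ := h𝒴.atlas
    obtain ⟨a, ha1, ha2⟩ := exists_cover_fp (isFibGrpd_overForget U) (isFibGrpd_overForget V)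
      h𝒳.isStack.1 h𝒴.isStack.1 h𝒵.1 f g x y hx1 hx2 hy1 hy2
    exact hasAtlas_of_cover (repByAlgSp1_of_diag h𝒵.1 hΔ V (BasedFunctor.comp y g) U
      (BasedFunctor.comp x f)) a ha1 ha2

/-- The 2-fibre product of Deligne–Mumford stacks, for any topology. -/
theorem isDM_fp_gen (K : Precoverage Scheme.{u}) (h𝒵 : Stk.IsStack (QuotSh.J K S) 𝒵)
    (hΔ : AlgSt.RepByAlgSp1 (FibCat.diag (FibCat.toSelf 𝒵)))
    (h𝒳 : AlgSt.IsDM K 𝒳) (h𝒴 : AlgSt.IsDM K 𝒴) (f : 𝒳 ⥤ᵇ 𝒵) (g : 𝒴 ⥤ᵇ 𝒵) :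
    AlgSt.IsDM K (FibCat.fp f g) := by
  refine ⟨isAlgStack_fp_gen K h𝒵 hΔ h𝒳.1 h𝒴.1 f g, ?_⟩
  obtain ⟨U, x, hx1, hx2⟩ := h𝒳.2
  obtain ⟨V, y, hy1, hy2⟩ := h𝒴.2
  obtain ⟨a, ha⟩ := exists_cover_fp_good (isFibGrpd_overForget U) (isFibGrpd_overForget V)
    h𝒳.1.isStack.1 h𝒴.1.isStack.1 h𝒵.1 f g x y
  exact hasAtlas_etale_of_cover (repByAlgSp1_of_diag h𝒵.1 hΔ V (BasedFunctor.comp y g) U
    (BasedFunctor.comp x f)) a (ha _ good_etaleMor hx1 hy1) (ha _ good_surjective hx2 hy2)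

end Groth.Agent.Lib.Helper28.AlgSt.FpStackGen
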