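import Mathlib
import Groth.Prelude.Def_FibCat2
import Groth.Agent.Lib.Helper10.Fib3
import Groth.Agent.Lib.Helper10.Fib4
import Groth.Agent.Lib.Helper10.FibCart

/-!
# The relative inertia is the self fibre product of the diagonal

`Ψ : inertia f ⥤ᵇ fp (diag f) (diag f)` is an equivalence over the base, compatible with the
projection to `𝒳` and sending the neutral section to the second diagonal.
-/

set_option autoImplicit false
set_option backward.isDefEq.respectTransparency false
set_option backward.isDefEq.respectTransparency.types false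

universe v₃ u₃ v₂ u₂ v₁ u₁

open CategoryTheory CategoryTheory.Limits

namespace Groth.Agent.Lib.Helper28.AlgSt.Inertia

open Groth.Agent.Lib.Helper10.Fib

variable {C : Type u₁} [Category.{v₁} C] {𝒳 : BasedCategory.{v₂, u₂} C}
  {𝒴 : BasedCategory.{v₃, u₃} C} (f : 𝒳 ⥤ᵇ 𝒴)

lemma aut_isHomLift (z : FibCat.InertiaObj f) :
    𝒳.p.IsHomLift (𝟙 (𝒳.p.obj z.pt)) z.aut.hom := by
  have h := IsHomLift.map 𝒳.p z.aut.hom
  rw [inertia_map_aut f z] at h
  exact h

/-- The universal automorphism, as a 2-automorphism of `inertiaToBase f ⋙ diag f`. -/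
def inE : BasedFunctor.comp (FibCat.inertiaToBase f) (FibCat.diag f) ≅
    BasedFunctor.comp (FibCat.inertiaToBase f) (FibCat.diag f) :=
  BasedNatIso.mkNatIso
    (NatIso.ofComponents (fun z =>
      (FibCat.fpProp f f).isoMk
        (X := (FibCat.diag f).obj z.pt) (Y := (FibCat.diag f).obj z.pt)
        (CategoricalPullback.mkIso z.aut (Iso.refl z.pt) (by
          show f.map z.aut.hom ≫ 𝟙 (f.obj z.pt) = 𝟙 (f.obj z.pt) ≫ f.map (𝟙 z.pt)
          rw [z.map_aut]
          simp)))
      (fun {z z'} k => by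
        apply ObjectProperty.hom_ext
        apply CategoricalPullback.hom_ext
        · exact k.comm.symm
        · exact (Category.comp_id _).trans (Category.id_comp _).symm))
    (fun z => by
      rw [fp_isHomLift_iff]
      exact aut_isHomLift f z)

/-- The comparison functor from the relative inertia to the self fibre product of the
diagonal. -/
def Ψ : FibCat.inertia f ⥤ᵇ FibCat.fp (FibCat.diag f) (FibCat.diag f) :=
  FibCat.fpLift (FibCat.inertiaToBase f) (FibCat.inertiaToBase f) (inE f)

/-- `Ψ` followed by the first projection is the projection of the inertia. -/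
def psiFst : BasedFunctor.comp (Ψ f) (FibCat.fpFst (FibCat.diag f) (FibCat.diag f)) ≅
    FibCat.inertiaToBase f :=
  Iso.refl _

/-- `Ψ` sends the neutral section to the second diagonal. -/
def psiNeutral : BasedFunctor.comp (FibCat.inertiaNeutral f) (Ψ f) ≅
    FibCat.diag (FibCat.diag f) :=
  BasedNatIso.mkNatIso
    (NatIso.ofComponents (fun x =>
      (FibCat.fpProp (FibCat.diag f) (FibCat.diag f)).isoMk
        (X := (BasedFunctor.comp (FibCat.inertiaNeutral f) (Ψ f)).obj x)
        (Y := (FibCat.diag (FibCat.diag f)).obj x)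
        (CategoricalPullback.mkIso (Iso.refl x) (Iso.refl x) (by
          apply ObjectProperty.hom_ext
          apply CategoricalPullback.hom_ext
          · show (𝟙 x ≫ 𝟙 x : x ⟶ x) = 𝟙 x ≫ 𝟙 x
            rfl
          · show (𝟙 x ≫ 𝟙 x : x ⟶ x) = 𝟙 x ≫ 𝟙 x
            rfl)))
      (fun {x x'} k => by
        apply ObjectProperty.hom_ext
        apply CategoricalPullback.hom_ext
        · exact (Category.comp_id _).trans (Category.id_comp _).symm
        · exact (Category.comp_id _).trans (Category.id_comp _).symm))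
    (fun x => by
      rw [fp_isHomLift_iff]
      exact IsHomLift.id rfl)

lemma psi_faithful : (Ψ f).toFunctor.Faithful := by
  constructor
  intro z z' k k' h
  apply FibCat.InertiaObj.hom_ext
  exact congrArg (fun t => t.hom.fst) h

lemma psi_full : (Ψ f).toFunctor.Full := by
  constructor
  intro z z' n
  have h1 : n.hom.fst ≫ z'.aut.hom = z.aut.hom ≫ n.hom.snd :=
    congrArg (fun t => t.hom.fst) n.hom.w
  have h2 : n.hom.fst ≫ 𝟙 z'.pt = 𝟙 z.pt ≫ n.hom.snd :=
    congrArg (fun t => t.hom.snd) n.hom.w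
  have h3 : n.hom.fst = n.hom.snd :=
    (Category.comp_id _).symm.trans (h2.trans (Category.id_comp _))
  refine ⟨⟨n.hom.fst, ?_⟩, ?_⟩
  · rw [h1, h3]
  · apply ObjectProperty.hom_ext
    apply CategoricalPullback.hom_ext
    · rfl
    · exact h3

lemma psi_ess (y : (FibCat.fp (FibCat.diag f) (FibCat.diag f)).obj) :
    ∃ (z : (FibCat.inertia f).obj) (e : (Ψ f).obj z ≅ y),
      (FibCat.fp (FibCat.diag f) (FibCat.diag f)).p.IsHomLift
        (𝟙 ((FibCat.fp (FibCat.diag f) (FibCat.diag f)).p.obj y)) e.hom := by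
  obtain ⟨⟨x, x', ι⟩, hy⟩ := y
  let A : x ≅ x' := (FibCat.fpFst f f).toFunctor.mapIso ι
  let B : x ≅ x' := (FibCat.fpSnd f f).toFunctor.mapIso ι
  have hw : f.map A.hom ≫ 𝟙 (f.obj x') = 𝟙 (f.obj x) ≫ f.map B.hom := ι.hom.hom.w
  have hAB : f.map A.hom = f.map B.hom :=
    (Category.comp_id _).symm.trans (hw.trans (Category.id_comp _))
  have hα : f.map (A ≪≫ B.symm).hom = 𝟙 (f.obj x) := by
    show f.map (A.hom ≫ B.inv) = 𝟙 (f.obj x)
    rw [f.toFunctor.map_comp, hAB, ← f.toFunctor.map_comp, B.hom_inv_id, f.toFunctor.map_id]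
  let z : (FibCat.inertia f).obj := ⟨x, A ≪≫ B.symm, hα⟩
  refine ⟨z, (FibCat.fpProp (FibCat.diag f) (FibCat.diag f)).isoMk
    (X := (Ψ f).obj z) (Y := ⟨⟨x, x', ι⟩, hy⟩)
    (CategoricalPullback.mkIso (Iso.refl x) B ?_), ?_⟩
  · apply ObjectProperty.hom_ext
    apply CategoricalPullback.hom_ext
    · show 𝟙 x ≫ A.hom = (A.hom ≫ B.inv) ≫ B.hom
      rw [Category.id_comp, Category.assoc, B.inv_hom_id, Category.comp_id]
    · show 𝟙 x ≫ B.hom = 𝟙 x ≫ B.hom
      rfl
  · rw [fp_isHomLift_iff]
    exact IsHomLift.id rfl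

theorem isEquivOver_psi : FibCat.IsEquivOver (Ψ f) := by
  haveI := psi_faithful f
  haveI := psi_full f
  exact isEquivOver_of_ff _ (psi_ess f)

end Groth.Agent.Lib.Helper28.AlgSt.Inertia


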