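import Mathlib
import Groth.Agent.Lib.Helper28.AlgSt.Inertia
import Groth.Agent.Lib.Helper28.AlgSt.DiagCancel
import Groth.Agent.Lib.Helper28.AlgSt.FpEquiv

/-!
# The relative inertia of a morphism of algebraic stacks
-/

set_option autoImplicit false

universe u

open CategoryTheory CategoryTheory.Limits AlgebraicGeometry Opposite

namespace Groth.Agent.Lib.Helper28.AlgSt.InertiaStack

open Groth.Agent.Lib.Helper10.Fib Groth.Agent.Lib.Helper10.AlgStRep
open Groth.Agent.Lib.Helper10.StkPost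
open Groth.Agent.Lib.Helper28.AlgSt.PropInst Groth.Agent.Lib.Helper28.AlgSt.SpaceCalc
open Groth.Agent.Lib.Helper28.AlgSt.Key Groth.Agent.Lib.Helper28.AlgSt.DiagComp
open Groth.Agent.Lib.Helper28.AlgSt.DiagTFAE Groth.Agent.Lib.Helper28.AlgSt.Inertia
open Groth.Agent.Lib.Helper28.AlgSt.FpEquiv

variable {S : Scheme.{u}} {𝒳 𝒴 : AlgSt.Cat S}

/-- A section `g` of `q` has `P` when the diagonal of `q` has `P`. -/
theorem repByAlgSpWith_section (P : MorphismProperty (AlgSp.Sp S))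
    (h𝒳 : FibCat.IsFibGrpd 𝒳.p) (h𝒴 : FibCat.IsFibGrpd 𝒴.p) (q : 𝒴 ⥤ᵇ 𝒳) (g : 𝒳 ⥤ᵇ 𝒴)
    (e : BasedFunctor.comp (BasedFunctor.id 𝒳) (BasedFunctor.id 𝒳) ≅ BasedFunctor.comp g q)
    (hq : AlgSt.RepByAlgSpWith P (FibCat.diag q)) : AlgSt.RepByAlgSpWith P g := by
  have h1 : AlgSt.RepByAlgSpWith P (FibCat.fpLift (BasedFunctor.id 𝒳) g e) :=
    repByAlgSpWith_graph P h𝒳 h𝒴 h𝒳 (BasedFunctor.id 𝒳) q g e hq
  have hb : FibCat.IsEquivOver (FibCat.fpSnd (BasedFunctor.id 𝒳) q) :=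
    isEquivOver_fpSnd (BasedFunctor.id 𝒳) q (isEquivOver_id _)
  exact repByAlgSpWith_of_square P g (FibCat.fpLift (BasedFunctor.id 𝒳) g e) (BasedFunctor.id 𝒳)
    (FibCat.fpSnd (BasedFunctor.id 𝒳) q) (isEquivOver_id _) hb (Iso.refl _) h1

variable (f : 𝒳 ⥤ᵇ 𝒴)

theorem isFibGrpd_inertia (h𝒳 : FibCat.IsFibGrpd 𝒳.p) (h𝒴 : FibCat.IsFibGrpd 𝒴.p) :
    FibCat.IsFibGrpd (FibCat.inertia f).p := by
  obtain ⟨G, h1, h2⟩ := isEquivOver_psi f
  have hff := isFibGrpd_fp f f h𝒳 h𝒳 h𝒴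
  exact isFibGrpd_of_isEquivOver G ⟨Ψ f, h2, h1⟩
    (isFibGrpd_fp (FibCat.diag f) (FibCat.diag f) h𝒳 h𝒳 hff)

/-- The projection of the inertia has `P` iff the base change of the diagonal along itself
does. -/
theorem repWith_inertiaToBase_iff (P : MorphismProperty (AlgSp.Sp S)) :
    AlgSt.RepByAlgSpWith P (FibCat.inertiaToBase f) ↔
      AlgSt.RepByAlgSpWith P (FibCat.fpFst (FibCat.diag f) (FibCat.diag f)) :=
  ⟨fun h => repByAlgSpWith_of_square P (FibCat.fpFst (FibCat.diag f) (FibCat.diag f))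
      (FibCat.inertiaToBase f) (Ψ f) (BasedFunctor.id 𝒳) (isEquivOver_psi f) (isEquivOver_id _)
      (psiFst f).symm h,
    fun h => repByAlgSpWith_of_square' P (FibCat.fpFst (FibCat.diag f) (FibCat.diag f))
      (FibCat.inertiaToBase f) (Ψ f) (BasedFunctor.id 𝒳) (isEquivOver_psi f) (isEquivOver_id _)
      (psiFst f).symm h⟩

/-- The neutral section has `P` iff the second diagonal does. -/
theorem repWith_inertiaNeutral_iff (P : MorphismProperty (AlgSp.Sp S)) :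
    AlgSt.RepByAlgSpWith P (FibCat.inertiaNeutral f) ↔
      AlgSt.RepByAlgSpWith P (FibCat.diag (FibCat.diag f)) :=
  ⟨fun h => repByAlgSpWith_of_square P (FibCat.diag (FibCat.diag f))
      (FibCat.inertiaNeutral f) (BasedFunctor.id 𝒳) (Ψ f) (isEquivOver_id _) (isEquivOver_psi f)
      (psiNeutral f) h,
    fun h => repByAlgSpWith_of_square' P (FibCat.diag (FibCat.diag f))
      (FibCat.inertiaNeutral f) (BasedFunctor.id 𝒳) (Ψ f) (isEquivOver_id _) (isEquivOver_psi f)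
      (psiNeutral f) h⟩

/-- If the diagonal has `P` then so does the projection of the inertia. -/
theorem repWith_inertiaToBase_of_diag (P : MorphismProperty (AlgSp.Sp S))
    (h : AlgSt.RepByAlgSpWith P (FibCat.diag f)) :
    AlgSt.RepByAlgSpWith P (FibCat.inertiaToBase f) :=
  (repWith_inertiaToBase_iff f P).2 (repByAlgSpWith_fpFst P (FibCat.diag f) (FibCat.diag f) h)

/-- If the diagonal of the projection of the inertia has `P`, the neutral section has `P`. -/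
theorem repWith_inertiaNeutral_of_diag_toBase (P : MorphismProperty (AlgSp.Sp S))
    (h𝒳 : FibCat.IsFibGrpd 𝒳.p) (h𝒴 : FibCat.IsFibGrpd 𝒴.p)
    (h : AlgSt.RepByAlgSpWith P (FibCat.diag (FibCat.inertiaToBase f))) :
    AlgSt.RepByAlgSpWith P (FibCat.inertiaNeutral f) :=
  repByAlgSpWith_section P h𝒳 (isFibGrpd_inertia f h𝒳 h𝒴) (FibCat.inertiaToBase f)
    (FibCat.inertiaNeutral f) (Iso.refl _) h

end Groth.Agent.Lib.Helper28.AlgSt.InertiaStack
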