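import Mathlib
import Groth.Agent.Lib.Helper28.AlgSt.IsoEquiv
import Groth.Agent.Lib.Helper28.AlgSt.Descent
import Groth.Agent.Lib.Helper28.AlgSt.FpStack
import Groth.Agent.Lib.Helper16.LocPSource
import Groth.Agent.S12818
import Groth.Agent.S12819

/-!
# Closed substacks and reduced stacks
-/

set_option autoImplicit false

universe u

open CategoryTheory CategoryTheory.Limits AlgebraicGeometry Opposite

namespace Groth.Agent.Lib.Helper28.AlgSt.ReducedSub

open Groth.Agent.Lib.Helper10.Fib Groth.Agent.Lib.Helper10.AlgStRep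
open Groth.Agent.Lib.Helper28.AlgSt.PropInst Groth.Agent.Lib.Helper28.AlgSt.SpaceCalc
open Groth.Agent.Lib.Helper28.AlgSt.Key Groth.Agent.Lib.Helper28.AlgSt.Bridge
open Groth.Agent.Lib.Helper28.AlgSt.IsoEquiv

variable {S : Scheme.{u}}

/-- A surjective closed immersion onto a reduced scheme is an isomorphism. -/
theorem isIso_of_closedImm_surjective_reduced {A : AlgSp.Sp S} {V : Over S} [IsReduced V.left]
    (m : A ⟶ (AlgSp.yon S).obj V) (h1 : AlgSp.RepWith @IsClosedImmersion m)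
    (h2 : AlgSp.IsSurjectiveMor m) : IsIso m := by
  obtain ⟨Z, snd, fst, sq⟩ := h1.rep (𝟙 ((AlgSp.yon S).obj V))
  haveI : IsIso fst := sq.isIso_fst_of_isIso
  haveI hcl : IsClosedImmersion snd.left := h1.property (𝟙 _) fst snd sq
  have hs : AlgSp.RepWith @Surjective m :=
    (Groth.Agent.Lib.Helper16.repWith_surjective_iff m h1.rep).2 h2
  haveI hsurj : Surjective snd.left := hs.property (𝟙 _) fst snd sq
  haveI : IsIso snd.left := isIso_of_isClosedImmersion_of_surjective snd.left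
  haveI : IsIso ((Over.forget S).map snd) := (inferInstance : IsIso snd.left)
  haveI : IsIso snd := isIso_of_reflects_iso snd (Over.forget S)
  have hm : m = inv fst ≫ (AlgSp.yon S).map snd := by
    rw [IsIso.eq_inv_comp]
    simpa using sq.w
  rw [hm]
  infer_instance

variable {𝒳 𝒴 : AlgSt.Cat S}

open Groth.Agent.Lib.Helper28.AlgSt.Descent Groth.Agent.Lib.Helper28.AlgSt.FpStack in
/-- A 1-morphism from a reduced algebraic stack whose image on points lies in a closed substack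
factors through it. -/
theorem forall_mem_of_points_subset (h𝒳 : AlgSt.IsAlgStack Scheme.fppfPrecoverage 𝒳)
    (h𝒴 : AlgSt.IsAlgStack Scheme.fppfPrecoverage 𝒴)
    (hred : AlgSt.SmoothLocally (fun X => IsReduced X) 𝒴)
    (Q : 𝒳.obj → Prop) (hQ : AlgSt.IsClosedSubstack 𝒳 Q Scheme.fppfPrecoverage) (f : 𝒴 ⥤ᵇ 𝒳)
    (hpts : Set.range (AlgSt.Points.map f) ⊆ Set.range (AlgSt.Points.map (AlgSt.subIncl 𝒳 Q)))
    (y : 𝒴.obj) : Q (f.obj y) := by
  obtain ⟨hQiso, h𝒳', hcl⟩ := hQ
  set incl := AlgSt.subIncl 𝒳 Q with hincl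
  set j := FibCat.fpFst f incl with hj
  have h𝒲 : AlgSt.IsAlgStack Scheme.fppfPrecoverage (FibCat.fp f incl) :=
    isAlgStack_fp h𝒳.isStack h𝒳.diag h𝒴 h𝒳' f incl
  have hjcl : AlgSt.RepByAlgSpWith (AlgSp.RepWith @IsClosedImmersion) j :=
    repByAlgSpWith_fpFst _ incl f hcl
  have hj1 : AlgSt.RepByAlgSp1 j := repByAlgSp1_of_with _ _ hjcl
  have hjs : AlgSt.IsSurjective j := by
    intro p
    obtain ⟨x', hx'⟩ := hpts ⟨p, rfl⟩
    obtain ⟨w, hw, -⟩ := Groth.Agent.S12818.result h𝒳' h𝒳 h𝒴 incl f p x' hx'.symm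
    exact ⟨w, hw⟩
  have hjs' : AlgSt.RepByAlgSpWith AlgSp.IsSurjectiveMor j :=
    (Groth.Agent.S12819.result h𝒲 h𝒴 j hj1).1 hjs
  obtain ⟨V, v, hvsm, hvs⟩ := h𝒴.atlas
  haveI hVred : IsReduced V.left := hred V v hvsm
  set g₀ := FibCat.fpFst v j with hg₀
  obtain ⟨A, e, he⟩ := hj1 V v
  have hm1 : AlgSp.RepWith @IsClosedImmersion
      (AlgSt.spMapOfOver (BasedFunctor.comp e g₀)) :=
    (repByAlgSpWith_iff_chart _ good_closedImm.bc good_closedImm.loc g₀ e he).1
      (repByAlgSpWith_fpFst _ j v hjcl)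
  have hm2 : AlgSp.IsSurjectiveMor (AlgSt.spMapOfOver (BasedFunctor.comp e g₀)) :=
    (repByAlgSpWith_iff_chart _ good_surjective.bc good_surjective.loc g₀ e he).1
      (repByAlgSpWith_fpFst _ j v hjs')
  have hm : IsIso (AlgSt.spMapOfOver (BasedFunctor.comp e g₀)) :=
    isIso_of_closedImm_surjective_reduced _ hm1 hm2
  have hg₀iso : AlgSt.RepByAlgSpWith (MorphismProperty.isomorphisms (AlgSp.Sp S)) g₀ :=
    (repByAlgSpWith_iff_chart _ good_iso.bc good_iso.loc g₀ e he).2 hm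
  have hvfl : AlgSt.RepByAlgSpWith (AlgSp.LocP @Flat) v :=
    repByAlgSpWith_mono v (fun F U g hg => Groth.Agent.Lib.Helper16.locP_mono
      (fun _ _ k hk => by
        have : Smooth k := hk
        exact (inferInstance : Flat k)) hg) hvsm
  have hvfp : AlgSt.RepByAlgSpWith (AlgSp.LocP @LocallyOfFinitePresentation) v :=
    repByAlgSpWith_mono v (fun F U g hg => Groth.Agent.Lib.Helper16.locP_mono
      (fun _ _ k hk => by
        have : Smooth k := hk
        exact (inferInstance : LocallyOfFinitePresentation k)) hg) hvsm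
  have hjiso : AlgSt.RepByAlgSpWith (MorphismProperty.isomorphisms (AlgSp.Sp S)) j :=
    repByAlgSpWith_of_fpFst_cover h𝒲.isStack.1 h𝒴.isStack.1 (isFibGrpd_overForget (U := V)) _
      good_iso.bc good_iso.loc j hj1 v hvfl hvfp hvs hg₀iso
  have hjE : FibCat.IsEquivOver j :=
    isEquivOver_of_repWith_iso h𝒲.isStack.1 h𝒴.isStack.1 j hjiso
  obtain ⟨c, φ, -⟩ := IsEquivOver.exists_iso hjE y
  let ψ : (c.obj.snd).obj ≅ f.obj (j.obj c) := c.obj.iso.symm
  exact hQiso.of_iso (ψ ≪≫ f.toFunctor.mapIso φ) c.obj.snd.property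

end Groth.Agent.Lib.Helper28.AlgSt.ReducedSub
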