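import Mathlib
import Groth.Agent.Lib.Helper28.AlgSt.SmoothLocal
import Groth.Agent.Lib.Helper28.AlgSt.Chart
import Groth.Agent.Lib.Helper28.AlgSt.SpaceStack

/-!
# Smooth-local properties of schemes on algebraic stacks: charts from algebraic spaces
-/

set_option autoImplicit false

universe u

open CategoryTheory CategoryTheory.Limits AlgebraicGeometry Opposite

namespace Groth.Agent.Lib.Helper28.AlgSt.SmoothLocal

open Groth.Agent.Lib.Helper10.Fib Groth.Agent.Lib.Helper10.AlgStRep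
open Groth.Agent.Lib.Helper28.AlgSt.PropInst Groth.Agent.Lib.Helper28.AlgSt.SpaceCalc
open Groth.Agent.Lib.Helper28.AlgSt.Key Groth.Agent.Lib.Helper28.AlgSt.Chart
open Groth.Agent.Lib.Helper28.AlgSt.Bridge Groth.Agent.Lib.Helper28.AlgSt.SpaceStack
open Groth.Agent.Lib.Helper16 Groth.Agent.Lib.Helper15 AlgSp

variable {S : Scheme.{u}}

/-- The 1-morphism from a scheme attached to a representable etale surjective map to a sheaf is
smooth and surjective. -/
theorem chart_of_atlas {F : AlgSp.Sp S} {W : Over S} (p : (AlgSp.yon S).obj W ⟶ F)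
    (hpe : AlgSp.RepWith @Etale p) (hps : AlgSp.RepWith @Surjective p) :
    AlgSt.RepByAlgSpWith (AlgSp.LocP @Smooth)
        (BasedFunctor.comp (AlgSt.ofOverCat W) (AlgSt.ofSpMap p)) ∧
      AlgSt.RepByAlgSpWith AlgSp.IsSurjectiveMor
        (BasedFunctor.comp (AlgSt.ofOverCat W) (AlgSt.ofSpMap p)) := by
  constructor
  · apply repByAlgSpWith_equiv_comp _ _ (isEquivOver_ofOverCat W)
    apply repByAlgSpWith_ofSpMap_of_representable _ p hpe.rep
    intro U V g fst snd sq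
    have h1 : Etale snd.left := hpe.property _ _ _ sq
    exact locP_of_repWith_etale etLocalST_smooth (AlgSp.IsAlgSpace.yon_obj V)
      (AlgSp.IsAlgSpace.yon_obj U) _ ((AlgSp.repWith_yon_map_iff _ _).2 h1)
  · apply repByAlgSpWith_equiv_comp _ _ (isEquivOver_ofOverCat W)
    apply repByAlgSpWith_ofSpMap_of_representable _ p hps.rep
    intro U V g fst snd sq
    have h1 : Surjective snd.left := hps.property _ _ _ sq
    have h2 : AlgSp.RepWith @Surjective ((AlgSp.yon S).map snd) :=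
      (AlgSp.repWith_yon_map_iff _ _).2 h1
    exact (repWith_surjective_iff _ h2.rep).1 h2

/-- A property of schemes local in the smooth topology passes down an etale surjective map of
representable sheaves. -/
theorem prop_of_etale_surjective (P : Scheme.{u} → Prop)
    (hP : ∀ (U : Scheme.{u}) (R : Presieve U), R ∈ Scheme.precoverage @Smooth U →
      (P U ↔ ∀ ⦃V : Scheme.{u}⦄ (g : V ⟶ U), R g → P V))
    {W V : Over S} (p : (AlgSp.yon S).obj W ⟶ (AlgSp.yon S).obj V)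
    (hpe : AlgSp.RepWith @Etale p) (hps : AlgSp.RepWith @Surjective p) (hW : P W.left) :
    P V.left := by
  obtain ⟨g, rfl⟩ := (AlgSp.yon S).map_surjective p
  have h1 : Etale g.left := (AlgSp.repWith_yon_map_iff _ g).1 hpe
  have h2 : Surjective g.left := (AlgSp.repWith_yon_map_iff _ g).1 hps
  exact prop_of_smooth_chart P hP g.left (𝟙 W.left) inferInstance h2 inferInstance hW

variable {𝒳 : AlgSt.Cat S}

theorem smoothLocally_iff_forall_space (h𝒳 : AlgSt.IsAlgStack Scheme.fppfPrecoverage 𝒳)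
    (P : Scheme.{u} → Prop)
    (hP : ∀ (U : Scheme.{u}) (R : Presieve U), R ∈ Scheme.precoverage @Smooth U →
      (P U ↔ ∀ ⦃V : Scheme.{u}⦄ (g : V ⟶ U), R g → P V)) :
    AlgSt.SmoothLocally P 𝒳 ↔
      ∀ (U : AlgSp.Space S) (x : AlgSt.ofSp U.obj ⥤ᵇ 𝒳),
        AlgSt.RepByAlgSpWith (AlgSp.LocP @Smooth) x → AlgSp.EtaleLocally P U.obj := by
  constructor
  · intro h U x hx
    obtain ⟨W, p, hpe, hps⟩ := U.property.atlas
    obtain ⟨hc1, -⟩ := chart_of_atlas p hpe hps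
    refine ⟨W, p, hpe, hps, h W _ (repByAlgSpWith_comp_smooth (isFibGrpd_overForget W)
      (Stk.isFibGrpd_ofPsh _) _ x hc1 hx)⟩
  · intro h V v hv
    obtain ⟨W, p, hpe, hps, hPW⟩ := h ((AlgSp.ofScheme S).obj V)
      (BasedFunctor.comp (AlgSt.toOverCat V) v)
      (repByAlgSpWith_equiv_comp _ _ (isEquivOver_toOverCat V) v hv)
    exact prop_of_etale_surjective P hP p hpe hps hPW

theorem smoothLocally_iff_exists_space (h𝒳 : AlgSt.IsAlgStack Scheme.fppfPrecoverage 𝒳)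
    (P : Scheme.{u} → Prop)
    (hP : ∀ (U : Scheme.{u}) (R : Presieve U), R ∈ Scheme.precoverage @Smooth U →
      (P U ↔ ∀ ⦃V : Scheme.{u}⦄ (g : V ⟶ U), R g → P V)) :
    AlgSt.SmoothLocally P 𝒳 ↔
      ∃ (U : AlgSp.Space S) (x : AlgSt.ofSp U.obj ⥤ᵇ 𝒳),
        AlgSt.RepByAlgSpWith (AlgSp.LocP @Smooth) x ∧
          AlgSt.RepByAlgSpWith AlgSp.IsSurjectiveMor x ∧ AlgSp.EtaleLocally P U.obj := by
  constructor
  · intro h
    obtain ⟨U₀, x₀, hsm, hsu⟩ := h𝒳.atlas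
    exact ⟨(AlgSp.ofScheme S).obj U₀, BasedFunctor.comp (AlgSt.toOverCat U₀) x₀,
      repByAlgSpWith_equiv_comp _ _ (isEquivOver_toOverCat U₀) x₀ hsm,
      repByAlgSpWith_equiv_comp _ _ (isEquivOver_toOverCat U₀) x₀ hsu,
      ⟨U₀, 𝟙 _, AlgSp.repWith_id _ U₀, AlgSp.repWith_id _ U₀, h U₀ x₀ hsm⟩⟩
  · rintro ⟨U, x, hsm, hsu, ⟨W, p, hpe, hps, hPW⟩⟩
    obtain ⟨hc1, hc2⟩ := chart_of_atlas p hpe hps
    exact (smoothLocally_iff h𝒳 P hP).2 ⟨W, _,
      repByAlgSpWith_comp_smooth (isFibGrpd_overForget W) (Stk.isFibGrpd_ofPsh _) _ x hc1 hsm,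
      repByAlgSpWith_comp_surjective (isFibGrpd_overForget W) (Stk.isFibGrpd_ofPsh _) _ x hc2 hsu,
      hPW⟩

theorem smoothLocally_ofSp_iff (X : AlgSp.Space S) (P : Scheme.{u} → Prop)
    (hP : ∀ (U : Scheme.{u}) (R : Presieve U), R ∈ Scheme.precoverage @Smooth U →
      (P U ↔ ∀ ⦃V : Scheme.{u}⦄ (g : V ⟶ U), R g → P V)) :
    AlgSt.SmoothLocally P (AlgSt.ofSp X.obj) ↔ AlgSp.EtaleLocally P X.obj := by
  have hX : AlgSt.IsAlgStack Scheme.fppfPrecoverage (AlgSt.ofSp X.obj) :=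
    isAlgStack_of_repByAlgSp ⟨X, BasedFunctor.id _, isEquivOver_id _⟩
  constructor
  · intro h
    obtain ⟨W, p, hpe, hps⟩ := X.property.atlas
    obtain ⟨hc1, -⟩ := chart_of_atlas p hpe hps
    exact ⟨W, p, hpe, hps, h W _ hc1⟩
  · rintro ⟨W, p, hpe, hps, hPW⟩
    obtain ⟨hc1, hc2⟩ := chart_of_atlas p hpe hps
    exact (smoothLocally_iff hX P hP).2 ⟨W, _, hc1, hc2, hPW⟩

theorem smoothLocally_ofSch_iff (U : Over S) (P : Scheme.{u} → Prop)
    (hP : ∀ (U : Scheme.{u}) (R : Presieve U), R ∈ Scheme.precoverage @Smooth U →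
      (P U ↔ ∀ ⦃V : Scheme.{u}⦄ (g : V ⟶ U), R g → P V)) :
    AlgSt.SmoothLocally P (AlgSt.ofSch U) ↔ P U.left := by
  refine (smoothLocally_ofSp_iff ((AlgSp.ofScheme S).obj U) P hP).trans ?_
  constructor
  · rintro ⟨W, p, hpe, hps, hPW⟩
    exact prop_of_etale_surjective P hP p hpe hps hPW
  · intro h
    exact ⟨U, 𝟙 _, AlgSp.repWith_id _ U, AlgSp.repWith_id _ U, h⟩

end Groth.Agent.Lib.Helper28.AlgSt.SmoothLocal
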